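import Cfsg.Agent.ONPres.RowData0
import Cfsg.Agent.ONPres.RowData1
import Cfsg.Agent.ONPres.RowData2
import Cfsg.Agent.ONPres.RowData3
import Cfsg.Agent.ONPres.RowData4

/-!
The coset table of the presented O'Nan group.
-/

set_option autoImplicit false

namespace Cfsg.Lib.ONPres

/-- A table of rows. -/
noncomputable def rowT : TT :=
  (.nd 1920 (.nd 960 (.nd 448 (.nd 192 (.nd 64 rowT0 (.nd 128 rowT1 rowT2)) (.nd 320 (.nd 256 rowT3 rowT4) (.nd 384 rowT5 rowT6))) (.nd 704 (.nd 576 (.nd 512 rowT7 rowT8) (.nd 640 rowT9 rowT10)) (.nd 832 (.nd 768 rowT11 rowT12) (.nd 896 rowT13 rowT14)))) (.nd 1408 (.nd 1152 (.nd 1024 rowT15 (.nd 1088 rowT16 rowT17)) (.nd 1280 (.nd 1216 rowT18 rowT19) (.nd 1344 rowT20 rowT21))) (.nd 1664 (.nd 1536 (.nd 1472 rowT22 rowT23) (.nd 1600 rowT24 rowT25)) (.nd 1792 (.nd 1728 rowT26 rowT27) (.nd 1856 rowT28 rowT29))))) (.nd 2880 (.nd 2368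 (.nd 2112 (.nd 1984 rowT30 (.nd 2048 rowT31 rowT32)) (.nd 2240 (.nd 2176 rowT33 rowT34) (.nd 2304 rowT35 rowT36))) (.nd 2624 (.nd 2496 (.nd 2432 rowT37 rowT38) (.nd 2560 rowT39 rowT40)) (.nd 2752 (.nd 2688 rowT41 rowT42) (.nd 2816 rowT43 rowT44)))) (.nd 3328 (.nd 3072 (.nd 2944 rowT45 (.nd 3008 rowT46 rowT47)) (.nd 3200 (.nd 3136 rowT48 rowT49) (.nd 3264 rowT50 rowT51))) (.nd 3584 (.nd 3456 (.nd 3392 rowT52 rowT53) (.nd 3520 rowT54 rowT55)) (.nd 3712 (.nd 3648 rowT56 rowT57) (.nd 3776 rowT58 rowT59))))))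

/-- The row of a coset. -/
noncomputable def rowF (i : ℕ) : ℕ := rowT.fld 5 360 i

end Cfsg.Lib.ONPres
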