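import Cfsg.Agent.ONPres.Tables
import Cfsg.Agent.ONPres.RowData

/-!
The row check of the O'Nan coset table.
-/

set_option autoImplicit false

namespace Cfsg.Lib.ONPres

/-- The seed entries. -/
def seedF (a : ℕ) : Bool := Nat.beq a 76472 || Nat.beq a 3092 || Nat.beq a 3088 || Nat.beq a 4284

/-- The check of a row. -/
noncomputable def chk (i : ℕ) : Bool := rowOK rowF parF rcF seedF 122760 174 i

end Cfsg.Lib.ONPres
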