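import Cfsg.Agent.ONPres.SubData
import Cfsg.Agent.ONPres.Check

/-!
Kernel checks of the suborbits on the coset table of the presented O'Nan group, and their sizes.
-/

set_option autoImplicit false

namespace Cfsg.Lib.ONPres

/-- Suborbit label. -/
def slab (e : ℕ) : ℕ := Nat.mod e 8
/-- Parent edge in a suborbit. -/
def spar (e : ℕ) : ℕ := Nat.mod (Nat.div e 8) 1048576
/-- Position in a suborbit. -/
def spos (e : ℕ) : ℕ := Nat.div e 8388608

/-- The suborbit check at one coset. -/
noncomputable def sub1 (i : ℕ) : Bool :=
  force (subF i) fun e => force (rowF i) fun r => force (slab e) fun l => Nat.blt l 5 &&
    Nat.beq (slab (subF (tg (ent r 1)))) l && Nat.beq (slab (subF (tg (ent r 2)))) l &&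
    Nat.beq (slab (subF (tg (ent r 3)))) l && Nat.beq (slab (subF (tg (ent r 4)))) l &&
    Nat.beq (slab (subF (tg (ent r 5)))) l && Nat.beq (slab (subF (tg (ent r 6)))) l &&
    bif Nat.beq (spos e) 0 then Nat.beq (subBases.getD l 0) i
    else force (spar e) fun k => force (Nat.div k 8) fun p => force (Nat.mod k 8) fun x =>
      Nat.ble 1 x && Nat.ble x 6 && Nat.blt p 122760 && Nat.beq (tgt rowF p x) i &&
        force (subF p) fun e' => Nat.blt (spos e') (spos e) && Nat.beq (slab e') l

/-- Count the members of a suborbit in an interval, then compare. -/
noncomputable def cntOK (l c : ℕ) : ℕ → ℕ → ℕ → Bool
  | 0, _, acc => Nat.beq acc c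
  | k + 1, lo, acc => force (bif Nat.beq (slab (subF lo)) l then Nat.succ acc else acc) fun a =>
      force (lo + 1) fun m => cntOK l c k m a

theorem cntOK_sound (l c : ℕ) : ∀ k lo acc, cntOK l c k lo acc = true →
    acc + ((Finset.Ico lo (lo + k)).filter fun i => slab (subF i) = l).card = c := by
  intro k
  induction k with
  | zero => intro lo acc h; simpa [cntOK] using h
  | succ k ih =>
    intro lo acc h
    simp only [cntOK, force_eq] at h
    have := ih _ _ h
    rw [show lo + 1 + k = lo + (k + 1) by omega] at this
    rw [← Finset.insert_Ico_add_one_left_eq_Ico (show lo < lo + (k + 1) by omega), Finset.filter_insert]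
    by_cases hl : slab (subF lo) = l
    · rw [if_pos hl, Finset.card_insert_of_notMem (by simp)]
      rw [show Nat.beq (slab (subF lo)) l = true by rw [Nat.beq_eq]; exact hl, cond_true] at this
      omega
    · rw [if_neg hl]
      rw [show Nat.beq (slab (subF lo)) l = false from Bool.eq_false_iff.2 (fun h => hl (by rwa [Nat.beq_eq] at h)),
        cond_false] at this
      omega

set_option maxRecDepth 100000 in
theorem sub_0 : rangeOK sub1 1023 0 = true := by decide +kernel

set_option maxRecDepth 100000 in
theorem sub_1 : rangeOK sub1 1023 1023 = true := by decide +kernel

set_option maxRecDepth 100000 in
theorem sub_2 : rangeOK sub1 1023 2046 = true := by decide +kernel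

set_option maxRecDepth 100000 in
theorem sub_3 : rangeOK sub1 1023 3069 = true := by decide +kernel

set_option maxRecDepth 100000 in
theorem sub_4 : rangeOK sub1 1023 4092 = true := by decide +kernel

set_option maxRecDepth 100000 in
theorem sub_5 : rangeOK sub1 1023 5115 = true := by decide +kernel

set_option maxRecDepth 100000 in
theorem sub_6 : rangeOK sub1 1023 6138 = true := by decide +kernel

set_option maxRecDepth 100000 in
theorem sub_7 : rangeOK sub1 1023 7161 = true := by decide +kernel

set_option maxRecDepth 100000 in
theorem sub_8 : rangeOK sub1 1023 8184 = true := by decide +kernel

set_option maxRecDepth 100000 in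
theorem sub_9 : rangeOK sub1 1023 9207 = true := by decide +kernel

set_option maxRecDepth 100000 in
theorem sub_10 : rangeOK sub1 1023 10230 = true := by decide +kernel

set_option maxRecDepth 100000 in
theorem sub_11 : rangeOK sub1 1023 11253 = true := by decide +kernel

set_option maxRecDepth 100000 in
theorem sub_12 : rangeOK sub1 1023 12276 = true := by decide +kernel

set_option maxRecDepth 100000 in
theorem sub_13 : rangeOK sub1 1023 13299 = true := by decide +kernel

set_option maxRecDepth 100000 in
theorem sub_14 : rangeOK sub1 1023 14322 = true := by decide +kernel

set_option maxRecDepth 100000 in
theorem sub_15 : rangeOK sub1 1023 15345 = true := by decide +kernel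

set_option maxRecDepth 100000 in
theorem sub_16 : rangeOK sub1 1023 16368 = true := by decide +kernel

set_option maxRecDepth 100000 in
theorem sub_17 : rangeOK sub1 1023 17391 = true := by decide +kernel

set_option maxRecDepth 100000 in
theorem sub_18 : rangeOK sub1 1023 18414 = true := by decide +kernel

set_option maxRecDepth 100000 in
theorem sub_19 : rangeOK sub1 1023 19437 = true := by decide +kernel

set_option maxRecDepth 100000 in
theorem sub_20 : rangeOK sub1 1023 20460 = true := by decide +kernel

set_option maxRecDepth 100000 in
theorem sub_21 : rangeOK sub1 1023 21483 = true := by decide +kernel

set_option maxRecDepth 100000 in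
theorem sub_22 : rangeOK sub1 1023 22506 = true := by decide +kernel

set_option maxRecDepth 100000 in
theorem sub_23 : rangeOK sub1 1023 23529 = true := by decide +kernel

set_option maxRecDepth 100000 in
theorem sub_24 : rangeOK sub1 1023 24552 = true := by decide +kernel

set_option maxRecDepth 100000 in
theorem sub_25 : rangeOK sub1 1023 25575 = true := by decide +kernel

set_option maxRecDepth 100000 in
theorem sub_26 : rangeOK sub1 1023 26598 = true := by decide +kernel

set_option maxRecDepth 100000 in
theorem sub_27 : rangeOK sub1 1023 27621 = true := by decide +kernel

set_option maxRecDepth 100000 in
theorem sub_28 : rangeOK sub1 1023 28644 = true := by decide +kernel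

set_option maxRecDepth 100000 in
theorem sub_29 : rangeOK sub1 1023 29667 = true := by decide +kernel

set_option maxRecDepth 100000 in
theorem sub_30 : rangeOK sub1 1023 30690 = true := by decide +kernel

set_option maxRecDepth 100000 in
theorem sub_31 : rangeOK sub1 1023 31713 = true := by decide +kernel

set_option maxRecDepth 100000 in
theorem sub_32 : rangeOK sub1 1023 32736 = true := by decide +kernel

set_option maxRecDepth 100000 in
theorem sub_33 : rangeOK sub1 1023 33759 = true := by decide +kernel

set_option maxRecDepth 100000 in
theorem sub_34 : rangeOK sub1 1023 34782 = true := by decide +kernel

set_option maxRecDepth 100000 in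
theorem sub_35 : rangeOK sub1 1023 35805 = true := by decide +kernel

set_option maxRecDepth 100000 in
theorem sub_36 : rangeOK sub1 1023 36828 = true := by decide +kernel

set_option maxRecDepth 100000 in
theorem sub_37 : rangeOK sub1 1023 37851 = true := by decide +kernel

set_option maxRecDepth 100000 in
theorem sub_38 : rangeOK sub1 1023 38874 = true := by decide +kernel

set_option maxRecDepth 100000 in
theorem sub_39 : rangeOK sub1 1023 39897 = true := by decide +kernel

set_option maxRecDepth 100000 in
theorem sub_40 : rangeOK sub1 1023 40920 = true := by decide +kernel

set_option maxRecDepth 100000 in
theorem sub_41 : rangeOK sub1 1023 41943 = true := by decide +kernel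

set_option maxRecDepth 100000 in
theorem sub_42 : rangeOK sub1 1023 42966 = true := by decide +kernel

set_option maxRecDepth 100000 in
theorem sub_43 : rangeOK sub1 1023 43989 = true := by decide +kernel

set_option maxRecDepth 100000 in
theorem sub_44 : rangeOK sub1 1023 45012 = true := by decide +kernel

set_option maxRecDepth 100000 in
theorem sub_45 : rangeOK sub1 1023 46035 = true := by decide +kernel

set_option maxRecDepth 100000 in
theorem sub_46 : rangeOK sub1 1023 47058 = true := by decide +kernel

set_option maxRecDepth 100000 in
theorem sub_47 : rangeOK sub1 1023 48081 = true := by decide +kernel

set_option maxRecDepth 100000 in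
theorem sub_48 : rangeOK sub1 1023 49104 = true := by decide +kernel

set_option maxRecDepth 100000 in
theorem sub_49 : rangeOK sub1 1023 50127 = true := by decide +kernel

set_option maxRecDepth 100000 in
theorem sub_50 : rangeOK sub1 1023 51150 = true := by decide +kernel

set_option maxRecDepth 100000 in
theorem sub_51 : rangeOK sub1 1023 52173 = true := by decide +kernel

set_option maxRecDepth 100000 in
theorem sub_52 : rangeOK sub1 1023 53196 = true := by decide +kernel

set_option maxRecDepth 100000 in
theorem sub_53 : rangeOK sub1 1023 54219 = true := by decide +kernel

set_option maxRecDepth 100000 in
theorem sub_54 : rangeOK sub1 1023 55242 = true := by decide +kernel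

set_option maxRecDepth 100000 in
theorem sub_55 : rangeOK sub1 1023 56265 = true := by decide +kernel

set_option maxRecDepth 100000 in
theorem sub_56 : rangeOK sub1 1023 57288 = true := by decide +kernel

set_option maxRecDepth 100000 in
theorem sub_57 : rangeOK sub1 1023 58311 = true := by decide +kernel

set_option maxRecDepth 100000 in
theorem sub_58 : rangeOK sub1 1023 59334 = true := by decide +kernel

set_option maxRecDepth 100000 in
theorem sub_59 : rangeOK sub1 1023 60357 = true := by decide +kernel

set_option maxRecDepth 100000 in
theorem sub_60 : rangeOK sub1 1023 61380 = true := by decide +kernel

set_option maxRecDepth 100000 in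
theorem sub_61 : rangeOK sub1 1023 62403 = true := by decide +kernel

set_option maxRecDepth 100000 in
theorem sub_62 : rangeOK sub1 1023 63426 = true := by decide +kernel

set_option maxRecDepth 100000 in
theorem sub_63 : rangeOK sub1 1023 64449 = true := by decide +kernel

set_option maxRecDepth 100000 in
theorem sub_64 : rangeOK sub1 1023 65472 = true := by decide +kernel

set_option maxRecDepth 100000 in
theorem sub_65 : rangeOK sub1 1023 66495 = true := by decide +kernel

set_option maxRecDepth 100000 in
theorem sub_66 : rangeOK sub1 1023 67518 = true := by decide +kernel

set_option maxRecDepth 100000 in
theorem sub_67 : rangeOK sub1 1023 68541 = true := by decide +kernel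

set_option maxRecDepth 100000 in
theorem sub_68 : rangeOK sub1 1023 69564 = true := by decide +kernel

set_option maxRecDepth 100000 in
theorem sub_69 : rangeOK sub1 1023 70587 = true := by decide +kernel

set_option maxRecDepth 100000 in
theorem sub_70 : rangeOK sub1 1023 71610 = true := by decide +kernel

set_option maxRecDepth 100000 in
theorem sub_71 : rangeOK sub1 1023 72633 = true := by decide +kernel

set_option maxRecDepth 100000 in
theorem sub_72 : rangeOK sub1 1023 73656 = true := by decide +kernel

set_option maxRecDepth 100000 in
theorem sub_73 : rangeOK sub1 1023 74679 = true := by decide +kernel

set_option maxRecDepth 100000 in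
theorem sub_74 : rangeOK sub1 1023 75702 = true := by decide +kernel

set_option maxRecDepth 100000 in
theorem sub_75 : rangeOK sub1 1023 76725 = true := by decide +kernel

set_option maxRecDepth 100000 in
theorem sub_76 : rangeOK sub1 1023 77748 = true := by decide +kernel

set_option maxRecDepth 100000 in
theorem sub_77 : rangeOK sub1 1023 78771 = true := by decide +kernel

set_option maxRecDepth 100000 in
theorem sub_78 : rangeOK sub1 1023 79794 = true := by decide +kernel

set_option maxRecDepth 100000 in
theorem sub_79 : rangeOK sub1 1023 80817 = true := by decide +kernel

set_option maxRecDepth 100000 in
theorem sub_80 : rangeOK sub1 1023 81840 = true := by decide +kernel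

set_option maxRecDepth 100000 in
theorem sub_81 : rangeOK sub1 1023 82863 = true := by decide +kernel

set_option maxRecDepth 100000 in
theorem sub_82 : rangeOK sub1 1023 83886 = true := by decide +kernel

set_option maxRecDepth 100000 in
theorem sub_83 : rangeOK sub1 1023 84909 = true := by decide +kernel

set_option maxRecDepth 100000 in
theorem sub_84 : rangeOK sub1 1023 85932 = true := by decide +kernel

set_option maxRecDepth 100000 in
theorem sub_85 : rangeOK sub1 1023 86955 = true := by decide +kernel

set_option maxRecDepth 100000 in
theorem sub_86 : rangeOK sub1 1023 87978 = true := by decide +kernel

set_option maxRecDepth 100000 in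
theorem sub_87 : rangeOK sub1 1023 89001 = true := by decide +kernel

set_option maxRecDepth 100000 in
theorem sub_88 : rangeOK sub1 1023 90024 = true := by decide +kernel

set_option maxRecDepth 100000 in
theorem sub_89 : rangeOK sub1 1023 91047 = true := by decide +kernel

set_option maxRecDepth 100000 in
theorem sub_90 : rangeOK sub1 1023 92070 = true := by decide +kernel

set_option maxRecDepth 100000 in
theorem sub_91 : rangeOK sub1 1023 93093 = true := by decide +kernel

set_option maxRecDepth 100000 in
theorem sub_92 : rangeOK sub1 1023 94116 = true := by decide +kernel

set_option maxRecDepth 100000 in
theorem sub_93 : rangeOK sub1 1023 95139 = true := by decide +kernel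

set_option maxRecDepth 100000 in
theorem sub_94 : rangeOK sub1 1023 96162 = true := by decide +kernel

set_option maxRecDepth 100000 in
theorem sub_95 : rangeOK sub1 1023 97185 = true := by decide +kernel

set_option maxRecDepth 100000 in
theorem sub_96 : rangeOK sub1 1023 98208 = true := by decide +kernel

set_option maxRecDepth 100000 in
theorem sub_97 : rangeOK sub1 1023 99231 = true := by decide +kernel

set_option maxRecDepth 100000 in
theorem sub_98 : rangeOK sub1 1023 100254 = true := by decide +kernel

set_option maxRecDepth 100000 in
theorem sub_99 : rangeOK sub1 1023 101277 = true := by decide +kernel

set_option maxRecDepth 100000 in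
theorem sub_100 : rangeOK sub1 1023 102300 = true := by decide +kernel

set_option maxRecDepth 100000 in
theorem sub_101 : rangeOK sub1 1023 103323 = true := by decide +kernel

set_option maxRecDepth 100000 in
theorem sub_102 : rangeOK sub1 1023 104346 = true := by decide +kernel

set_option maxRecDepth 100000 in
theorem sub_103 : rangeOK sub1 1023 105369 = true := by decide +kernel

set_option maxRecDepth 100000 in
theorem sub_104 : rangeOK sub1 1023 106392 = true := by decide +kernel

set_option maxRecDepth 100000 in
theorem sub_105 : rangeOK sub1 1023 107415 = true := by decide +kernel

set_option maxRecDepth 100000 in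
theorem sub_106 : rangeOK sub1 1023 108438 = true := by decide +kernel

set_option maxRecDepth 100000 in
theorem sub_107 : rangeOK sub1 1023 109461 = true := by decide +kernel

set_option maxRecDepth 100000 in
theorem sub_108 : rangeOK sub1 1023 110484 = true := by decide +kernel

set_option maxRecDepth 100000 in
theorem sub_109 : rangeOK sub1 1023 111507 = true := by decide +kernel

set_option maxRecDepth 100000 in
theorem sub_110 : rangeOK sub1 1023 112530 = true := by decide +kernel

set_option maxRecDepth 100000 in
theorem sub_111 : rangeOK sub1 1023 113553 = true := by decide +kernel

set_option maxRecDepth 100000 in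
theorem sub_112 : rangeOK sub1 1023 114576 = true := by decide +kernel

set_option maxRecDepth 100000 in
theorem sub_113 : rangeOK sub1 1023 115599 = true := by decide +kernel

set_option maxRecDepth 100000 in
theorem sub_114 : rangeOK sub1 1023 116622 = true := by decide +kernel

set_option maxRecDepth 100000 in
theorem sub_115 : rangeOK sub1 1023 117645 = true := by decide +kernel

set_option maxRecDepth 100000 in
theorem sub_116 : rangeOK sub1 1023 118668 = true := by decide +kernel

set_option maxRecDepth 100000 in
theorem sub_117 : rangeOK sub1 1023 119691 = true := by decide +kernel

set_option maxRecDepth 100000 in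
theorem sub_118 : rangeOK sub1 1023 120714 = true := by decide +kernel

set_option maxRecDepth 100000 in
theorem sub_119 : rangeOK sub1 1023 121737 = true := by decide +kernel

theorem sub_all : ∀ i, i < 122760 → sub1 i = true := by
  intro i hi
  by_cases h61380 : i < 61380
  · by_cases h30690 : i < 30690
    · by_cases h15345 : i < 15345
      · by_cases h7161 : i < 7161
        · by_cases h3069 : i < 3069
          · by_cases h1023 : i < 1023
            · exact rangeOK_sound _ _ sub_0 i (by omega) (by omega)
            · by_cases h2046 : i < 2046
              · exact rangeOK_sound _ _ sub_1 i (by omega) (by omega)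
              · exact rangeOK_sound _ _ sub_2 i (by omega) (by omega)
          · by_cases h5115 : i < 5115
            · by_cases h4092 : i < 4092
              · exact rangeOK_sound _ _ sub_3 i (by omega) (by omega)
              · exact rangeOK_sound _ _ sub_4 i (by omega) (by omega)
            · by_cases h6138 : i < 6138
              · exact rangeOK_sound _ _ sub_5 i (by omega) (by omega)
              · exact rangeOK_sound _ _ sub_6 i (by omega) (by omega)
        · by_cases h11253 : i < 11253
          · by_cases h9207 : i < 9207
            · by_cases h8184 : i < 8184
              · exact rangeOK_sound _ _ sub_7 i (by omega) (by omega)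
              · exact rangeOK_sound _ _ sub_8 i (by omega) (by omega)
            · by_cases h10230 : i < 10230
              · exact rangeOK_sound _ _ sub_9 i (by omega) (by omega)
              · exact rangeOK_sound _ _ sub_10 i (by omega) (by omega)
          · by_cases h13299 : i < 13299
            · by_cases h12276 : i < 12276
              · exact rangeOK_sound _ _ sub_11 i (by omega) (by omega)
              · exact rangeOK_sound _ _ sub_12 i (by omega) (by omega)
            · by_cases h14322 : i < 14322
              · exact rangeOK_sound _ _ sub_13 i (by omega) (by omega)
              · exact rangeOK_sound _ _ sub_14 i (by omega) (by omega)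
      · by_cases h22506 : i < 22506
        · by_cases h18414 : i < 18414
          · by_cases h16368 : i < 16368
            · exact rangeOK_sound _ _ sub_15 i (by omega) (by omega)
            · by_cases h17391 : i < 17391
              · exact rangeOK_sound _ _ sub_16 i (by omega) (by omega)
              · exact rangeOK_sound _ _ sub_17 i (by omega) (by omega)
          · by_cases h20460 : i < 20460
            · by_cases h19437 : i < 19437
              · exact rangeOK_sound _ _ sub_18 i (by omega) (by omega)
              · exact rangeOK_sound _ _ sub_19 i (by omega) (by omega)
            · by_cases h21483 : i < 21483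
              · exact rangeOK_sound _ _ sub_20 i (by omega) (by omega)
              · exact rangeOK_sound _ _ sub_21 i (by omega) (by omega)
        · by_cases h26598 : i < 26598
          · by_cases h24552 : i < 24552
            · by_cases h23529 : i < 23529
              · exact rangeOK_sound _ _ sub_22 i (by omega) (by omega)
              · exact rangeOK_sound _ _ sub_23 i (by omega) (by omega)
            · by_cases h25575 : i < 25575
              · exact rangeOK_sound _ _ sub_24 i (by omega) (by omega)
              · exact rangeOK_sound _ _ sub_25 i (by omega) (by omega)
          · by_cases h28644 : i < 28644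
            · by_cases h27621 : i < 27621
              · exact rangeOK_sound _ _ sub_26 i (by omega) (by omega)
              · exact rangeOK_sound _ _ sub_27 i (by omega) (by omega)
            · by_cases h29667 : i < 29667
              · exact rangeOK_sound _ _ sub_28 i (by omega) (by omega)
              · exact rangeOK_sound _ _ sub_29 i (by omega) (by omega)
    · by_cases h46035 : i < 46035
      · by_cases h37851 : i < 37851
        · by_cases h33759 : i < 33759
          · by_cases h31713 : i < 31713
            · exact rangeOK_sound _ _ sub_30 i (by omega) (by omega)
            · by_cases h32736 : i < 32736
              · exact rangeOK_sound _ _ sub_31 i (by omega) (by omega)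
              · exact rangeOK_sound _ _ sub_32 i (by omega) (by omega)
          · by_cases h35805 : i < 35805
            · by_cases h34782 : i < 34782
              · exact rangeOK_sound _ _ sub_33 i (by omega) (by omega)
              · exact rangeOK_sound _ _ sub_34 i (by omega) (by omega)
            · by_cases h36828 : i < 36828
              · exact rangeOK_sound _ _ sub_35 i (by omega) (by omega)
              · exact rangeOK_sound _ _ sub_36 i (by omega) (by omega)
        · by_cases h41943 : i < 41943
          · by_cases h39897 : i < 39897
            · by_cases h38874 : i < 38874
              · exact rangeOK_sound _ _ sub_37 i (by omega) (by omega)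
              · exact rangeOK_sound _ _ sub_38 i (by omega) (by omega)
            · by_cases h40920 : i < 40920
              · exact rangeOK_sound _ _ sub_39 i (by omega) (by omega)
              · exact rangeOK_sound _ _ sub_40 i (by omega) (by omega)
          · by_cases h43989 : i < 43989
            · by_cases h42966 : i < 42966
              · exact rangeOK_sound _ _ sub_41 i (by omega) (by omega)
              · exact rangeOK_sound _ _ sub_42 i (by omega) (by omega)
            · by_cases h45012 : i < 45012
              · exact rangeOK_sound _ _ sub_43 i (by omega) (by omega)
              · exact rangeOK_sound _ _ sub_44 i (by omega) (by omega)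
      · by_cases h53196 : i < 53196
        · by_cases h49104 : i < 49104
          · by_cases h47058 : i < 47058
            · exact rangeOK_sound _ _ sub_45 i (by omega) (by omega)
            · by_cases h48081 : i < 48081
              · exact rangeOK_sound _ _ sub_46 i (by omega) (by omega)
              · exact rangeOK_sound _ _ sub_47 i (by omega) (by omega)
          · by_cases h51150 : i < 51150
            · by_cases h50127 : i < 50127
              · exact rangeOK_sound _ _ sub_48 i (by omega) (by omega)
              · exact rangeOK_sound _ _ sub_49 i (by omega) (by omega)
            · by_cases h52173 : i < 52173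
              · exact rangeOK_sound _ _ sub_50 i (by omega) (by omega)
              · exact rangeOK_sound _ _ sub_51 i (by omega) (by omega)
        · by_cases h57288 : i < 57288
          · by_cases h55242 : i < 55242
            · by_cases h54219 : i < 54219
              · exact rangeOK_sound _ _ sub_52 i (by omega) (by omega)
              · exact rangeOK_sound _ _ sub_53 i (by omega) (by omega)
            · by_cases h56265 : i < 56265
              · exact rangeOK_sound _ _ sub_54 i (by omega) (by omega)
              · exact rangeOK_sound _ _ sub_55 i (by omega) (by omega)
          · by_cases h59334 : i < 59334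
            · by_cases h58311 : i < 58311
              · exact rangeOK_sound _ _ sub_56 i (by omega) (by omega)
              · exact rangeOK_sound _ _ sub_57 i (by omega) (by omega)
            · by_cases h60357 : i < 60357
              · exact rangeOK_sound _ _ sub_58 i (by omega) (by omega)
              · exact rangeOK_sound _ _ sub_59 i (by omega) (by omega)
  · by_cases h92070 : i < 92070
    · by_cases h76725 : i < 76725
      · by_cases h68541 : i < 68541
        · by_cases h64449 : i < 64449
          · by_cases h62403 : i < 62403
            · exact rangeOK_sound _ _ sub_60 i (by omega) (by omega)
            · by_cases h63426 : i < 63426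
              · exact rangeOK_sound _ _ sub_61 i (by omega) (by omega)
              · exact rangeOK_sound _ _ sub_62 i (by omega) (by omega)
          · by_cases h66495 : i < 66495
            · by_cases h65472 : i < 65472
              · exact rangeOK_sound _ _ sub_63 i (by omega) (by omega)
              · exact rangeOK_sound _ _ sub_64 i (by omega) (by omega)
            · by_cases h67518 : i < 67518
              · exact rangeOK_sound _ _ sub_65 i (by omega) (by omega)
              · exact rangeOK_sound _ _ sub_66 i (by omega) (by omega)
        · by_cases h72633 : i < 72633
          · by_cases h70587 : i < 70587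
            · by_cases h69564 : i < 69564
              · exact rangeOK_sound _ _ sub_67 i (by omega) (by omega)
              · exact rangeOK_sound _ _ sub_68 i (by omega) (by omega)
            · by_cases h71610 : i < 71610
              · exact rangeOK_sound _ _ sub_69 i (by omega) (by omega)
              · exact rangeOK_sound _ _ sub_70 i (by omega) (by omega)
          · by_cases h74679 : i < 74679
            · by_cases h73656 : i < 73656
              · exact rangeOK_sound _ _ sub_71 i (by omega) (by omega)
              · exact rangeOK_sound _ _ sub_72 i (by omega) (by omega)
            · by_cases h75702 : i < 75702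
              · exact rangeOK_sound _ _ sub_73 i (by omega) (by omega)
              · exact rangeOK_sound _ _ sub_74 i (by omega) (by omega)
      · by_cases h83886 : i < 83886
        · by_cases h79794 : i < 79794
          · by_cases h77748 : i < 77748
            · exact rangeOK_sound _ _ sub_75 i (by omega) (by omega)
            · by_cases h78771 : i < 78771
              · exact rangeOK_sound _ _ sub_76 i (by omega) (by omega)
              · exact rangeOK_sound _ _ sub_77 i (by omega) (by omega)
          · by_cases h81840 : i < 81840
            · by_cases h80817 : i < 80817
              · exact rangeOK_sound _ _ sub_78 i (by omega) (by omega)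
              · exact rangeOK_sound _ _ sub_79 i (by omega) (by omega)
            · by_cases h82863 : i < 82863
              · exact rangeOK_sound _ _ sub_80 i (by omega) (by omega)
              · exact rangeOK_sound _ _ sub_81 i (by omega) (by omega)
        · by_cases h87978 : i < 87978
          · by_cases h85932 : i < 85932
            · by_cases h84909 : i < 84909
              · exact rangeOK_sound _ _ sub_82 i (by omega) (by omega)
              · exact rangeOK_sound _ _ sub_83 i (by omega) (by omega)
            · by_cases h86955 : i < 86955
              · exact rangeOK_sound _ _ sub_84 i (by omega) (by omega)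
              · exact rangeOK_sound _ _ sub_85 i (by omega) (by omega)
          · by_cases h90024 : i < 90024
            · by_cases h89001 : i < 89001
              · exact rangeOK_sound _ _ sub_86 i (by omega) (by omega)
              · exact rangeOK_sound _ _ sub_87 i (by omega) (by omega)
            · by_cases h91047 : i < 91047
              · exact rangeOK_sound _ _ sub_88 i (by omega) (by omega)
              · exact rangeOK_sound _ _ sub_89 i (by omega) (by omega)
    · by_cases h107415 : i < 107415
      · by_cases h99231 : i < 99231
        · by_cases h95139 : i < 95139
          · by_cases h93093 : i < 93093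
            · exact rangeOK_sound _ _ sub_90 i (by omega) (by omega)
            · by_cases h94116 : i < 94116
              · exact rangeOK_sound _ _ sub_91 i (by omega) (by omega)
              · exact rangeOK_sound _ _ sub_92 i (by omega) (by omega)
          · by_cases h97185 : i < 97185
            · by_cases h96162 : i < 96162
              · exact rangeOK_sound _ _ sub_93 i (by omega) (by omega)
              · exact rangeOK_sound _ _ sub_94 i (by omega) (by omega)
            · by_cases h98208 : i < 98208
              · exact rangeOK_sound _ _ sub_95 i (by omega) (by omega)
              · exact rangeOK_sound _ _ sub_96 i (by omega) (by omega)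
        · by_cases h103323 : i < 103323
          · by_cases h101277 : i < 101277
            · by_cases h100254 : i < 100254
              · exact rangeOK_sound _ _ sub_97 i (by omega) (by omega)
              · exact rangeOK_sound _ _ sub_98 i (by omega) (by omega)
            · by_cases h102300 : i < 102300
              · exact rangeOK_sound _ _ sub_99 i (by omega) (by omega)
              · exact rangeOK_sound _ _ sub_100 i (by omega) (by omega)
          · by_cases h105369 : i < 105369
            · by_cases h104346 : i < 104346
              · exact rangeOK_sound _ _ sub_101 i (by omega) (by omega)
              · exact rangeOK_sound _ _ sub_102 i (by omega) (by omega)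
            · by_cases h106392 : i < 106392
              · exact rangeOK_sound _ _ sub_103 i (by omega) (by omega)
              · exact rangeOK_sound _ _ sub_104 i (by omega) (by omega)
      · by_cases h114576 : i < 114576
        · by_cases h110484 : i < 110484
          · by_cases h108438 : i < 108438
            · exact rangeOK_sound _ _ sub_105 i (by omega) (by omega)
            · by_cases h109461 : i < 109461
              · exact rangeOK_sound _ _ sub_106 i (by omega) (by omega)
              · exact rangeOK_sound _ _ sub_107 i (by omega) (by omega)
          · by_cases h112530 : i < 112530
            · by_cases h111507 : i < 111507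
              · exact rangeOK_sound _ _ sub_108 i (by omega) (by omega)
              · exact rangeOK_sound _ _ sub_109 i (by omega) (by omega)
            · by_cases h113553 : i < 113553
              · exact rangeOK_sound _ _ sub_110 i (by omega) (by omega)
              · exact rangeOK_sound _ _ sub_111 i (by omega) (by omega)
        · by_cases h118668 : i < 118668
          · by_cases h116622 : i < 116622
            · by_cases h115599 : i < 115599
              · exact rangeOK_sound _ _ sub_112 i (by omega) (by omega)
              · exact rangeOK_sound _ _ sub_113 i (by omega) (by omega)
            · by_cases h117645 : i < 117645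
              · exact rangeOK_sound _ _ sub_114 i (by omega) (by omega)
              · exact rangeOK_sound _ _ sub_115 i (by omega) (by omega)
          · by_cases h120714 : i < 120714
            · by_cases h119691 : i < 119691
              · exact rangeOK_sound _ _ sub_116 i (by omega) (by omega)
              · exact rangeOK_sound _ _ sub_117 i (by omega) (by omega)
            · by_cases h121737 : i < 121737
              · exact rangeOK_sound _ _ sub_118 i (by omega) (by omega)
              · exact rangeOK_sound _ _ sub_119 i (by omega) (by omega)

set_option maxRecDepth 100000 in
theorem count_0 : cntOK 0 1 122760 0 0 = true := by decide +kernel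

set_option maxRecDepth 100000 in
theorem count_1 : cntOK 1 58653 122760 0 0 = true := by decide +kernel

set_option maxRecDepth 100000 in
theorem count_2 : cntOK 2 52136 122760 0 0 = true := by decide +kernel

set_option maxRecDepth 100000 in
theorem count_3 : cntOK 3 5586 122760 0 0 = true := by decide +kernel

set_option maxRecDepth 100000 in
theorem count_4 : cntOK 4 6384 122760 0 0 = true := by decide +kernel

end Cfsg.Lib.ONPres
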