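import Cfsg.Agent.ONPres.HIso
import Cfsg.Agent.ONPres.SubCheck
import Cfsg.Prelude.Def_Sporadic

/-!
The presented O'Nan group is simple of order 460815505920.
-/

set_option autoImplicit false

namespace Cfsg.Lib.ONPres

attribute [local irreducible] rowF auxF parF feF pnF rcF

open Cfsg.Spor.ON (Gen)

theorem on_card : Nat.card Cfsg.Spor.ON = 460815505920 := by
  rw [← Subgroup.card_mul_index subH, subH_card, subH_index]

instance on_finite : Finite Cfsg.Spor.ON := Nat.finite_of_card_ne_zero (by rw [on_card]; norm_num)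

theorem sub_const (M : Subgroup Cfsg.Spor.ON) (hM : subH ≤ M) {i : Fin 122760} :
    (i ∈ MulAction.orbit M (0 : Fin 122760)) ↔
      ∃ b : Fin 122760, (b : ℕ) = subBases.getD (slab (subF i)) 0 ∧ b ∈ MulAction.orbit M (0 : Fin 122760) := by
  suffices key : ∀ k (i : Fin 122760), spos (subF i) = k → ((i ∈ MulAction.orbit M (0 : Fin 122760)) ↔
      ∃ b : Fin 122760, (b : ℕ) = subBases.getD (slab (subF i)) 0 ∧ b ∈ MulAction.orbit M (0 : Fin 122760)) from
    key _ i rfl
  intro k
  induction k using Nat.strong_induction_on with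
  | _ k ih =>
    intro i hk
    have h := sub_all i i.2
    simp only [sub1, force_eq, Bool.and_eq_true, Nat.beq_eq, Nat.blt, Nat.ble_eq, Bool.cond_eq_ite] at h
    obtain ⟨-, h⟩ := h
    by_cases h0 : spos (subF i) = 0
    · simp only [h0, if_true, Nat.beq_eq] at h
      constructor
      · exact fun hi => ⟨i, h.symm, hi⟩
      · rintro ⟨b, hb, hm⟩
        rwa [show i = b from Fin.ext (h.symm.trans hb.symm)]
    · simp only [h0, if_false, Bool.and_eq_true, Nat.beq_eq, Nat.ble_eq] at h
      obtain ⟨⟨⟨⟨hx1, hx6⟩, hp⟩, ht⟩, hpos, hlab⟩ := h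
      have hlab' : slab (subF i) = slab (subF (Nat.div (spar (subF i)) 8)) := hlab.symm
      rw [hlab', ← ih _ (hk ▸ hpos) ⟨_, hp⟩ rfl]
      set x : Fin 8 := ⟨Nat.mod (spar (subF i)) 8, Nat.mod_lt _ (by norm_num)⟩ with hx
      have hmem : imON x ∈ M := hM (imON_mem hx1 hx6)
      have e : (imON x)⁻¹ • (⟨_, hp⟩ : Fin 122760) = i := by
        rw [smul_def, map_inv, tabHom_apply, inv_inv, psi_imON]
        exact Fin.ext ht
      constructor
      · intro hi
        have := MulAction.mem_orbit_of_mem_orbit (⟨imON x, hmem⟩ : M) hi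
        rw [← e] at this
        change imON x • ((imON x)⁻¹ • (⟨_, hp⟩ : Fin 122760)) ∈ MulAction.orbit M (0 : Fin 122760) at this
        rwa [smul_inv_smul] at this
      · intro hi
        have := MulAction.mem_orbit_of_mem_orbit (⟨(imON x)⁻¹, M.inv_mem hmem⟩ : M) hi
        change (imON x)⁻¹ • (⟨_, hp⟩ : Fin 122760) ∈ MulAction.orbit M (0 : Fin 122760) at this
        rwa [e] at this

theorem count_lab (l c : ℕ) (h : cntOK l c 122760 0 0 = true) :
    (Finset.univ.filter fun i : Fin 122760 => slab (subF i) = l).card = c := by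
  have := cntOK_sound l c _ _ _ h
  rw [zero_add, zero_add] at this
  rw [← this, ← Finset.card_map Fin.valEmbedding]
  refine congrArg Finset.card (Finset.ext fun i => ?_)
  simp only [Finset.mem_map, Finset.mem_filter, Finset.mem_univ, true_and, Fin.valEmbedding_apply, Finset.mem_Ico]
  exact ⟨fun ⟨j, hj, e⟩ => e ▸ ⟨⟨Nat.zero_le _, j.2⟩, hj⟩, fun ⟨⟨_, hi⟩, hl⟩ => ⟨⟨i, hi⟩, hl, rfl⟩⟩

theorem divisors_case : ∀ a b c d : Bool,
    (1 + (bif a then 58653 else 0) + (bif b then 52136 else 0) + (bif c then 5586 else 0) +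
      (bif d then 6384 else 0)) ∣ 122760 → (a = false ∧ b = false ∧ c = false ∧ d = false) ∨
      (a = true ∧ b = true ∧ c = true ∧ d = true) := by decide

theorem subH_maximal (M : Subgroup Cfsg.Spor.ON) (hM : subH ≤ M) : M = subH ∨ M = ⊤ := by
  classical
  set B := Finset.univ.filter fun i : Fin 122760 => i ∈ MulAction.orbit M (0 : Fin 122760) with hB
  have hrel : subH.relIndex M = B.card := by
    have h1 := MulAction.index_stabilizer M (0 : Fin 122760)
    rw [Set.ncard_eq_toFinset_card'] at h1
    rw [Subgroup.relIndex, show B = (MulAction.orbit M (0 : Fin 122760)).toFinset by ext; simp [hB], ← h1]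
    congr 1
    ext g
    rw [Subgroup.mem_subgroupOf, ← stab_eq]
    exact Iff.rfl
  have hlab : ∀ i : Fin 122760, slab (subF i) < 5 := fun i => by
    have h := sub_all i i.2
    simp only [sub1, force_eq, Bool.and_eq_true, Nat.beq_eq, Nat.blt, Nat.ble_eq] at h
    exact h.1.1.1.1.1.1.1
  let P : ℕ → Prop := fun l => ∃ b : Fin 122760, (b : ℕ) = subBases.getD l 0 ∧ b ∈ MulAction.orbit M (0 : Fin 122760)
  have hP0 : P 0 := ⟨0, rfl, MulAction.mem_orbit_self _⟩
  have hsum : B.card = ∑ l ∈ Finset.range 5, if P l then (Finset.univ.filter fun i : Fin 122760 => slab (subF i) = l).card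
      else 0 := by
    rw [Finset.card_eq_sum_card_fiberwise (f := fun i : Fin 122760 => slab (subF i)) (t := Finset.range 5)
      fun i _ => Finset.mem_range.2 (hlab i)]
    refine Finset.sum_congr rfl fun l _ => ?_
    split_ifs with hl
    · refine congrArg Finset.card (Finset.ext fun i => ?_)
      simp only [hB, Finset.mem_filter, Finset.mem_univ, true_and]
      exact ⟨fun h => h.2, fun h => ⟨(sub_const M hM).2 (h ▸ hl), h⟩⟩
    · rw [Finset.card_eq_zero, Finset.filter_eq_empty_iff]
      intro i hi he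
      simp only [hB, Finset.mem_filter, Finset.mem_univ, true_and] at hi
      exact hl (he ▸ (sub_const M hM).1 hi)
  simp only [Finset.sum_range_succ, Finset.sum_range_zero, zero_add, if_pos hP0, count_lab 0 _ count_0,
    count_lab 1 _ count_1, count_lab 2 _ count_2, count_lab 3 _ count_3, count_lab 4 _ count_4] at hsum
  have hd : B.card ∣ 122760 := by
    rw [← hrel, ← subH_index]
    exact Dvd.intro _ (Subgroup.relIndex_mul_index hM)
  rw [hsum] at hd
  have hd' := divisors_case (decide (P 1)) (decide (P 2)) (decide (P 3)) (decide (P 4)) (by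
    simpa only [Bool.cond_decide] using hd)
  simp only [decide_eq_true_eq, decide_eq_false_iff_not] at hd'
  rcases hd' with ⟨h1, h2, h3, h4⟩ | ⟨h1, h2, h3, h4⟩
  · refine Or.inl (le_antisymm ?_ hM)
    rw [← Subgroup.relIndex_eq_one, hrel, hsum, if_neg h1, if_neg h2, if_neg h3, if_neg h4]
  · refine Or.inr (Subgroup.index_eq_one.1 ?_)
    have h := Subgroup.relIndex_mul_index hM
    rw [hrel, hsum, if_pos h1, if_pos h2, if_pos h3, if_pos h4, subH_index] at h
    omega

theorem two_torsion_hom {C : Type*} [CommGroup C] (hC : ∀ x : C, x * x = 1) (f : Cfsg.Spor.ON →* C) : f = 1 := by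
  have hr := on_rels
  have im : ∀ x y : Cfsg.Spor.ON, (x * y) ^ 3 = 1 → f x = f y := fun x y h => by
    have := congrArg f h
    rw [map_one, map_pow, map_mul, pow_succ, pow_two, hC, one_mul] at this
    calc f x = f x * (f y * f y) := by rw [hC, mul_one]
      _ = f x * f y * f y := (mul_assoc _ _ _).symm
      _ = f y := by rw [this, one_mul]
  have hab := im _ _ hr.ab
  have hbc := im _ _ hr.bc
  have hde := im _ _ hr.de
  have hef := im _ _ hr.ef
  have hb : f (gen .b) = 1 := by
    have := congrArg f hr.r6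
    simp only [map_mul, map_inv, map_one] at this
    calc f (gen .b) = f (gen .g) * f (gen .g) * (f (gen .g) * f (gen .g)) * f (gen .b) := by simp [hC]
      _ = 1 := by rw [← this]; simp [mul_comm, mul_left_comm]
  have he : f (gen .e) = 1 := by
    have := congrArg f hr.r7
    simp only [map_mul, map_inv, map_one] at this
    calc f (gen .e) = f (gen .g) * f (gen .g) * (f (gen .g) * f (gen .g)) * f (gen .e) := by simp [hC]
      _ = 1 := by rw [← this]; simp [mul_comm, mul_left_comm]
  have hg : f (gen .g) = 1 := by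
    have := congrArg f hr.r5
    rw [map_pow, map_one, map_mul, map_mul, map_mul, ← hbc, hb, hde, he, one_mul, one_mul, one_mul, pow_succ,
      pow_succ, pow_succ, pow_two, hC, one_mul, hC, one_mul] at this
    exact this
  refine PresentedGroup.ext fun x => ?_
  cases x
  exacts [hg, hab.trans hb, hb, hbc.symm.trans hb, hde.trans he, he, hef.symm.trans he]

theorem normal_in_subH (K : Subgroup subH) [hKn : K.Normal] : K = ⊥ ∨ subN ≤ K := by
  haveI : IsSimpleGroup (Matrix.ProjectiveSpecialLinearGroup (Fin 3) (ZMod 7)) :=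
    Cfsg.Lib.Classical.isSimpleGroup_PSL (by rw [Fintype.card_fin])
  haveI : IsSimpleGroup subN := subN_spec.2.2.some.isSimpleGroup
  haveI := subN_spec.1
  rcases (Subgroup.Normal.subgroupOf hKn subN).eq_bot_or_eq_top with h | h
  · left
    have hd : ∀ x ∈ subN, x ∈ K → x = 1 := fun x hx hk => by
      have : (⟨x, hx⟩ : subN) ∈ K.subgroupOf subN := hk
      rw [h, Subgroup.mem_bot] at this
      exact congrArg Subtype.val this
    rw [eq_bot_iff]
    intro y hy
    rw [Subgroup.mem_bot]
    by_contra hy1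
    have hyn : y ∉ subN := fun hm => hy1 (hd y hm hy)
    have hyy : y * y = 1 := hd _ ((Subgroup.mul_mem_iff_of_index_two subN_spec.2.1).2 Iff.rfl) (mul_mem hy hy)
    have hcent : ∀ g : subH, Commute y g := fun g => by
      by_cases hg : g ∈ subN
      · have := hd _ (mul_mem (subN_spec.1.conj_mem _ hg y) (inv_mem hg))
          (by rw [mul_assoc y, mul_assoc y]; exact mul_mem hy (hKn.conj_mem _ (inv_mem hy) g))
        rwa [mul_inv_eq_one, mul_inv_eq_iff_eq_mul] at this
      · have hm : y * g * y * g⁻¹ ∈ subN := by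
          rw [mul_assoc (y * g)]
          exact mul_mem ((Subgroup.mul_mem_iff_of_index_two subN_spec.2.1).2 (iff_of_false hyn hg))
            ((Subgroup.mul_mem_iff_of_index_two subN_spec.2.1).2 (iff_of_false hyn fun h => hg (inv_mem_iff.1 h)))
        have e := hd _ hm (by rw [mul_assoc y g, mul_assoc y]; exact mul_mem hy (hKn.conj_mem _ hy g))
        rw [mul_inv_eq_one] at e
        have := congrArg (fun x => x * y) e
        simp only [mul_assoc, hyy, mul_one] at this
        exact this
    have := central_trivial (subHEquiv.symm y : Equiv.Perm (Fin 114)) fun g hg => by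
      have h := (hcent (subHEquiv ⟨g, hg⟩)).map subHEquiv.symm.toMonoidHom
      simp only [MulEquiv.coe_toMonoidHom, MulEquiv.symm_apply_apply] at h
      exact congrArg (fun x : polGroup => (x : Equiv.Perm (Fin 114))) h.eq
    apply hy1
    rw [← subHEquiv.apply_symm_apply y, show subHEquiv.symm y = 1 from Subtype.ext this, map_one]
  · exact Or.inr (Subgroup.subgroupOf_eq_top.1 h)

theorem fix_all_eq_one : ∀ g : Cfsg.Spor.ON, (∀ i : Fin 122760, g • i = i) → g = 1 := by
  intro g hg
  have hgH : g ∈ subH := by rw [← stab_eq]; exact hg 0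
  haveI := (MonoidHom.normal_ker tabHom).subgroupOf subH
  have hk : (⟨g, hgH⟩ : subH) ∈ tabHom.ker.subgroupOf subH := MonoidHom.mem_ker.2 (Equiv.ext fun i => hg i)
  rcases normal_in_subH (tabHom.ker.subgroupOf subH) with h | h
  · rw [h, Subgroup.mem_bot] at hk
    exact congrArg Subtype.val hk
  · exfalso
    apply psi_ab
    have hp : (((gen .a * gen .b, polPerm 0 * polPerm 1) : Cfsg.Spor.ON × Equiv.Perm (Fin 114))) ∈ pairGroup :=
      mul_mem (CosetCert.lgp_mem pairs (l := 0) (by decide)) (CosetCert.lgp_mem pairs (l := 1) (by decide))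
    have hx : subHEquiv (sndP ⟨_, hp⟩) ∈ subN := ⟨_, mul_mem_evenK (k := 1) (by norm_num), rfl⟩
    have h1 : tabHom ((subHEquiv (sndP ⟨_, hp⟩) : subH) : Cfsg.Spor.ON) = 1 := h hx
    rw [show ((subHEquiv (sndP ⟨_, hp⟩) : subH) : Cfsg.Spor.ON) = gen .a * gen .b from
      congrArg (fun y : subH => (y : Cfsg.Spor.ON)) (rho_snd ⟨_, hp⟩), tabHom_apply, inv_eq_one] at h1
    exact MulOpposite.unop_injective h1

theorem on_simple : IsSimpleGroup Cfsg.Spor.ON := by
  haveI : Nontrivial Cfsg.Spor.ON := Finite.one_lt_card_iff_nontrivial.1 (by rw [on_card]; norm_num)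
  refine ⟨fun N hN => ?_⟩
  by_cases hle : N ≤ subH
  · left
    rw [eq_bot_iff]
    intro g hg
    refine Subgroup.mem_bot.2 (fix_all_eq_one g fun i => ?_)
    obtain ⟨x, hx⟩ := MulAction.exists_smul_eq Cfsg.Spor.ON (0 : Fin 122760) i
    have h1 : x⁻¹ * g * x ∈ subH := hle (by simpa using hN.conj_mem g hg x⁻¹)
    rw [← stab_eq, MulAction.mem_stabilizer_iff, mul_smul, mul_smul, hx, inv_smul_eq_iff, hx] at h1
    exact h1
  · right
    rcases subH_maximal (N ⊔ subH) le_sup_right with h | h
    · exact absurd (h ▸ le_sup_left) hle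
    by_contra hne
    haveI := subN_spec.1
    have hsurj : Function.Surjective ((QuotientGroup.mk' N).comp subH.subtype) := fun q => by
      obtain ⟨x, rfl⟩ := QuotientGroup.mk'_surjective N q
      have hx : x ∈ ((N ⊔ subH : Subgroup Cfsg.Spor.ON) : Set Cfsg.Spor.ON) := h ▸ Subgroup.mem_top x
      rw [Subgroup.normal_mul] at hx
      obtain ⟨u, hu, v, hv, rfl⟩ := hx
      refine ⟨⟨v, hv⟩, ?_⟩
      show (QuotientGroup.mk' N) v = _
      rw [map_mul, show (QuotientGroup.mk' N) u = 1 from (QuotientGroup.eq_one_iff u).2 hu, one_mul]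
    set K := ((QuotientGroup.mk' N).comp subH.subtype).ker with hK
    by_cases hKN : K ≤ subN
    · -- the quotient maps onto a group of order two
      let e := (QuotientGroup.quotientKerEquivOfSurjective _ hsurj).symm
      let f : Cfsg.Spor.ON →* subH ⧸ subN :=
        ((QuotientGroup.map K subN (MonoidHom.id _) hKN).comp e.toMonoidHom).comp (QuotientGroup.mk' N)
      have hf : Function.Surjective f := fun q => by
        obtain ⟨v, rfl⟩ := QuotientGroup.mk'_surjective subN q
        refine ⟨v.1, ?_⟩
        show QuotientGroup.map K subN (MonoidHom.id _) hKN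
          ((QuotientGroup.quotientKerEquivOfSurjective _ hsurj).symm ((QuotientGroup.mk' N) v.1)) = _
        rw [show (QuotientGroup.quotientKerEquivOfSurjective _ hsurj).symm ((QuotientGroup.mk' N) v.1) =
          QuotientGroup.mk' K v from (MulEquiv.symm_apply_eq _).2 rfl]
        rfl
      have h2 : Nat.card (subH ⧸ subN) = 2 := subN_spec.2.1
      have hsq : ∀ x : subH ⧸ subN, x * x = 1 := fun x => by rw [← pow_two, ← h2, pow_card_eq_one']
      letI : CommGroup (subH ⧸ subN) := { (inferInstance : Group (subH ⧸ subN)) with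
        mul_comm := fun x y => by
          have hx : ∀ z : subH ⧸ subN, z⁻¹ = z := fun z => inv_eq_of_mul_eq_one_left (hsq z)
          calc x * y = (x * y)⁻¹ := (hx _).symm
            _ = y * x := by rw [mul_inv_rev, hx, hx] }
      have htriv := two_torsion_hom hsq f
      haveI : Finite (subH ⧸ subN) := Nat.finite_of_card_ne_zero (by rw [h2]; norm_num)
      haveI : Nontrivial (subH ⧸ subN) := Finite.one_lt_card_iff_nontrivial.1 (by rw [h2]; norm_num)
      obtain ⟨q, hq⟩ := exists_ne (1 : subH ⧸ subN)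
      · obtain ⟨g, rfl⟩ := hf q
        exact hq (by rw [htriv]; rfl)
    · rcases normal_in_subH K with h' | h'
      · exact hKN (h' ▸ bot_le)
      apply hne
      rw [← h, eq_comm]
      refine sup_eq_left.2 fun x hx => ?_
      obtain ⟨v, hv, hvn⟩ := SetLike.not_le_iff_exists.1 hKN
      have hmem : (⟨x, hx⟩ : subH) ∈ K := by
        by_cases hxn : (⟨x, hx⟩ : subH) ∈ subN
        · exact h' hxn
        · have := K.mul_mem (h' ((Subgroup.mul_mem_iff_of_index_two subN_spec.2.1).2
            (iff_of_false hxn fun hh => hvn (inv_mem_iff.1 hh) : (⟨x, hx⟩ : subH) ∈ subN ↔ v⁻¹ ∈ subN))) hv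
          rwa [inv_mul_cancel_right] at this
      exact (QuotientGroup.eq_one_iff x).1 (MonoidHom.mem_ker.1 hmem)

/-- The presented O'Nan group is simple of the expected order. -/
theorem isON : Cfsg.IsON Cfsg.Spor.ON := ⟨on_simple, on_card⟩

end Cfsg.Lib.ONPres
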