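import Cfsg.Agent.ONPres.AuxData0
import Cfsg.Agent.ONPres.AuxData1
import Cfsg.Agent.ONPres.AuxData2

/-!
Composite tables of the presented O'Nan group.
-/

set_option autoImplicit false

namespace Cfsg.Lib.ONPres

/-- A table of composites. -/
noncomputable def auxT : TT :=
  (.nd 960 (.nd 448 (.nd 192 (.nd 64 auxT0 (.nd 128 auxT1 auxT2)) (.nd 320 (.nd 256 auxT3 auxT4) (.nd 384 auxT5 auxT6))) (.nd 704 (.nd 576 (.nd 512 auxT7 auxT8) (.nd 640 auxT9 auxT10)) (.nd 832 (.nd 768 auxT11 auxT12) (.nd 896 auxT13 auxT14)))) (.nd 1408 (.nd 1152 (.nd 1024 auxT15 (.nd 1088 auxT16 auxT17)) (.nd 1280 (.nd 1216 auxT18 auxT19) (.nd 1344 auxT20 auxT21))) (.nd 1664 (.nd 1536 (.nd 1472 auxT22 auxT23) (.nd 1600 auxT24 auxT25)) (.nd 1792 (.nd 1728 auxT26 auxT27) (.nd 1856 auxT28 auxT29)))))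

/-- The composites at a coset. -/
noncomputable def auxF (i : ℕ) : ℕ := auxT.fld 6 204 i

end Cfsg.Lib.ONPres
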