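import Mathlib

/-!
Tools for certificates of large coset tables over letters closed under inversion: packed tables read through binary
trees, checks of facts along relator cycles, and checks of table entries in the order of their ranks.
-/

set_option autoImplicit false

namespace Cfsg.Lib.ONPres

/-- A binary tree of packed natural numbers with thresholds. -/
inductive TT
  | lf (v : ℕ)
  | nd (m : ℕ) (l r : TT)

/-- The leaf for an index. -/
noncomputable def TT.get (t : TT) : ℕ → ℕ :=
  TT.rec (fun v _ => v) (fun m _ _ gl gr i => (Nat.ble m i).rec (gl i) (gr i)) t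

/-- A field of `w` bits in a table of `2 ^ k` fields a leaf. -/
noncomputable def TT.fld (t : TT) (k w i : ℕ) : ℕ :=
  Nat.mod (Nat.shiftRight (t.get (Nat.shiftRight i k)) (Nat.mul w (Nat.mod i (Nat.pow 2 k)))) (Nat.pow 2 w)

/-- Evaluate a number before going on. -/
noncomputable def force (n : ℕ) (k : ℕ → Bool) : Bool :=
  Nat.rec (motive := fun _ => Bool) (k 0) (fun m _ => k (Nat.succ m)) n

theorem force_eq (n : ℕ) (k : ℕ → Bool) : force n k = k n := by cases n <;> rfl

/-- The inverse letter. -/
def ivl (l : ℕ) : ℕ := bif Nat.beq l 0 then 7 else bif Nat.beq l 7 then 0 else l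

section letters
variable {G : Type*} [Group G]

/-- Letters closed under inversion. -/
def Letters (im : ℕ → G) : Prop := (∀ l, im (ivl l) = (im l)⁻¹) ∧ ∀ l, 8 ≤ l → im l = 1

/-- The value of a word code: digits are letters shifted by one, the first letter lowest. -/
def cval (im : ℕ → G) (c : ℕ) : G :=
  if c = 0 then 1 else im (c % 16 - 1) * cval im (c / 16)
  termination_by c
  decreasing_by omega

/-- The code of a word. -/
def enc : List ℕ → ℕ
  | [] => 0
  | l :: w => (l + 1) + 16 * enc w

theorem cval_zero (im : ℕ → G) : cval im 0 = 1 := by rw [cval]; simp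

theorem cval_pos (im : ℕ → G) {c : ℕ} (h : c ≠ 0) : cval im c = im (c % 16 - 1) * cval im (c / 16) := by
  rw [cval]; simp [h]

theorem cval_enc (im : ℕ → G) : ∀ w : List ℕ, (∀ l ∈ w, l < 15) → cval im (enc w) = (w.map im).prod
  | [], _ => by simp [enc, cval_zero]
  | l :: w, h => by
    have hl : l < 15 := h l (by simp)
    rw [enc, cval_pos im (by omega), List.map_cons, List.prod_cons,
      show ((l + 1) + 16 * enc w) % 16 - 1 = l by omega, show ((l + 1) + 16 * enc w) / 16 = enc w by omega,
      cval_enc im w fun x hx => h x (List.mem_cons_of_mem _ hx)]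

/-- Codes of the first `nrot` rotated relators have trivial value. -/
def RotsOK (im : ℕ → G) (rc : ℕ → ℕ) (nrot : ℕ) : Prop := ∀ k, k < nrot → cval im (rc k) = 1

end letters

/-! ### Facts between named cosets -/

/-- Source of a fact. -/
def eu (e : ℕ) : ℕ := Nat.mod e 262144
/-- Target of a fact. -/
def ev (e : ℕ) : ℕ := Nat.mod (Nat.div e 262144) 262144
/-- Letter of a fact; eight is the empty letter. -/
def el (e : ℕ) : ℕ := Nat.div e 68719476736

/-- Follow references along a fact path, matching the letters against a code. -/
noncomputable def walkA (fe : ℕ → ℕ) (bound v last : ℕ) : ℕ → ℕ → ℕ → ℕ → Bool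
  | 0, _, _, _ => false
  | f + 1, refs, cur, code =>
    bif Nat.beq refs 0 then Nat.beq cur v && Nat.beq code last
    else force (Nat.sub (Nat.mod refs 524288) 1) fun r =>
      Nat.blt (Nat.div r 2) bound && force (fe (Nat.div r 2)) fun e =>
        bif Nat.beq (Nat.mod r 2) 0 then
          Nat.beq (eu e) cur && force (el e) fun l => force (ev e) fun c => force (Nat.div refs 524288) fun rs =>
            (bif Nat.ble 8 l then walkA fe bound v last f rs c code
             else Nat.beq (Nat.mod code 16) (l + 1) && force (Nat.div code 16) fun d =>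
               walkA fe bound v last f rs c d)
        else
          Nat.beq (ev e) cur && force (el e) fun l => force (eu e) fun c => force (Nat.div refs 524288) fun rs =>
            (bif Nat.ble 8 l then walkA fe bound v last f rs c code
             else Nat.beq (Nat.mod code 16) (ivl l + 1) && force (Nat.div code 16) fun d =>
               walkA fe bound v last f rs c d)

/-- A step: `0` is a definition, `1` a subgroup fact, else a cycle closing up to a rotated relator. -/
noncomputable def stepA (fe pn rc : ℕ → ℕ) (nrot i j : ℕ) : Bool :=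
  force (fe i) fun e => force (eu e) fun u => force (ev e) fun v => force (el e) fun l =>
    force (Nat.mod j 256) fun k =>
      bif Nat.beq k 0 then Nat.blt u v && Nat.blt l 8 && Nat.beq (pn v) i
      else bif Nat.beq k 1 then Nat.beq u 0 && Nat.beq v 0 && Nat.ble 1 l && Nat.ble l 6
      else Nat.blt (k - 2) nrot && Nat.ble l 8 &&
        walkA fe i v (bif Nat.beq l 8 then 0 else ivl l + 1) 32 (Nat.div j 256) u (rc (k - 2))

/-- A block of steps. -/
noncomputable def stepsA (fe pn rc : ℕ → ℕ) (nrot : ℕ) : List ℕ → ℕ → Bool
  | [], _ => true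
  | j :: js, i => stepA fe pn rc nrot i j && force (i + 1) fun i' => stepsA fe pn rc nrot js i'

/-- The steps of an interval have passed. -/
def CoveredA (fe pn rc : ℕ → ℕ) (nrot lo hi : ℕ) : Prop :=
  ∀ i, lo ≤ i → i < hi → ∃ j, stepA fe pn rc nrot i j = true

theorem coveredA_of_steps {fe pn rc : ℕ → ℕ} {nrot : ℕ} : ∀ (L : List ℕ) (lo : ℕ),
    stepsA fe pn rc nrot L lo = true → CoveredA fe pn rc nrot lo (lo + L.length)
  | [], lo, _ => fun i h1 h2 => absurd h2 (by simp only [List.length_nil]; omega)
  | j :: js, lo, h => fun i h1 h2 => by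
    rw [stepsA, Bool.and_eq_true, force_eq] at h
    rcases eq_or_lt_of_le h1 with rfl | hlt
    · exact ⟨j, h.1⟩
    · refine coveredA_of_steps js (lo + 1) h.2 i hlt ?_
      simp only [List.length_cons] at h2
      omega

theorem CoveredA.trans {fe pn rc : ℕ → ℕ} {nrot a b c : ℕ} (h : CoveredA fe pn rc nrot a b)
    (h' : CoveredA fe pn rc nrot b c) : CoveredA fe pn rc nrot a c := fun i h1 h2 => by
  rcases lt_or_ge i b with hb | hb
  exacts [h i h1 hb, h' i hb h2]

section
variable {G : Type*} [Group G] (im : ℕ → G) (fe pn : ℕ → ℕ)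

/-- The representative of a name. -/
noncomputable def nrep (v : ℕ) : G :=
  if h : eu (fe (pn v)) < v ∧ ev (fe (pn v)) = v then nrep (eu (fe (pn v))) * im (el (fe (pn v))) else 1
  termination_by v
  decreasing_by exact h.1

/-- What a fact says. -/
def FactOK (H : Subgroup G) (i : ℕ) : Prop :=
  nrep im fe pn (eu (fe i)) * im (el (fe i)) * (nrep im fe pn (ev (fe i)))⁻¹ ∈ H

variable {im fe pn}

theorem walkA_sound (hL : Letters im) {H : Subgroup G} {bound v last : ℕ}
    (ih : ∀ i, i < bound → FactOK im fe pn H i) {tail : G} (hlast : cval im last * tail = 1) :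
    ∀ f refs cur code, walkA fe bound v last f refs cur code = true →
      nrep im fe pn cur * cval im code * tail * (nrep im fe pn v)⁻¹ ∈ H := by
  intro f
  induction f with
  | zero => intro _ _ _ h; simp [walkA] at h
  | succ f ihf =>
    intro refs cur code h
    simp only [walkA, force_eq, Nat.blt, Bool.cond_eq_ite, Nat.beq_eq, Nat.ble_eq] at h
    by_cases hr : refs = 0
    · simp only [hr, if_true, Bool.and_eq_true, Nat.beq_eq] at h
      obtain ⟨rfl, rfl⟩ := h
      rw [mul_assoc _ (cval im code) tail, hlast]
      simp
    · simp only [hr, if_false, Bool.and_eq_true, Nat.ble_eq] at h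
      obtain ⟨hb, h⟩ := h
      set e := fe (Nat.div (Nat.sub (Nat.mod refs 524288) 1) 2) with he
      have hF := ih _ hb
      rw [FactOK, ← he] at hF
      by_cases hd : Nat.mod (Nat.sub (Nat.mod refs 524288) 1) 2 = 0
      · simp only [hd, if_true, Bool.and_eq_true, Nat.beq_eq] at h
        obtain ⟨rfl, h⟩ := h
        by_cases hl : 8 ≤ el e
        · simp only [hl, if_true] at h
          rw [hL.2 _ hl, mul_one] at hF
          have := H.mul_mem hF (ihf _ _ _ h)
          convert this using 1; group
        · simp only [hl, if_false, Bool.and_eq_true, Nat.beq_eq] at h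
          obtain ⟨hc, h⟩ := h
          have hc' : code % 16 = el e + 1 := hc
          rw [cval_pos im (c := code) (by omega), hc', Nat.add_sub_cancel]
          have := H.mul_mem hF (ihf _ _ _ h)
          convert this using 1
          show _ = _ * (nrep im fe pn (ev e) * cval im (code / 16) * tail * _)
          group
      · simp only [hd, if_false, Bool.and_eq_true, Nat.beq_eq] at h
        obtain ⟨rfl, h⟩ := h
        by_cases hl : 8 ≤ el e
        · simp only [hl, if_true] at h
          rw [hL.2 _ hl, mul_one] at hF
          have := H.mul_mem (H.inv_mem hF) (ihf _ _ _ h)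
          convert this using 1; group
        · simp only [hl, if_false, Bool.and_eq_true, Nat.beq_eq] at h
          obtain ⟨hc, h⟩ := h
          have hc' : code % 16 = ivl (el e) + 1 := hc
          rw [cval_pos im (c := code) (by omega), hc', Nat.add_sub_cancel, hL.1]
          have := H.mul_mem (H.inv_mem hF) (ihf _ _ _ h)
          convert this using 1
          show _ = _ * (nrep im fe pn (eu e) * cval im (code / 16) * tail * _)
          group

/-- All facts hold. -/
theorem factsA (hL : Letters im) {H : Subgroup G} (hH : ∀ l, 1 ≤ l → l ≤ 6 → im l ∈ H) {rc : ℕ → ℕ} {nrot N : ℕ}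
    (hR : RotsOK im rc nrot) (hC : CoveredA fe pn rc nrot 0 N) : ∀ i, i < N → FactOK im fe pn H i := by
  intro i
  induction i using Nat.strong_induction_on with
  | _ i ih =>
    intro hi
    obtain ⟨j, h⟩ := hC i (Nat.zero_le i) hi
    simp only [stepA, force_eq, Nat.blt, Bool.cond_eq_ite, Nat.beq_eq] at h
    rw [FactOK]
    by_cases h0 : Nat.mod j 256 = 0
    · simp only [h0, if_true, Bool.and_eq_true, Nat.beq_eq, Nat.ble_eq] at h
      obtain ⟨⟨huv, -⟩, hp⟩ := h
      conv => arg 2; arg 2; arg 1; rw [nrep]
      rw [hp, dif_pos ⟨huv, rfl⟩]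
      simp
    · by_cases h1 : Nat.mod j 256 = 1
      · simp only [h1, Nat.one_ne_zero, if_false, if_true, Bool.and_eq_true, Nat.beq_eq, Nat.ble_eq] at h
        obtain ⟨⟨⟨hu, hv⟩, hl1⟩, hl6⟩ := h
        rw [hu, hv]
        simpa [nrep] using H.mul_mem (H.mul_mem (H.one_mem) (hH _ hl1 hl6)) H.one_mem
      · simp only [h0, h1, if_false, Bool.and_eq_true, Nat.ble_eq] at h
        obtain ⟨⟨hk, hl⟩, hw⟩ := h
        have := walkA_sound hL (fun k hk' => ih k hk' (lt_trans hk' hi)) (tail := im (el (fe i))) ?_ _ _ _ _ hw
        · rw [hR _ hk, mul_one] at this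
          exact this
        · by_cases h8 : el (fe i) = 8
          · simp [h8, cval_zero, hL.2 8 le_rfl]
          · have : ivl (el (fe i)) < 15 := by
              rw [ivl]; (rcases Nat.beq (el (fe i)) 0 <;> rcases Nat.beq (el (fe i)) 7 <;> simp); all_goals omega
            have e : cval im (ivl (el (fe i)) + 1) = im (ivl (el (fe i))) := by
              have := cval_enc im [ivl (el (fe i))] (by simpa using this)
              simpa [enc] using this
            simp only [h8, if_false]
            rw [e, hL.1]; simp

end

end Cfsg.Lib.ONPres
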