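import Cfsg.Agent.ONPres.Tables

/-!
Small data of the O'Nan certificate: relator words, rotations, links and seeds.
-/

set_option autoImplicit false

namespace Cfsg.Lib.ONPres

/-- The relator words, with two consequences of free cancellation at the end. -/
def relW : List (List ℕ) := [[2, 3, 2, 3, 2, 3], [2, 4, 2, 4], [3, 4, 3, 4, 3, 4, 3, 4, 0, 0], [4, 6, 4, 6], [6, 6], [2, 3, 4, 0, 2, 3, 4, 0, 2, 3, 4, 0, 2, 3, 4, 0, 2, 3, 4, 0], [3, 4, 3, 4, 3, 4, 3, 4, 7, 7], [1, 3, 1, 3], [5, 5], [0, 0, 0, 0], [1, 5, 1, 5], [0, 5, 4, 0, 4, 5, 0, 5, 4, 0, 4], [2, 2], [3, 6, 3, 6], [4, 4], [1, 6, 7, 7], [1, 2, 1, 2, 1, 2], [1, 4, 1, 4], [2, 5, 2, 5], [1, 6, 0, 0], [1, 6, 1, 6], [3, 3], [3, 5, 3, 5], [0, 2, 3, 0, 3, 2, 0, 2, 3, 0, 3], [1, 1], [3, 4, 3, 4, 3, 4, 3, 4, 3, 4, 3, 4, 3, 4, 3, 4], [2, 6, 2, 6], [4, 5, 4, 5, 4, 5], [3, 7, 4, 7, 4, 3, 4, 0, 4, 0], [4, 7, 3, 7, 3, 4, 3, 0, 3, 0], [1, 6, 4, 3, 4, 3, 4, 3, 4, 3], [5, 6, 5, 6, 5, 6], [0, 7], [7, 0]]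

/-- Rotated relators by word, shift and inversion. -/
def rotS : List (ℕ × ℕ × Bool) := [(24, 0, false), (12, 0, false), (21, 0, false), (14, 0, false), (8, 0, false), (4, 0, false), (7, 0, false), (7, 1, false), (17, 0, false), (17, 1, false), (10, 0, false), (10, 1, false), (20, 0, false), (20, 1, false), (1, 0, false), (1, 1, false), (18, 0, false), (18, 1, false), (26, 0, false), (26, 1, false), (22, 0, false), (22, 1, false), (13, 0, false), (13, 1, false), (3, 0, false), (3, 1, false), (15, 0, false), (15, 1, false), (15, 2, false), (15, 3, false), (15, 0, true), (15, 1, true), (15, 2, true), (15, 3, true), (16, 0, false), (16, 1, false), (0, 0, false), (0, 1, false), (27, 0, false), (27, 1, false), (31, 0, false), (31, 1, false), (30, 0, false), (30, 1, false), (30, 2, false), (30, 3, false), (30, 4, false), (30, 5, false), (30, 6, false), (30, 7, false), (30, 8, false), (30, 9, false), (30, 0, true), (30, 1, true), (30, 2, true), (30, 3, true), (30, 4,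 true), (30, 5, true), (30, 6, true), (30, 7, true), (30, 8, true), (30, 9, true), (28, 0, false), (28, 1, false), (28, 2, false), (28, 3, false), (28, 4, false), (28, 5, false), (28, 6, false), (28, 7, false), (28, 8, false), (28, 9, false), (29, 0, false), (29, 1, false), (29, 2, false), (29, 3, false), (29, 4, false), (29, 5, false), (29, 6, false), (29, 7, false), (29, 8, false), (29, 9, false), (23, 0, false), (23, 1, false), (23, 2, false), (23, 3, false), (23, 4, false), (23, 5, false), (23, 6, false), (23, 7, false), (23, 8, false), (23, 9, false), (23, 10, false), (23, 0, true), (23, 1, true), (23, 2, true), (23, 3, true), (23, 4, true), (23, 5, true), (23, 6, true), (23, 7, true), (23, 8, true), (23, 9, true), (23, 10, true), (11, 0, false), (11, 1, false), (11, 2, false), (11, 3, false), (11, 4, false), (11, 5, false), (11, 6, false), (11, 7, false), (11, 8, false), (11, 9, false), (11, 10, false), (11, 0, true), (11, 1, true), (11, 2, true), (11, 3, true),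 (11, 4, true), (11, 5, true), (11, 6, true), (11, 7, true), (11, 8, true), (11, 9, true), (11, 10, true), (25, 0, false), (25, 1, false), (5, 0, false), (5, 1, false), (5, 2, false), (5, 3, false), (5, 0, true), (5, 1, true), (5, 2, true), (5, 3, true), (2, 1, true), (2, 5, true), (6, 1, true), (32, 0, false), (33, 0, false), (2, 2, true), (6, 2, true), (2, 6, true), (2, 8, false), (6, 9, false), (2, 9, false), (6, 0, true), (6, 8, false), (2, 4, false), (2, 9, true), (2, 0, true), (2, 7, true), (2, 3, true), (2, 4, true), (2, 8, true), (2, 6, false), (2, 1, false), (2, 2, false), (2, 5, false), (2, 7, false), (2, 3, false), (9, 0, true), (19, 2, true), (19, 1, true), (19, 0, true), (19, 2, false), (9, 0, false), (2, 0, false), (19, 3, true), (6, 7, true), (6, 3, false), (19, 0, false), (19, 3, false)]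

/-- Links of cosets to names. -/
def linksL : List Lk := [⟨1, 1, 0, 4, false⟩, ⟨2, 2, 1, 6, false⟩, ⟨9, 3, 2, 7, false⟩, ⟨30, 4, 3, 8, false⟩, ⟨81, 66, 4, 3052, false⟩, ⟨196, 232, 66, 3221, false⟩, ⟨432, 1554, 232, 3331, false⟩, ⟨953, 3222, 1554, 6166, false⟩, ⟨2127, 3733, 3222, 7061, true⟩, ⟨4591, 3732, 3733, 7060, true⟩, ⟨9559, 8246, 3732, 195967, false⟩, ⟨10, 32, 2, 42, false⟩, ⟨35, 106, 32, 156, false⟩, ⟨98, 107, 106, 157, false⟩, ⟨229, 1272, 107, 2468, false⟩, ⟨501, 1273, 1272, 2469, false⟩, ⟨1118, 1193, 1273, 20666, true⟩, ⟨2499, 1194, 1193, 2360, false⟩, ⟨5395, 8248, 1194, 112313, false⟩, ⟨11281, 8247, 8248, 16608, true⟩, ⟨8, 45, 2, 2246, true⟩, ⟨26, 80, 45, 2283, true⟩, ⟨73, 804, 80, 2387, true⟩, ⟨176, 1814, 804, 3809, false⟩, ⟨386, 2261, 1814, 13611, false⟩, ⟨11, 47, 2, 72, false⟩, ⟨38, 108, 47, 159, true⟩, ⟨104, 1525, 108, 2840, false⟩, ⟨242, 2292, 1525, 4540, false⟩, ⟨535, 8288, 2292, 109676, true⟩]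

/-- The seeds. -/
def seedsL : List Sd := [⟨9559, 0, 8246, 8247, 16607, false⟩, ⟨386, 4, 2261, 2261, 30071, false⟩, ⟨386, 0, 2261, 8288, 109679, true⟩, ⟨535, 4, 8288, 8288, 16746, false⟩]

end Cfsg.Lib.ONPres
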