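import Cfsg.Prelude.Def_Spor_ON
import Cfsg.Agent.ONPres.Kit
import Cfsg.Agent.ONPres.SmallData

/-!
The relations of the presented O'Nan group in the form of equations, and the values of the relator words.
-/

set_option autoImplicit false

namespace Cfsg.Lib.ONPres

open Cfsg.Spor.ON (Gen)

/-- The relations of the presentation. -/
structure ONRels {G : Type*} [Group G] (g a b c d e f : G) : Prop where
  sa : a * a = 1
  sb : b * b = 1
  sc : c * c = 1
  sd : d * d = 1
  se : e * e = 1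
  sf : f * f = 1
  ab : (a * b) ^ 3 = 1
  ac : (a * c) ^ 2 = 1
  ad : (a * d) ^ 2 = 1
  ae : (a * e) ^ 2 = 1
  af : (a * f) ^ 2 = 1
  bc : (b * c) ^ 3 = 1
  bd : (b * d) ^ 2 = 1
  be : (b * e) ^ 2 = 1
  bf : (b * f) ^ 2 = 1
  cd : (c * d) ^ 8 = 1
  ce : (c * e) ^ 2 = 1
  cf : (c * f) ^ 2 = 1
  de : (d * e) ^ 3 = 1
  df : (d * f) ^ 2 = 1
  ef : (e * f) ^ 3 = 1
  r1 : a * f = g ^ 2
  r2 : a * f = (c * d) ^ 4
  r3 : c * ((d * g * d * g)⁻¹ * c * (d * g * d * g)) = 1
  r4 : d * ((c * g * c * g)⁻¹ * d * (c * g * c * g)) = 1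
  r5 : (b * c * d * g) ^ 5 = 1
  r6 : g * b * (c⁻¹ * g * c) * (b⁻¹ * g * b) * (c⁻¹ * g * c) = 1
  r7 : g * e * (d⁻¹ * g * d) * (e⁻¹ * g * e) * (d⁻¹ * g * d) = 1

/-- The presented group's generators. -/
noncomputable def gen (x : Gen) : Cfsg.Spor.ON := PresentedGroup.of x

theorem gen_eq (x : Gen) : gen x = PresentedGroup.mk _ (FreeGroup.of x) := rfl

theorem on_cox (x y : Gen) (hx : x ∈ Cfsg.Spor.coxNodes Cfsg.Spor.ON.edges)
    (hy : y ∈ Cfsg.Spor.coxNodes Cfsg.Spor.ON.edges) :
    (gen x * gen y) ^ Cfsg.Spor.coxLabel Cfsg.Spor.ON.edges x y = 1 := by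
  have := PresentedGroup.one_of_mem (rels := Cfsg.Spor.coxRelators Cfsg.Spor.ON.edges ∪ {r | r ∈ Cfsg.Spor.ON.extra})
    (x := (FreeGroup.of x * FreeGroup.of y) ^ Cfsg.Spor.coxLabel Cfsg.Spor.ON.edges x y)
    (Or.inl ⟨x, hx, y, hy, rfl⟩)
  rw [map_pow, map_mul] at this
  exact this

theorem on_extra {r : FreeGroup Gen} (h : r ∈ Cfsg.Spor.ON.extra) :
    PresentedGroup.mk (Cfsg.Spor.coxRelators Cfsg.Spor.ON.edges ∪ {r | r ∈ Cfsg.Spor.ON.extra}) r = 1 :=
  PresentedGroup.one_of_mem (Or.inr h)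

theorem on_rels : ONRels (gen .g) (gen .a) (gen .b) (gen .c) (gen .d) (gen .e) (gen .f) := by
  have cx : ∀ x y : Gen, ∀ m, x ∈ Cfsg.Spor.coxNodes Cfsg.Spor.ON.edges → y ∈ Cfsg.Spor.coxNodes Cfsg.Spor.ON.edges →
      Cfsg.Spor.coxLabel Cfsg.Spor.ON.edges x y = m → (gen x * gen y) ^ m = 1 :=
    fun x y m hx hy h => h ▸ on_cox x y hx hy
  have sq : ∀ x : Gen, x ∈ Cfsg.Spor.coxNodes Cfsg.Spor.ON.edges → gen x * gen x = 1 := fun x hx => by
    have := cx x x 1 hx hx (by simp [Cfsg.Spor.coxLabel])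
    simpa using this
  refine ⟨sq _ (by decide), sq _ (by decide), sq _ (by decide), sq _ (by decide), sq _ (by decide),
    sq _ (by decide), cx _ _ _ (by decide) (by decide) (by decide), cx _ _ _ (by decide) (by decide) (by decide),
    cx _ _ _ (by decide) (by decide) (by decide), cx _ _ _ (by decide) (by decide) (by decide),
    cx _ _ _ (by decide) (by decide) (by decide), cx _ _ _ (by decide) (by decide) (by decide),
    cx _ _ _ (by decide) (by decide) (by decide), cx _ _ _ (by decide) (by decide) (by decide),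
    cx _ _ _ (by decide) (by decide) (by decide), cx _ _ _ (by decide) (by decide) (by decide),
    cx _ _ _ (by decide) (by decide) (by decide), cx _ _ _ (by decide) (by decide) (by decide),
    cx _ _ _ (by decide) (by decide) (by decide), cx _ _ _ (by decide) (by decide) (by decide),
    cx _ _ _ (by decide) (by decide) (by decide), ?_, ?_, ?_, ?_, ?_, ?_, ?_⟩
  all_goals simp only [gen_eq, ← map_mul, ← map_pow, ← map_inv]
  · rw [← mul_inv_eq_one, ← map_inv, ← map_mul]; exact on_extra (by simp [Cfsg.Spor.ON.extra])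
  · rw [← mul_inv_eq_one, ← map_inv, ← map_mul]; exact on_extra (by simp [Cfsg.Spor.ON.extra])
  all_goals exact on_extra (by simp [Cfsg.Spor.ON.extra])

section
variable {G : Type*} [Group G]

/-- The value of a word. -/
def wv (im : ℕ → G) (w : List ℕ) : G := (w.map im).prod

/-- The letters of the table. -/
def lett (g a b c d e f : G) : ℕ → G
  | 0 => g
  | 1 => a
  | 2 => b
  | 3 => c
  | 4 => d
  | 5 => e
  | 6 => f
  | 7 => g⁻¹
  | _ => 1

variable {g a b c d e f : G} (h : ONRels g a b c d e f)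
include h

theorem ONRels.letters : Letters (lett g a b c d e f) := by
  refine ⟨fun l => ?_, fun l hl => ?_⟩
  · rcases l with _ | _ | _ | _ | _ | _ | _ | _ | l
    · exact (rfl : lett g a b c d e f (ivl 0) = g⁻¹).trans rfl
    · exact (inv_eq_of_mul_eq_one_left h.sa).symm
    · exact (inv_eq_of_mul_eq_one_left h.sb).symm
    · exact (inv_eq_of_mul_eq_one_left h.sc).symm
    · exact (inv_eq_of_mul_eq_one_left h.sd).symm
    · exact (inv_eq_of_mul_eq_one_left h.se).symm
    · exact (inv_eq_of_mul_eq_one_left h.sf).symm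
    · exact (rfl : lett g a b c d e f (ivl 7) = g).trans (inv_inv g).symm
    · show lett g a b c d e f (l + 8) = (lett g a b c d e f (l + 8))⁻¹
      simp [lett]
  · obtain ⟨k, rfl⟩ : ∃ k, l = k + 8 := ⟨l - 8, by omega⟩
    simp [lett]

theorem ONRels.gg : g * g = a * f := by rw [h.r1, pow_two]

theorem ONRels.relW_one : ∀ w ∈ relW, wv (lett g a b c d e f) w = 1 := by
  have hc : c⁻¹ = c := inv_eq_of_mul_eq_one_left h.sc
  have hd : d⁻¹ = d := inv_eq_of_mul_eq_one_left h.sd
  have hb : b⁻¹ = b := inv_eq_of_mul_eq_one_left h.sb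
  have he : e⁻¹ = e := inv_eq_of_mul_eq_one_left h.se
  have hP : c * (d * (c * (d * (c * (d * (c * d)))))) = a * f := by
    rw [h.r2]; simp [pow_succ, mul_assoc]
  have hQ : d * (c * (d * (c * (d * (c * (d * c)))))) = (a * f)⁻¹ := by
    rw [← hP]; simp only [mul_inv_rev, hc, hd, mul_assoc]
  have h2 : a * (f * (a * f)) = 1 := by simpa [pow_succ, mul_assoc] using h.af
  intro w hw
  simp only [relW, List.mem_cons, List.not_mem_nil, or_false] at hw
  rcases hw with rfl | rfl | rfl | rfl | rfl | rfl | rfl | rfl | rfl | rfl | rfl | rfl | rfl | rfl | rfl | rfl | rfl |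
    rfl | rfl | rfl | rfl | rfl | rfl | rfl | rfl | rfl | rfl | rfl | rfl | rfl | rfl | rfl | rfl | rfl
  all_goals simp only [wv, lett, List.map_cons, List.map_nil, List.prod_cons, List.prod_nil, mul_one]
  · simpa [pow_succ, mul_assoc] using h.bc
  · simpa [pow_succ, mul_assoc] using h.bd
  · rw [show c * (d * (c * (d * (c * (d * (c * (d * (g * g)))))))) = a * f * (g * g) by
      rw [← hP]; simp [mul_assoc], h.gg]
    simpa [mul_assoc] using h2
  · simpa [pow_succ, mul_assoc] using h.df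
  · exact h.sf
  · simpa [pow_succ, mul_assoc] using h.r5
  · rw [show c * (d * (c * (d * (c * (d * (c * (d * (g⁻¹ * g⁻¹)))))))) = a * f * (g * g)⁻¹ by
      rw [← hP]; simp [mul_assoc], h.gg, mul_inv_cancel]
  · simpa [pow_succ, mul_assoc] using h.ac
  · exact h.se
  · rw [show g * (g * (g * g)) = g * g * (g * g) by simp [mul_assoc], h.gg]
    simpa [mul_assoc] using h2
  · simpa [pow_succ, mul_assoc] using h.ae
  · simpa [hd, he, mul_assoc] using h.r7
  · exact h.sb
  · simpa [pow_succ, mul_assoc] using h.cf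
  · exact h.sd
  · rw [show a * (f * (g⁻¹ * g⁻¹)) = a * f * (g * g)⁻¹ by simp [mul_assoc], h.gg, mul_inv_cancel]
  · simpa [pow_succ, mul_assoc] using h.ab
  · simpa [pow_succ, mul_assoc] using h.ad
  · simpa [pow_succ, mul_assoc] using h.be
  · rw [show a * (f * (g * g)) = a * f * (g * g) by simp [mul_assoc], h.gg]
    simpa [mul_assoc] using h2
  · simpa [mul_assoc] using h2
  · exact h.sc
  · simpa [pow_succ, mul_assoc] using h.ce
  · simpa [hc, hb, mul_assoc] using h.r6
  · exact h.sa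
  · simpa [pow_succ, mul_assoc] using h.cd
  · simpa [pow_succ, mul_assoc] using h.bf
  · simpa [pow_succ, mul_assoc] using h.de
  · simpa [hd, mul_assoc] using h.r3
  · simpa [hc, mul_assoc] using h.r4
  · rw [hQ]; simp
  · simpa [pow_succ, mul_assoc] using h.ef
  · simp
  · simp

end

end Cfsg.Lib.ONPres
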