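import Cfsg.Agent.ONPres.Check

/-!
Kernel check that every coset hangs in the tree of parent edges.
-/

set_option autoImplicit false

namespace Cfsg.Lib.ONPres

/-- The tree check at one coset. -/
noncomputable def tree1 (i : ℕ) : Bool :=
  Nat.beq i 0 || (force (parF i) fun p => Nat.blt (Nat.div p 8) i && Nat.beq (tgt rowF (Nat.div p 8) (Nat.mod p 8)) i)

set_option maxRecDepth 100000 in
theorem tree_0 : rangeOK tree1 1023 0 = true := by decide +kernel

set_option maxRecDepth 100000 in
theorem tree_1 : rangeOK tree1 1023 1023 = true := by decide +kernel

set_option maxRecDepth 100000 in
theorem tree_2 : rangeOK tree1 1023 2046 = true := by decide +kernel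

set_option maxRecDepth 100000 in
theorem tree_3 : rangeOK tree1 1023 3069 = true := by decide +kernel

set_option maxRecDepth 100000 in
theorem tree_4 : rangeOK tree1 1023 4092 = true := by decide +kernel

set_option maxRecDepth 100000 in
theorem tree_5 : rangeOK tree1 1023 5115 = true := by decide +kernel

set_option maxRecDepth 100000 in
theorem tree_6 : rangeOK tree1 1023 6138 = true := by decide +kernel

set_option maxRecDepth 100000 in
theorem tree_7 : rangeOK tree1 1023 7161 = true := by decide +kernel

set_option maxRecDepth 100000 in
theorem tree_8 : rangeOK tree1 1023 8184 = true := by decide +kernel

set_option maxRecDepth 100000 in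
theorem tree_9 : rangeOK tree1 1023 9207 = true := by decide +kernel

set_option maxRecDepth 100000 in
theorem tree_10 : rangeOK tree1 1023 10230 = true := by decide +kernel

set_option maxRecDepth 100000 in
theorem tree_11 : rangeOK tree1 1023 11253 = true := by decide +kernel

set_option maxRecDepth 100000 in
theorem tree_12 : rangeOK tree1 1023 12276 = true := by decide +kernel

set_option maxRecDepth 100000 in
theorem tree_13 : rangeOK tree1 1023 13299 = true := by decide +kernel

set_option maxRecDepth 100000 in
theorem tree_14 : rangeOK tree1 1023 14322 = true := by decide +kernel

set_option maxRecDepth 100000 in
theorem tree_15 : rangeOK tree1 1023 15345 = true := by decide +kernel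

set_option maxRecDepth 100000 in
theorem tree_16 : rangeOK tree1 1023 16368 = true := by decide +kernel

set_option maxRecDepth 100000 in
theorem tree_17 : rangeOK tree1 1023 17391 = true := by decide +kernel

set_option maxRecDepth 100000 in
theorem tree_18 : rangeOK tree1 1023 18414 = true := by decide +kernel

set_option maxRecDepth 100000 in
theorem tree_19 : rangeOK tree1 1023 19437 = true := by decide +kernel

set_option maxRecDepth 100000 in
theorem tree_20 : rangeOK tree1 1023 20460 = true := by decide +kernel

set_option maxRecDepth 100000 in
theorem tree_21 : rangeOK tree1 1023 21483 = true := by decide +kernel

set_option maxRecDepth 100000 in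
theorem tree_22 : rangeOK tree1 1023 22506 = true := by decide +kernel

set_option maxRecDepth 100000 in
theorem tree_23 : rangeOK tree1 1023 23529 = true := by decide +kernel

set_option maxRecDepth 100000 in
theorem tree_24 : rangeOK tree1 1023 24552 = true := by decide +kernel

set_option maxRecDepth 100000 in
theorem tree_25 : rangeOK tree1 1023 25575 = true := by decide +kernel

set_option maxRecDepth 100000 in
theorem tree_26 : rangeOK tree1 1023 26598 = true := by decide +kernel

set_option maxRecDepth 100000 in
theorem tree_27 : rangeOK tree1 1023 27621 = true := by decide +kernel

set_option maxRecDepth 100000 in
theorem tree_28 : rangeOK tree1 1023 28644 = true := by decide +kernel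

set_option maxRecDepth 100000 in
theorem tree_29 : rangeOK tree1 1023 29667 = true := by decide +kernel

set_option maxRecDepth 100000 in
theorem tree_30 : rangeOK tree1 1023 30690 = true := by decide +kernel

set_option maxRecDepth 100000 in
theorem tree_31 : rangeOK tree1 1023 31713 = true := by decide +kernel

set_option maxRecDepth 100000 in
theorem tree_32 : rangeOK tree1 1023 32736 = true := by decide +kernel

set_option maxRecDepth 100000 in
theorem tree_33 : rangeOK tree1 1023 33759 = true := by decide +kernel

set_option maxRecDepth 100000 in
theorem tree_34 : rangeOK tree1 1023 34782 = true := by decide +kernel

set_option maxRecDepth 100000 in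
theorem tree_35 : rangeOK tree1 1023 35805 = true := by decide +kernel

set_option maxRecDepth 100000 in
theorem tree_36 : rangeOK tree1 1023 36828 = true := by decide +kernel

set_option maxRecDepth 100000 in
theorem tree_37 : rangeOK tree1 1023 37851 = true := by decide +kernel

set_option maxRecDepth 100000 in
theorem tree_38 : rangeOK tree1 1023 38874 = true := by decide +kernel

set_option maxRecDepth 100000 in
theorem tree_39 : rangeOK tree1 1023 39897 = true := by decide +kernel

set_option maxRecDepth 100000 in
theorem tree_40 : rangeOK tree1 1023 40920 = true := by decide +kernel

set_option maxRecDepth 100000 in
theorem tree_41 : rangeOK tree1 1023 41943 = true := by decide +kernel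

set_option maxRecDepth 100000 in
theorem tree_42 : rangeOK tree1 1023 42966 = true := by decide +kernel

set_option maxRecDepth 100000 in
theorem tree_43 : rangeOK tree1 1023 43989 = true := by decide +kernel

set_option maxRecDepth 100000 in
theorem tree_44 : rangeOK tree1 1023 45012 = true := by decide +kernel

set_option maxRecDepth 100000 in
theorem tree_45 : rangeOK tree1 1023 46035 = true := by decide +kernel

set_option maxRecDepth 100000 in
theorem tree_46 : rangeOK tree1 1023 47058 = true := by decide +kernel

set_option maxRecDepth 100000 in
theorem tree_47 : rangeOK tree1 1023 48081 = true := by decide +kernel

set_option maxRecDepth 100000 in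
theorem tree_48 : rangeOK tree1 1023 49104 = true := by decide +kernel

set_option maxRecDepth 100000 in
theorem tree_49 : rangeOK tree1 1023 50127 = true := by decide +kernel

set_option maxRecDepth 100000 in
theorem tree_50 : rangeOK tree1 1023 51150 = true := by decide +kernel

set_option maxRecDepth 100000 in
theorem tree_51 : rangeOK tree1 1023 52173 = true := by decide +kernel

set_option maxRecDepth 100000 in
theorem tree_52 : rangeOK tree1 1023 53196 = true := by decide +kernel

set_option maxRecDepth 100000 in
theorem tree_53 : rangeOK tree1 1023 54219 = true := by decide +kernel

set_option maxRecDepth 100000 in
theorem tree_54 : rangeOK tree1 1023 55242 = true := by decide +kernel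

set_option maxRecDepth 100000 in
theorem tree_55 : rangeOK tree1 1023 56265 = true := by decide +kernel

set_option maxRecDepth 100000 in
theorem tree_56 : rangeOK tree1 1023 57288 = true := by decide +kernel

set_option maxRecDepth 100000 in
theorem tree_57 : rangeOK tree1 1023 58311 = true := by decide +kernel

set_option maxRecDepth 100000 in
theorem tree_58 : rangeOK tree1 1023 59334 = true := by decide +kernel

set_option maxRecDepth 100000 in
theorem tree_59 : rangeOK tree1 1023 60357 = true := by decide +kernel

set_option maxRecDepth 100000 in
theorem tree_60 : rangeOK tree1 1023 61380 = true := by decide +kernel

set_option maxRecDepth 100000 in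
theorem tree_61 : rangeOK tree1 1023 62403 = true := by decide +kernel

set_option maxRecDepth 100000 in
theorem tree_62 : rangeOK tree1 1023 63426 = true := by decide +kernel

set_option maxRecDepth 100000 in
theorem tree_63 : rangeOK tree1 1023 64449 = true := by decide +kernel

set_option maxRecDepth 100000 in
theorem tree_64 : rangeOK tree1 1023 65472 = true := by decide +kernel

set_option maxRecDepth 100000 in
theorem tree_65 : rangeOK tree1 1023 66495 = true := by decide +kernel

set_option maxRecDepth 100000 in
theorem tree_66 : rangeOK tree1 1023 67518 = true := by decide +kernel

set_option maxRecDepth 100000 in
theorem tree_67 : rangeOK tree1 1023 68541 = true := by decide +kernel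

set_option maxRecDepth 100000 in
theorem tree_68 : rangeOK tree1 1023 69564 = true := by decide +kernel

set_option maxRecDepth 100000 in
theorem tree_69 : rangeOK tree1 1023 70587 = true := by decide +kernel

set_option maxRecDepth 100000 in
theorem tree_70 : rangeOK tree1 1023 71610 = true := by decide +kernel

set_option maxRecDepth 100000 in
theorem tree_71 : rangeOK tree1 1023 72633 = true := by decide +kernel

set_option maxRecDepth 100000 in
theorem tree_72 : rangeOK tree1 1023 73656 = true := by decide +kernel

set_option maxRecDepth 100000 in
theorem tree_73 : rangeOK tree1 1023 74679 = true := by decide +kernel

set_option maxRecDepth 100000 in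
theorem tree_74 : rangeOK tree1 1023 75702 = true := by decide +kernel

set_option maxRecDepth 100000 in
theorem tree_75 : rangeOK tree1 1023 76725 = true := by decide +kernel

set_option maxRecDepth 100000 in
theorem tree_76 : rangeOK tree1 1023 77748 = true := by decide +kernel

set_option maxRecDepth 100000 in
theorem tree_77 : rangeOK tree1 1023 78771 = true := by decide +kernel

set_option maxRecDepth 100000 in
theorem tree_78 : rangeOK tree1 1023 79794 = true := by decide +kernel

set_option maxRecDepth 100000 in
theorem tree_79 : rangeOK tree1 1023 80817 = true := by decide +kernel

set_option maxRecDepth 100000 in
theorem tree_80 : rangeOK tree1 1023 81840 = true := by decide +kernel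

set_option maxRecDepth 100000 in
theorem tree_81 : rangeOK tree1 1023 82863 = true := by decide +kernel

set_option maxRecDepth 100000 in
theorem tree_82 : rangeOK tree1 1023 83886 = true := by decide +kernel

set_option maxRecDepth 100000 in
theorem tree_83 : rangeOK tree1 1023 84909 = true := by decide +kernel

set_option maxRecDepth 100000 in
theorem tree_84 : rangeOK tree1 1023 85932 = true := by decide +kernel

set_option maxRecDepth 100000 in
theorem tree_85 : rangeOK tree1 1023 86955 = true := by decide +kernel

set_option maxRecDepth 100000 in
theorem tree_86 : rangeOK tree1 1023 87978 = true := by decide +kernel

set_option maxRecDepth 100000 in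
theorem tree_87 : rangeOK tree1 1023 89001 = true := by decide +kernel

set_option maxRecDepth 100000 in
theorem tree_88 : rangeOK tree1 1023 90024 = true := by decide +kernel

set_option maxRecDepth 100000 in
theorem tree_89 : rangeOK tree1 1023 91047 = true := by decide +kernel

set_option maxRecDepth 100000 in
theorem tree_90 : rangeOK tree1 1023 92070 = true := by decide +kernel

set_option maxRecDepth 100000 in
theorem tree_91 : rangeOK tree1 1023 93093 = true := by decide +kernel

set_option maxRecDepth 100000 in
theorem tree_92 : rangeOK tree1 1023 94116 = true := by decide +kernel

set_option maxRecDepth 100000 in
theorem tree_93 : rangeOK tree1 1023 95139 = true := by decide +kernel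

set_option maxRecDepth 100000 in
theorem tree_94 : rangeOK tree1 1023 96162 = true := by decide +kernel

set_option maxRecDepth 100000 in
theorem tree_95 : rangeOK tree1 1023 97185 = true := by decide +kernel

set_option maxRecDepth 100000 in
theorem tree_96 : rangeOK tree1 1023 98208 = true := by decide +kernel

set_option maxRecDepth 100000 in
theorem tree_97 : rangeOK tree1 1023 99231 = true := by decide +kernel

set_option maxRecDepth 100000 in
theorem tree_98 : rangeOK tree1 1023 100254 = true := by decide +kernel

set_option maxRecDepth 100000 in
theorem tree_99 : rangeOK tree1 1023 101277 = true := by decide +kernel

set_option maxRecDepth 100000 in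
theorem tree_100 : rangeOK tree1 1023 102300 = true := by decide +kernel

set_option maxRecDepth 100000 in
theorem tree_101 : rangeOK tree1 1023 103323 = true := by decide +kernel

set_option maxRecDepth 100000 in
theorem tree_102 : rangeOK tree1 1023 104346 = true := by decide +kernel

set_option maxRecDepth 100000 in
theorem tree_103 : rangeOK tree1 1023 105369 = true := by decide +kernel

set_option maxRecDepth 100000 in
theorem tree_104 : rangeOK tree1 1023 106392 = true := by decide +kernel

set_option maxRecDepth 100000 in
theorem tree_105 : rangeOK tree1 1023 107415 = true := by decide +kernel

set_option maxRecDepth 100000 in
theorem tree_106 : rangeOK tree1 1023 108438 = true := by decide +kernel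

set_option maxRecDepth 100000 in
theorem tree_107 : rangeOK tree1 1023 109461 = true := by decide +kernel

set_option maxRecDepth 100000 in
theorem tree_108 : rangeOK tree1 1023 110484 = true := by decide +kernel

set_option maxRecDepth 100000 in
theorem tree_109 : rangeOK tree1 1023 111507 = true := by decide +kernel

set_option maxRecDepth 100000 in
theorem tree_110 : rangeOK tree1 1023 112530 = true := by decide +kernel

set_option maxRecDepth 100000 in
theorem tree_111 : rangeOK tree1 1023 113553 = true := by decide +kernel

set_option maxRecDepth 100000 in
theorem tree_112 : rangeOK tree1 1023 114576 = true := by decide +kernel

set_option maxRecDepth 100000 in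
theorem tree_113 : rangeOK tree1 1023 115599 = true := by decide +kernel

set_option maxRecDepth 100000 in
theorem tree_114 : rangeOK tree1 1023 116622 = true := by decide +kernel

set_option maxRecDepth 100000 in
theorem tree_115 : rangeOK tree1 1023 117645 = true := by decide +kernel

set_option maxRecDepth 100000 in
theorem tree_116 : rangeOK tree1 1023 118668 = true := by decide +kernel

set_option maxRecDepth 100000 in
theorem tree_117 : rangeOK tree1 1023 119691 = true := by decide +kernel

set_option maxRecDepth 100000 in
theorem tree_118 : rangeOK tree1 1023 120714 = true := by decide +kernel

set_option maxRecDepth 100000 in
theorem tree_119 : rangeOK tree1 1023 121737 = true := by decide +kernel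

theorem tree_all : ∀ i, i < 122760 → tree1 i = true := by
  intro i hi
  by_cases h61380 : i < 61380
  · by_cases h30690 : i < 30690
    · by_cases h15345 : i < 15345
      · by_cases h7161 : i < 7161
        · by_cases h3069 : i < 3069
          · by_cases h1023 : i < 1023
            · exact rangeOK_sound _ _ tree_0 i (by omega) (by omega)
            · by_cases h2046 : i < 2046
              · exact rangeOK_sound _ _ tree_1 i (by omega) (by omega)
              · exact rangeOK_sound _ _ tree_2 i (by omega) (by omega)
          · by_cases h5115 : i < 5115
            · by_cases h4092 : i < 4092
              · exact rangeOK_sound _ _ tree_3 i (by omega) (by omega)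
              · exact rangeOK_sound _ _ tree_4 i (by omega) (by omega)
            · by_cases h6138 : i < 6138
              · exact rangeOK_sound _ _ tree_5 i (by omega) (by omega)
              · exact rangeOK_sound _ _ tree_6 i (by omega) (by omega)
        · by_cases h11253 : i < 11253
          · by_cases h9207 : i < 9207
            · by_cases h8184 : i < 8184
              · exact rangeOK_sound _ _ tree_7 i (by omega) (by omega)
              · exact rangeOK_sound _ _ tree_8 i (by omega) (by omega)
            · by_cases h10230 : i < 10230
              · exact rangeOK_sound _ _ tree_9 i (by omega) (by omega)
              · exact rangeOK_sound _ _ tree_10 i (by omega) (by omega)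
          · by_cases h13299 : i < 13299
            · by_cases h12276 : i < 12276
              · exact rangeOK_sound _ _ tree_11 i (by omega) (by omega)
              · exact rangeOK_sound _ _ tree_12 i (by omega) (by omega)
            · by_cases h14322 : i < 14322
              · exact rangeOK_sound _ _ tree_13 i (by omega) (by omega)
              · exact rangeOK_sound _ _ tree_14 i (by omega) (by omega)
      · by_cases h22506 : i < 22506
        · by_cases h18414 : i < 18414
          · by_cases h16368 : i < 16368
            · exact rangeOK_sound _ _ tree_15 i (by omega) (by omega)
            · by_cases h17391 : i < 17391
              · exact rangeOK_sound _ _ tree_16 i (by omega) (by omega)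
              · exact rangeOK_sound _ _ tree_17 i (by omega) (by omega)
          · by_cases h20460 : i < 20460
            · by_cases h19437 : i < 19437
              · exact rangeOK_sound _ _ tree_18 i (by omega) (by omega)
              · exact rangeOK_sound _ _ tree_19 i (by omega) (by omega)
            · by_cases h21483 : i < 21483
              · exact rangeOK_sound _ _ tree_20 i (by omega) (by omega)
              · exact rangeOK_sound _ _ tree_21 i (by omega) (by omega)
        · by_cases h26598 : i < 26598
          · by_cases h24552 : i < 24552
            · by_cases h23529 : i < 23529
              · exact rangeOK_sound _ _ tree_22 i (by omega) (by omega)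
              · exact rangeOK_sound _ _ tree_23 i (by omega) (by omega)
            · by_cases h25575 : i < 25575
              · exact rangeOK_sound _ _ tree_24 i (by omega) (by omega)
              · exact rangeOK_sound _ _ tree_25 i (by omega) (by omega)
          · by_cases h28644 : i < 28644
            · by_cases h27621 : i < 27621
              · exact rangeOK_sound _ _ tree_26 i (by omega) (by omega)
              · exact rangeOK_sound _ _ tree_27 i (by omega) (by omega)
            · by_cases h29667 : i < 29667
              · exact rangeOK_sound _ _ tree_28 i (by omega) (by omega)
              · exact rangeOK_sound _ _ tree_29 i (by omega) (by omega)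
    · by_cases h46035 : i < 46035
      · by_cases h37851 : i < 37851
        · by_cases h33759 : i < 33759
          · by_cases h31713 : i < 31713
            · exact rangeOK_sound _ _ tree_30 i (by omega) (by omega)
            · by_cases h32736 : i < 32736
              · exact rangeOK_sound _ _ tree_31 i (by omega) (by omega)
              · exact rangeOK_sound _ _ tree_32 i (by omega) (by omega)
          · by_cases h35805 : i < 35805
            · by_cases h34782 : i < 34782
              · exact rangeOK_sound _ _ tree_33 i (by omega) (by omega)
              · exact rangeOK_sound _ _ tree_34 i (by omega) (by omega)
            · by_cases h36828 : i < 36828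
              · exact rangeOK_sound _ _ tree_35 i (by omega) (by omega)
              · exact rangeOK_sound _ _ tree_36 i (by omega) (by omega)
        · by_cases h41943 : i < 41943
          · by_cases h39897 : i < 39897
            · by_cases h38874 : i < 38874
              · exact rangeOK_sound _ _ tree_37 i (by omega) (by omega)
              · exact rangeOK_sound _ _ tree_38 i (by omega) (by omega)
            · by_cases h40920 : i < 40920
              · exact rangeOK_sound _ _ tree_39 i (by omega) (by omega)
              · exact rangeOK_sound _ _ tree_40 i (by omega) (by omega)
          · by_cases h43989 : i < 43989
            · by_cases h42966 : i < 42966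
              · exact rangeOK_sound _ _ tree_41 i (by omega) (by omega)
              · exact rangeOK_sound _ _ tree_42 i (by omega) (by omega)
            · by_cases h45012 : i < 45012
              · exact rangeOK_sound _ _ tree_43 i (by omega) (by omega)
              · exact rangeOK_sound _ _ tree_44 i (by omega) (by omega)
      · by_cases h53196 : i < 53196
        · by_cases h49104 : i < 49104
          · by_cases h47058 : i < 47058
            · exact rangeOK_sound _ _ tree_45 i (by omega) (by omega)
            · by_cases h48081 : i < 48081
              · exact rangeOK_sound _ _ tree_46 i (by omega) (by omega)
              · exact rangeOK_sound _ _ tree_47 i (by omega) (by omega)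
          · by_cases h51150 : i < 51150
            · by_cases h50127 : i < 50127
              · exact rangeOK_sound _ _ tree_48 i (by omega) (by omega)
              · exact rangeOK_sound _ _ tree_49 i (by omega) (by omega)
            · by_cases h52173 : i < 52173
              · exact rangeOK_sound _ _ tree_50 i (by omega) (by omega)
              · exact rangeOK_sound _ _ tree_51 i (by omega) (by omega)
        · by_cases h57288 : i < 57288
          · by_cases h55242 : i < 55242
            · by_cases h54219 : i < 54219
              · exact rangeOK_sound _ _ tree_52 i (by omega) (by omega)
              · exact rangeOK_sound _ _ tree_53 i (by omega) (by omega)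
            · by_cases h56265 : i < 56265
              · exact rangeOK_sound _ _ tree_54 i (by omega) (by omega)
              · exact rangeOK_sound _ _ tree_55 i (by omega) (by omega)
          · by_cases h59334 : i < 59334
            · by_cases h58311 : i < 58311
              · exact rangeOK_sound _ _ tree_56 i (by omega) (by omega)
              · exact rangeOK_sound _ _ tree_57 i (by omega) (by omega)
            · by_cases h60357 : i < 60357
              · exact rangeOK_sound _ _ tree_58 i (by omega) (by omega)
              · exact rangeOK_sound _ _ tree_59 i (by omega) (by omega)
  · by_cases h92070 : i < 92070
    · by_cases h76725 : i < 76725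
      · by_cases h68541 : i < 68541
        · by_cases h64449 : i < 64449
          · by_cases h62403 : i < 62403
            · exact rangeOK_sound _ _ tree_60 i (by omega) (by omega)
            · by_cases h63426 : i < 63426
              · exact rangeOK_sound _ _ tree_61 i (by omega) (by omega)
              · exact rangeOK_sound _ _ tree_62 i (by omega) (by omega)
          · by_cases h66495 : i < 66495
            · by_cases h65472 : i < 65472
              · exact rangeOK_sound _ _ tree_63 i (by omega) (by omega)
              · exact rangeOK_sound _ _ tree_64 i (by omega) (by omega)
            · by_cases h67518 : i < 67518
              · exact rangeOK_sound _ _ tree_65 i (by omega) (by omega)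
              · exact rangeOK_sound _ _ tree_66 i (by omega) (by omega)
        · by_cases h72633 : i < 72633
          · by_cases h70587 : i < 70587
            · by_cases h69564 : i < 69564
              · exact rangeOK_sound _ _ tree_67 i (by omega) (by omega)
              · exact rangeOK_sound _ _ tree_68 i (by omega) (by omega)
            · by_cases h71610 : i < 71610
              · exact rangeOK_sound _ _ tree_69 i (by omega) (by omega)
              · exact rangeOK_sound _ _ tree_70 i (by omega) (by omega)
          · by_cases h74679 : i < 74679
            · by_cases h73656 : i < 73656
              · exact rangeOK_sound _ _ tree_71 i (by omega) (by omega)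
              · exact rangeOK_sound _ _ tree_72 i (by omega) (by omega)
            · by_cases h75702 : i < 75702
              · exact rangeOK_sound _ _ tree_73 i (by omega) (by omega)
              · exact rangeOK_sound _ _ tree_74 i (by omega) (by omega)
      · by_cases h83886 : i < 83886
        · by_cases h79794 : i < 79794
          · by_cases h77748 : i < 77748
            · exact rangeOK_sound _ _ tree_75 i (by omega) (by omega)
            · by_cases h78771 : i < 78771
              · exact rangeOK_sound _ _ tree_76 i (by omega) (by omega)
              · exact rangeOK_sound _ _ tree_77 i (by omega) (by omega)
          · by_cases h81840 : i < 81840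
            · by_cases h80817 : i < 80817
              · exact rangeOK_sound _ _ tree_78 i (by omega) (by omega)
              · exact rangeOK_sound _ _ tree_79 i (by omega) (by omega)
            · by_cases h82863 : i < 82863
              · exact rangeOK_sound _ _ tree_80 i (by omega) (by omega)
              · exact rangeOK_sound _ _ tree_81 i (by omega) (by omega)
        · by_cases h87978 : i < 87978
          · by_cases h85932 : i < 85932
            · by_cases h84909 : i < 84909
              · exact rangeOK_sound _ _ tree_82 i (by omega) (by omega)
              · exact rangeOK_sound _ _ tree_83 i (by omega) (by omega)
            · by_cases h86955 : i < 86955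
              · exact rangeOK_sound _ _ tree_84 i (by omega) (by omega)
              · exact rangeOK_sound _ _ tree_85 i (by omega) (by omega)
          · by_cases h90024 : i < 90024
            · by_cases h89001 : i < 89001
              · exact rangeOK_sound _ _ tree_86 i (by omega) (by omega)
              · exact rangeOK_sound _ _ tree_87 i (by omega) (by omega)
            · by_cases h91047 : i < 91047
              · exact rangeOK_sound _ _ tree_88 i (by omega) (by omega)
              · exact rangeOK_sound _ _ tree_89 i (by omega) (by omega)
    · by_cases h107415 : i < 107415
      · by_cases h99231 : i < 99231
        · by_cases h95139 : i < 95139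
          · by_cases h93093 : i < 93093
            · exact rangeOK_sound _ _ tree_90 i (by omega) (by omega)
            · by_cases h94116 : i < 94116
              · exact rangeOK_sound _ _ tree_91 i (by omega) (by omega)
              · exact rangeOK_sound _ _ tree_92 i (by omega) (by omega)
          · by_cases h97185 : i < 97185
            · by_cases h96162 : i < 96162
              · exact rangeOK_sound _ _ tree_93 i (by omega) (by omega)
              · exact rangeOK_sound _ _ tree_94 i (by omega) (by omega)
            · by_cases h98208 : i < 98208
              · exact rangeOK_sound _ _ tree_95 i (by omega) (by omega)
              · exact rangeOK_sound _ _ tree_96 i (by omega) (by omega)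
        · by_cases h103323 : i < 103323
          · by_cases h101277 : i < 101277
            · by_cases h100254 : i < 100254
              · exact rangeOK_sound _ _ tree_97 i (by omega) (by omega)
              · exact rangeOK_sound _ _ tree_98 i (by omega) (by omega)
            · by_cases h102300 : i < 102300
              · exact rangeOK_sound _ _ tree_99 i (by omega) (by omega)
              · exact rangeOK_sound _ _ tree_100 i (by omega) (by omega)
          · by_cases h105369 : i < 105369
            · by_cases h104346 : i < 104346
              · exact rangeOK_sound _ _ tree_101 i (by omega) (by omega)
              · exact rangeOK_sound _ _ tree_102 i (by omega) (by omega)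
            · by_cases h106392 : i < 106392
              · exact rangeOK_sound _ _ tree_103 i (by omega) (by omega)
              · exact rangeOK_sound _ _ tree_104 i (by omega) (by omega)
      · by_cases h114576 : i < 114576
        · by_cases h110484 : i < 110484
          · by_cases h108438 : i < 108438
            · exact rangeOK_sound _ _ tree_105 i (by omega) (by omega)
            · by_cases h109461 : i < 109461
              · exact rangeOK_sound _ _ tree_106 i (by omega) (by omega)
              · exact rangeOK_sound _ _ tree_107 i (by omega) (by omega)
          · by_cases h112530 : i < 112530
            · by_cases h111507 : i < 111507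
              · exact rangeOK_sound _ _ tree_108 i (by omega) (by omega)
              · exact rangeOK_sound _ _ tree_109 i (by omega) (by omega)
            · by_cases h113553 : i < 113553
              · exact rangeOK_sound _ _ tree_110 i (by omega) (by omega)
              · exact rangeOK_sound _ _ tree_111 i (by omega) (by omega)
        · by_cases h118668 : i < 118668
          · by_cases h116622 : i < 116622
            · by_cases h115599 : i < 115599
              · exact rangeOK_sound _ _ tree_112 i (by omega) (by omega)
              · exact rangeOK_sound _ _ tree_113 i (by omega) (by omega)
            · by_cases h117645 : i < 117645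
              · exact rangeOK_sound _ _ tree_114 i (by omega) (by omega)
              · exact rangeOK_sound _ _ tree_115 i (by omega) (by omega)
          · by_cases h120714 : i < 120714
            · by_cases h119691 : i < 119691
              · exact rangeOK_sound _ _ tree_116 i (by omega) (by omega)
              · exact rangeOK_sound _ _ tree_117 i (by omega) (by omega)
            · by_cases h121737 : i < 121737
              · exact rangeOK_sound _ _ tree_118 i (by omega) (by omega)
              · exact rangeOK_sound _ _ tree_119 i (by omega) (by omega)

end Cfsg.Lib.ONPres
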