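import Cfsg.Agent.ONPres.Lower
import Cfsg.Agent.ONPres.TreeCheck

/-!
The subgroup on the six involutory letters of the presented O'Nan group has index 122760 and is a point stabiliser of
the action on the coset table.
-/

set_option autoImplicit false

namespace Cfsg.Lib.ONPres

attribute [local irreducible] rowF auxF parF feF pnF rcF sig

open MulOpposite
open Cfsg.Spor.ON (Gen)

/-- The letters in the presented group. -/
noncomputable def imON : ℕ → Cfsg.Spor.ON := lett (gen .g) (gen .a) (gen .b) (gen .c) (gen .d) (gen .e) (gen .f)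

/-- The subgroup on the six involutory letters. -/
noncomputable def subH : Subgroup Cfsg.Spor.ON :=
  Subgroup.closure {gen .a, gen .b, gen .c, gen .d, gen .e, gen .f}

theorem imON_mem {l : ℕ} (h1 : 1 ≤ l) (h6 : l ≤ 6) : imON l ∈ subH := by
  interval_cases l <;> exact Subgroup.subset_closure (by simp [imON, lett])

theorem subH_eq : ((Subgroup.closure ({Cfsg.Spor.ON.a, Cfsg.Spor.ON.b, Cfsg.Spor.ON.c, Cfsg.Spor.ON.d,
    Cfsg.Spor.ON.e, Cfsg.Spor.ON.f} : Set (FreeGroup Gen))).map
    (PresentedGroup.mk (Cfsg.Spor.coxRelators Cfsg.Spor.ON.edges ∪ {r | r ∈ Cfsg.Spor.ON.extra}))) = subH := by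
  rw [MonoidHom.map_closure]
  simp only [Set.image_insert_eq, Set.image_singleton, subH]
  rfl

theorem gen_top : Subgroup.closure {g | ∃ x < 8, imON x = g} = ⊤ := by
  rw [eq_top_iff, ← PresentedGroup.closure_range_of, Subgroup.closure_le]
  rintro _ ⟨x, rfl⟩
  apply Subgroup.subset_closure
  cases x <;>
    first
      | exact ⟨0, by norm_num, rfl⟩
      | exact ⟨1, by norm_num, rfl⟩
      | exact ⟨2, by norm_num, rfl⟩
      | exact ⟨3, by norm_num, rfl⟩
      | exact ⟨4, by norm_num, rfl⟩
      | exact ⟨5, by norm_num, rfl⟩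
      | exact ⟨6, by norm_num, rfl⟩

theorem cosets_cover : ∀ g : Cfsg.Spor.ON, ∃ i < 122760, g * (crep imON parF i)⁻¹ ∈ subH :=
  covers on_rels.letters (by norm_num) gen_top (on_rels.upper fun _ h1 h6 => imON_mem h1 h6)

/-- The representation, acting from the left to the right. -/
noncomputable def psi : Cfsg.Spor.ON →* RPerm := PresentedGroup.toGroup perm_good

theorem psi_gen (x : Gen) : psi (gen x) = sop (genIdx x) := PresentedGroup.toGroup.of perm_good

theorem psi_imON (x : Fin 8) : psi (imON x) = sop x := by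
  fin_cases x
  all_goals first
    | exact psi_gen .g
    | exact psi_gen .a
    | exact psi_gen .b
    | exact psi_gen .c
    | exact psi_gen .d
    | exact psi_gen .e
    | exact psi_gen .f
    | (show psi (gen .g)⁻¹ = _
       rw [map_inv, psi_gen]
       exact sop_inv 0 7 rfl)

theorem tabHom_apply (g : Cfsg.Spor.ON) : tabHom g = ((psi g).unop)⁻¹ := rfl

theorem base_fixed : ((List.range 6).all fun k => Nat.beq (tgt rowF 0 (k + 1)) 0) = true := by decide +kernel

theorem subH_le_fix : ∀ g ∈ subH, tabHom g 0 = 0 := by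
  intro g hg
  induction hg using Subgroup.closure_induction with
  | mem x hx =>
    have hk : ∃ k : Fin 8, 1 ≤ (k : ℕ) ∧ (k : ℕ) ≤ 6 ∧ imON k = x := by
      simp only [Set.mem_insert_iff, Set.mem_singleton_iff] at hx
      rcases hx with rfl | rfl | rfl | rfl | rfl | rfl
      exacts [⟨1, by decide, by decide, rfl⟩, ⟨2, by decide, by decide, rfl⟩, ⟨3, by decide, by decide, rfl⟩,
        ⟨4, by decide, by decide, rfl⟩, ⟨5, by decide, by decide, rfl⟩, ⟨6, by decide, by decide, rfl⟩]
    obtain ⟨k, h1, h6, rfl⟩ := hk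
    rw [tabHom_apply, psi_imON, Equiv.Perm.inv_eq_iff_eq]
    refine Fin.ext ?_
    have := List.all_eq_true.1 base_fixed ((k : ℕ) - 1) (List.mem_range.2 (by omega))
    rw [Nat.beq_eq, show (k : ℕ) - 1 + 1 = k by omega] at this
    exact (this.symm).trans (acts_sop k (0 : Fin 122760)).symm
  | one => simp
  | mul x y _ _ hx hy => rw [map_mul, Equiv.Perm.mul_apply, hy, hx]
  | inv x _ hx => rw [map_inv, Equiv.Perm.inv_eq_iff_eq, hx]

theorem rep_reach : ∀ i : Fin 122760, (psi (crep imON parF i)).unop 0 = i := by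
  intro i
  obtain ⟨j, hj⟩ := i
  induction j using Nat.strong_induction_on with
  | _ j ih =>
    by_cases h0 : j = 0
    · subst h0
      rw [crep_zero, map_one]; rfl
    · have h := tree_all j hj
      simp only [tree1, force_eq, Bool.or_eq_true, Bool.and_eq_true, Nat.beq_eq, Nat.blt, Nat.ble_eq, h0,
        false_or] at h
      obtain ⟨hlt, ht⟩ := h
      have hlt' : parF j / 8 < j := hlt
      rw [crep]
      dsimp only
      rw [dif_pos hlt', map_mul, unop_mul, Equiv.Perm.mul_apply, ih _ hlt' (lt_trans hlt' hj)]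
      have hx : parF j % 8 < 8 := Nat.mod_lt _ (by norm_num)
      rw [show psi (imON (parF j % 8)) = sop ⟨parF j % 8, hx⟩ from psi_imON ⟨parF j % 8, hx⟩]
      exact Fin.ext ((acts_sop _ _).trans ht)

/-- The action of the presented group on the table. -/
noncomputable instance tabAct : MulAction Cfsg.Spor.ON (Fin 122760) := MulAction.compHom _ tabHom

theorem smul_def (g : Cfsg.Spor.ON) (i : Fin 122760) : g • i = tabHom g i := rfl

theorem rep_smul (i : Fin 122760) : (crep imON parF i)⁻¹ • (0 : Fin 122760) = i := by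
  rw [smul_def, map_inv, tabHom_apply, inv_inv, rep_reach]

instance tab_pretrans : MulAction.IsPretransitive Cfsg.Spor.ON (Fin 122760) := by
  constructor
  intro x y
  refine ⟨(crep imON parF y)⁻¹ * crep imON parF x, ?_⟩
  have hx : crep imON parF x • x = (0 : Fin 122760) := by
    rw [← eq_inv_smul_iff, rep_smul]
  rw [mul_smul, hx, rep_smul]

theorem stab_eq : MulAction.stabilizer Cfsg.Spor.ON (0 : Fin 122760) = subH := by
  refine le_antisymm (fun g hg => ?_) fun g hg => subH_le_fix g hg
  obtain ⟨i, hi, hgi⟩ := cosets_cover g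
  have h1 : tabHom (g * (crep imON parF i)⁻¹) 0 = 0 := subH_le_fix _ hgi
  rw [MulAction.mem_stabilizer_iff, smul_def] at hg
  rw [map_mul, Equiv.Perm.mul_apply] at h1
  have h2 : tabHom (crep imON parF i)⁻¹ 0 = tabHom g⁻¹ 0 := by
    rw [map_inv tabHom g, eq_comm, Equiv.Perm.inv_eq_iff_eq, h1]
  have h3 : tabHom g⁻¹ 0 = (0 : Fin 122760) := by rw [map_inv, Equiv.Perm.inv_eq_iff_eq, hg]
  rw [h3] at h2
  have h4 := rep_smul ⟨i, hi⟩
  rw [smul_def, h2] at h4
  obtain rfl : i = 0 := congrArg Fin.val h4.symm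
  rw [crep_zero, inv_one, mul_one] at hgi
  exact hgi

theorem subH_index : subH.index = 122760 := by
  rw [← stab_eq, MulAction.index_stabilizer_of_transitive, Nat.card_eq_fintype_card, Fintype.card_fin]

end Cfsg.Lib.ONPres
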