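import Cfsg.Agent.ONPres.PlaneData
import Cfsg.Agent.Classical.Misc.SmallPSL
import Cfsg.Agent.LThreeFour.Parabolic

/-!
`PSL₃(7)` as permutations of the 114 points and lines of its plane.
-/

set_option autoImplicit false

namespace Cfsg.Lib.ONPres

open Matrix

instance fact_seven : Fact (Nat.Prime 7) := ⟨by norm_num⟩

/-- The point of a vector. -/
def idx (v : Fin 3 → ZMod 7) : Fin 57 :=
  Fin.ofNat 57 (idxTab.getD ((v 0).val * 49 + (v 1).val * 7 + (v 2).val) 0)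

/-- A vector on a point. -/
def pt (j : Fin 57) : Fin 3 → ZMod 7 :=
  let p := ptTab.getD j (1, 0, 0)
  ![(p.1 : ZMod 7), (p.2.1 : ZMod 7), (p.2.2 : ZMod 7)]

theorem idx_pt : ∀ j : Fin 57, idx (pt j) = j ∧ pt j ≠ 0 := by decide +kernel

theorem idx_smul_raw : ∀ a b c k : ZMod 7, k ≠ 0 → ![a, b, c] ≠ 0 → idx (k • ![a, b, c]) = idx ![a, b, c] := by
  decide +kernel

theorem pt_idx_raw : ∀ a b c : ZMod 7, ![a, b, c] ≠ 0 → ∃ k : ZMod 7, k ≠ 0 ∧ pt (idx ![a, b, c]) = k • ![a, b, c] := by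
  decide +kernel

theorem vec_eta (v : Fin 3 → ZMod 7) : v = ![v 0, v 1, v 2] := by
  funext i; fin_cases i <;> rfl

theorem idx_smul {k : ZMod 7} (hk : k ≠ 0) {v : Fin 3 → ZMod 7} (hv : v ≠ 0) : idx (k • v) = idx v := by
  rw [vec_eta v] at hv ⊢
  exact idx_smul_raw _ _ _ k hk hv

theorem pt_idx {v : Fin 3 → ZMod 7} (hv : v ≠ 0) : ∃ k : ZMod 7, k ≠ 0 ∧ pt (idx v) = k • v := by
  rw [vec_eta v] at hv ⊢
  exact pt_idx_raw _ _ _ hv

/-- The special linear group of the plane. -/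
abbrev SL37 : Type := Matrix.SpecialLinearGroup (Fin 3) (ZMod 7)

theorem coe_mul' (g h : SL37) : ((g * h : SL37) : Matrix (Fin 3) (Fin 3) (ZMod 7)) =
    (g : Matrix (Fin 3) (Fin 3) (ZMod 7)) * (h : Matrix (Fin 3) (Fin 3) (ZMod 7)) := rfl

theorem coe_one' : ((1 : SL37) : Matrix (Fin 3) (Fin 3) (ZMod 7)) = 1 := rfl

theorem mv_ne (g : SL37) {v : Fin 3 → ZMod 7} (hv : v ≠ 0) : (g : Matrix (Fin 3) (Fin 3) (ZMod 7)) *ᵥ v ≠ 0 := by
  intro h
  apply hv
  have h' := congrArg (fun w => ((g⁻¹ : SL37) : Matrix (Fin 3) (Fin 3) (ZMod 7)) *ᵥ w) h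
  simp only [mulVec_mulVec, mulVec_zero] at h'
  rwa [← coe_mul', inv_mul_cancel, coe_one', one_mulVec] at h'

/-- The action on points. -/
instance ptAct : MulAction SL37 (Fin 57) where
  smul g j := idx ((g : Matrix (Fin 3) (Fin 3) (ZMod 7)) *ᵥ pt j)
  one_smul j := by
    show idx (((1 : SL37) : Matrix (Fin 3) (Fin 3) (ZMod 7)) *ᵥ pt j) = j
    rw [coe_one', one_mulVec, (idx_pt j).1]
  mul_smul g h j := by
    show idx (((g * h : SL37) : Matrix (Fin 3) (Fin 3) (ZMod 7)) *ᵥ pt j) =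
      idx ((g : Matrix (Fin 3) (Fin 3) (ZMod 7)) *ᵥ pt (idx ((h : Matrix (Fin 3) (Fin 3) (ZMod 7)) *ᵥ pt j)))
    obtain ⟨k, hk, e⟩ := pt_idx (mv_ne h (idx_pt j).2)
    rw [e, mulVec_smul, mulVec_mulVec, ← coe_mul', idx_smul hk (mv_ne (g * h) (idx_pt j).2)]

/-- The contragredient automorphism. -/
def contra : SL37 →* SL37 where
  toFun g := ⟨(g⁻¹ : SL37).1ᵀ, by rw [det_transpose]; exact (g⁻¹ : SL37).2⟩
  map_one' := Subtype.ext (by
    show (((1 : SL37)⁻¹ : SL37) : Matrix (Fin 3) (Fin 3) (ZMod 7))ᵀ = 1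
    rw [inv_one, coe_one', transpose_one])
  map_mul' g h := Subtype.ext (by
    show (((g * h)⁻¹ : SL37) : Matrix (Fin 3) (Fin 3) (ZMod 7))ᵀ =
      ((g⁻¹ : SL37) : Matrix (Fin 3) (Fin 3) (ZMod 7))ᵀ * ((h⁻¹ : SL37) : Matrix (Fin 3) (Fin 3) (ZMod 7))ᵀ
    rw [_root_.mul_inv_rev, coe_mul', transpose_mul])

/-- The action on points and lines. -/
def planeHom : SL37 →* Equiv.Perm (Fin 114) :=
  (finSumFinEquiv : Fin 57 ⊕ Fin 57 ≃ Fin 114).permCongrHom.toMonoidHom.comp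
    ((Equiv.Perm.sumCongrHom (Fin 57) (Fin 57)).comp
      ((MulAction.toPermHom SL37 (Fin 57)).prod ((MulAction.toPermHom SL37 (Fin 57)).comp contra)))

/-- The image of a number of a point or line. -/
def planeFun (A B : Matrix (Fin 3) (Fin 3) (ZMod 7)) (j : ℕ) : ℕ :=
  if j < 57 then (idx (A *ᵥ pt (Fin.ofNat 57 j)) : ℕ) else 57 + (idx (B *ᵥ pt (Fin.ofNat 57 (j - 57))) : ℕ)

theorem planeHom_apply (g : SL37) (j : Fin 114) :
    (planeHom g j : ℕ) = planeFun (g : Matrix (Fin 3) (Fin 3) (ZMod 7)) (contra g : SL37) j := by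
  obtain ⟨x, rfl⟩ := (finSumFinEquiv : Fin 57 ⊕ Fin 57 ≃ Fin 114).surjective j
  have e : planeHom g (finSumFinEquiv x) = finSumFinEquiv (Equiv.sumCongr
      (MulAction.toPerm g : Equiv.Perm (Fin 57)) (MulAction.toPerm (contra g) : Equiv.Perm (Fin 57)) x) := by
    show (finSumFinEquiv : Fin 57 ⊕ Fin 57 ≃ Fin 114).permCongr _ (finSumFinEquiv x) = _
    rw [Equiv.permCongr_apply, Equiv.symm_apply_apply]
    rfl
  rw [e]
  rcases x with x | x
  · have hx : Fin.ofNat 57 (x : ℕ) = x := Fin.ext (Nat.mod_eq_of_lt x.2)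
    simp only [Equiv.sumCongr_apply, Sum.map_inl, finSumFinEquiv_apply_left, Fin.val_castAdd, planeFun, x.2,
      if_true, hx]
    rfl
  · have hx : Fin.ofNat 57 (x : ℕ) = x := Fin.ext (Nat.mod_eq_of_lt x.2)
    simp only [Equiv.sumCongr_apply, Sum.map_inr, finSumFinEquiv_apply_right, Fin.val_natAdd, planeFun,
      Nat.not_lt.2 (Nat.le_add_right 57 x), if_false, Nat.add_sub_cancel_left, hx]
    rfl

theorem planeHom_ker : planeHom.ker = Subgroup.center SL37 := by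
  ext g
  constructor
  · intro hg
    have hfix : ∀ j : Fin 57, idx ((g : Matrix (Fin 3) (Fin 3) (ZMod 7)) *ᵥ pt j) = j := fun j => by
      have := congrArg Fin.val (Equiv.ext_iff.1 (MonoidHom.mem_ker.1 hg) (Fin.castAdd 57 j))
      rw [planeHom_apply, Equiv.Perm.one_apply, Fin.val_castAdd, planeFun, if_pos j.2] at this
      rw [show Fin.ofNat 57 (j : ℕ) = j from Fin.ext (Nat.mod_eq_of_lt j.2)] at this
      exact Fin.ext this
    have line : ∀ v : Fin 3 → ZMod 7, v ≠ 0 → ∃ k : ZMod 7, (g : Matrix (Fin 3) (Fin 3) (ZMod 7)) *ᵥ v = k • v := by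
      intro v hv
      obtain ⟨k, hk, e⟩ := pt_idx hv
      have h1 := hfix (idx v)
      rw [e, mulVec_smul, idx_smul hk (mv_ne g hv)] at h1
      obtain ⟨l, hl, e'⟩ := pt_idx (mv_ne g hv)
      rw [h1, e] at e'
      refine ⟨l⁻¹ * k, ?_⟩
      rw [← inv_smul_smul₀ hl ((g : Matrix (Fin 3) (Fin 3) (ZMod 7)) *ᵥ v), ← e', smul_smul]
    obtain ⟨a, ha⟩ := line ![1, 0, 0] (by decide)
    obtain ⟨b, hb⟩ := line ![0, 1, 0] (by decide)
    obtain ⟨c, hc⟩ := line ![0, 0, 1] (by decide)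
    obtain ⟨d, hd⟩ := line ![1, 1, 1] (by decide)
    have a0 := congrFun ha 0; have a1 := congrFun ha 1; have a2 := congrFun ha 2
    have b0 := congrFun hb 0; have b1 := congrFun hb 1; have b2 := congrFun hb 2
    have c0 := congrFun hc 0; have c1 := congrFun hc 1; have c2 := congrFun hc 2
    have d0 := congrFun hd 0; have d1 := congrFun hd 1; have d2 := congrFun hd 2
    simp [mulVec, dotProduct, Fin.sum_univ_three] at a0 a1 a2 b0 b1 b2 c0 c1 c2 d0 d1 d2
    have hM : (g : Matrix (Fin 3) (Fin 3) (ZMod 7)) = Matrix.scalar (Fin 3) a := by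
      rw [a0, b0, c0] at d0; rw [a1, b1, c1] at d1; rw [a2, b2, c2] at d2
      simp at d0 d1 d2
      ext i j
      fin_cases i <;> fin_cases j <;> simp [a0, a1, a2, b0, b1, b2, c0, c1, c2, d0, d1, d2]
    rw [Subgroup.mem_center_iff]
    intro h
    apply Subtype.ext
    rw [coe_mul', coe_mul', hM]
    exact ((Matrix.scalar_commute a (fun r => Commute.all a r) _).eq).symm
  · intro hg
    obtain ⟨r, hr, hs⟩ := Matrix.SpecialLinearGroup.mem_center_iff.1 hg
    obtain ⟨t, -, hs'⟩ := Matrix.SpecialLinearGroup.mem_center_iff.1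
      (Subgroup.mem_center_iff.2 fun h => by
        obtain ⟨h', rfl⟩ : ∃ h', contra h' = h := ⟨contra h, Subtype.ext (by
          show (((contra h)⁻¹ : SL37) : Matrix (Fin 3) (Fin 3) (ZMod 7))ᵀ = _
          rw [← map_inv]
          show (((h⁻¹)⁻¹ : SL37) : Matrix (Fin 3) (Fin 3) (ZMod 7))ᵀᵀ = _
          rw [inv_inv, transpose_transpose])⟩
        rw [← map_mul, ← map_mul, Subgroup.mem_center_iff.1 hg h'] : contra g ∈ Subgroup.center SL37)
    have hfix : ∀ (h : SL37) (s : ZMod 7), Matrix.scalar (Fin 3) s = (h : Matrix (Fin 3) (Fin 3) (ZMod 7)) →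
        ∀ j, idx ((h : Matrix (Fin 3) (Fin 3) (ZMod 7)) *ᵥ pt j) = j := by
      intro h s e j
      have hs0 : s ≠ 0 := by
        rintro rfl
        exact mv_ne h (idx_pt j).2 (by rw [← e, map_zero, zero_mulVec])
      rw [← e, Matrix.scalar_apply, ← Matrix.smul_one_eq_diagonal, smul_mulVec, one_mulVec,
        idx_smul hs0 (idx_pt j).2, (idx_pt j).1]
    refine MonoidHom.mem_ker.2 (Equiv.ext fun j => Fin.ext ?_)
    rw [planeHom_apply, Equiv.Perm.one_apply, planeFun]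
    have hj := j.2
    split
    · rw [hfix g r hs, Fin.val_ofNat, Nat.mod_eq_of_lt (by omega)]
    · rw [hfix _ t hs', Fin.val_ofNat, Nat.mod_eq_of_lt (by omega)]
      omega

theorem card_psl37 : Nat.card (ProjectiveSpecialLinearGroup (Fin 3) (ZMod 7)) = 1876896 := by
  have hc := Cfsg.Lib.Classical.card_SL_mul_eq_prod (F := ZMod 7) (n := 3) (by norm_num)
  have h := Subgroup.card_eq_card_quotient_mul_card_subgroup (Subgroup.center SL37)
  rw [Cfsg.Lib.Classical.card_center_SL, Nat.card_eq_fintype_card (α := ZMod 7), ZMod.card] at h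
  norm_num [Fin.prod_univ_three, ZMod.card, -Nat.card_eq_fintype_card] at hc h ⊢
  show Nat.card (SL37 ⧸ Subgroup.center SL37) = 1876896
  change 6 * Nat.card SL37 = 33784128 at hc
  omega

/-- The image of the plane group is `PSL₃(7)`. -/
noncomputable def planeEquiv : ProjectiveSpecialLinearGroup (Fin 3) (ZMod 7) ≃* planeHom.range :=
  (QuotientGroup.quotientMulEquivOfEq planeHom_ker.symm).trans (QuotientGroup.quotientKerEquivRange planeHom)

theorem card_range : Nat.card planeHom.range = 1876896 := by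
  rw [← Nat.card_congr planeEquiv.toEquiv, card_psl37]

end Cfsg.Lib.ONPres
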