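import Cfsg.Agent.ONPres.KGroup
import Cfsg.Agent.ONPres.Plane
import Cfsg.Agent.ONPres.Index

/-!
The subgroup on the six involutory letters of the presented O'Nan group is the group of the six polarities, with a
normal subgroup of index two isomorphic to `PSL₃(7)`.
-/

set_option autoImplicit false

namespace Cfsg.Lib.ONPres

attribute [local irreducible] rowF auxF parF feF pnF rcF

open Cfsg.Lib.CosetCert Cfsg.Lib.PermCert
open Cfsg.Spor.ON (Gen)

/-- The products of the first polarity with the others. -/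
def evenK : Subgroup (Equiv.Perm (Fin 114)) :=
  Subgroup.closure {x | ∃ k, 1 ≤ k ∧ k < 6 ∧ polPerm 0 * polPerm k = x}

/-- The matrix check of a product of two polarities. -/
def matChk (k : ℕ) : Bool :=
  let M := polMat.getD k (1, 1)
  decide (M.1.det = 1 ∧ M.1.adjugate.transpose = M.2) &&
    (List.range 114).all fun j => planeFun M.1 M.2 j == ap (polTabs.getD 0 (0, 0)).1 (ap (polTabs.getD (k + 1) (0, 0)).1 j)

theorem matChk_ok : ∀ k < 5, matChk k = true := by decide +kernel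

theorem evenK_le : evenK ≤ planeHom.range := by
  refine (Subgroup.closure_le _).2 ?_
  rintro _ ⟨k, hk1, hk6, rfl⟩
  obtain ⟨k, rfl⟩ : ∃ m, k = m + 1 := ⟨k - 1, by omega⟩
  have h := matChk_ok k (by omega)
  simp only [matChk, Bool.and_eq_true, decide_eq_true_eq, List.all_eq_true, List.mem_range, beq_iff_eq] at h
  obtain ⟨⟨hd, hB⟩, hj⟩ := h
  refine ⟨(⟨_, hd⟩ : SL37), Equiv.ext fun j => Fin.ext ?_⟩
  refine (planeHom_apply _ _).trans ?_
  rw [ Equiv.Perm.mul_apply, polPerm, perm_apply (pol_valid 0 (by norm_num)), polPerm,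
    perm_apply (pol_valid _ (by omega)), ← hj j j.2]
  exact congrArg (fun B => planeFun _ B (j : ℕ)) hB

theorem pol_sq (k : ℕ) (hk : k < 6) : polPerm k * polPerm k = 1 := by
  have h := pol_rels.sq k hk
  interval_cases k <;> exact h

theorem pol_mem {k : ℕ} (hk : k < 6) : polPerm k ∈ polGroup := lgp_mem _ (by interval_cases k <;> decide)

theorem evenK_le_pol : evenK ≤ polGroup :=
  (Subgroup.closure_le _).2 fun _ ⟨k, _, hk, e⟩ => e ▸ mul_mem (pol_mem (by norm_num)) (pol_mem hk)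

theorem mul_mem_evenK {k : ℕ} (hk : k < 6) : polPerm 0 * polPerm k ∈ evenK := by
  rcases Nat.eq_zero_or_pos k with rfl | h
  · rw [pol_sq 0 (by norm_num)]; exact one_mem _
  · exact Subgroup.subset_closure ⟨k, h, hk, rfl⟩

theorem pol_split : ∀ g ∈ polGroup, g ∈ evenK ∨ g * polPerm 0 ∈ evenK := by
  intro g hg
  have ha := pol_sq 0 (by norm_num)
  have step : ∀ k, k < 6 → ∀ g, (g ∈ evenK ∨ g * polPerm 0 ∈ evenK) →
      (g * polPerm k ∈ evenK ∨ g * polPerm k * polPerm 0 ∈ evenK) := by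
    intro k hk g h
    rcases h with h | h
    · refine Or.inr ?_
      have := mul_mem h (inv_mem (mul_mem_evenK hk))
      rw [mul_inv_rev, inv_eq_of_mul_eq_one_left ha, inv_eq_of_mul_eq_one_left (pol_sq k hk), ← mul_assoc] at this
      exact this
    · refine Or.inl ?_
      have := mul_mem h (mul_mem_evenK hk)
      rwa [mul_assoc, ← mul_assoc (polPerm 0), ha, one_mul] at this
  induction hg using Subgroup.closure_induction_right with
  | one => exact Or.inl (one_mem _)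
  | mul_right a y _ hy ih =>
    obtain ⟨k, hk, rfl⟩ := hy
    simp only [List.mem_cons, List.not_mem_nil, or_false] at hk
    exact step k (by omega) a ih
  | mul_inv_cancel a y _ hy ih =>
    obtain ⟨k, hk, rfl⟩ := hy
    simp only [List.mem_cons, List.not_mem_nil, or_false] at hk
    rw [inv_eq_of_mul_eq_one_left (pol_sq k (by omega))]
    exact step k (by omega) a ih

theorem evenK_eq : evenK = planeHom.range ∧ Nat.card evenK = 1876896 := by
  haveI : Finite polGroup := inferInstance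
  have hle : Nat.card evenK ≤ 1876896 := card_range ▸ Subgroup.card_le_of_le evenK_le
  have h2 : Nat.card polGroup ≤ Nat.card (evenK × Bool) := by
    classical
    refine Nat.card_le_card_of_injective (fun g : polGroup =>
      if h : (g : Equiv.Perm (Fin 114)) ∈ evenK then (⟨g, h⟩, true)
      else (⟨(g : Equiv.Perm (Fin 114)) * polPerm 0, (pol_split g g.2).resolve_left h⟩, false)) ?_
    intro x y hxy
    by_cases hx : (x : Equiv.Perm (Fin 114)) ∈ evenK <;> by_cases hy : (y : Equiv.Perm (Fin 114)) ∈ evenK <;>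
      simp [hx, hy] at hxy
    · exact hxy
    · exact hxy
  rw [polGroup_card, Nat.card_prod, Nat.card_eq_fintype_card (α := Bool), Fintype.card_bool] at h2
  have hc : Nat.card evenK = 1876896 := by omega
  exact ⟨SetLike.coe_injective (Set.Finite.eq_of_subset_of_card_le (Set.toFinite _) evenK_le
    (by simp only [SetLike.coe_sort_coe]; rw [card_range, hc])), hc⟩

/-- Words fixing the first point. -/
def fixWords : List (List ℕ) := chainK1.gens

theorem centraliser_chk : (fixWords.all fun w => w.all (fun l => decide (l < 6)) && (evalW polTabs w 0 == 0)) &&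
    (List.range 114).all (fun y => y == 0 || fixWords.any fun w => evalW polTabs w y != y) = true := by
  decide +kernel

/-- Words carrying the first point to each point. -/
def reachWords : List (List ℕ) := [[], [1, 3, 4, 5], [1, 3], [0, 2, 1, 0], [0, 1, 0, 2, 1, 3, 2, 3], [0, 1, 0, 2, 1, 3], [0, 1, 2, 1, 3, 2], [0, 1, 0, 2], [0, 3, 4, 3], [1, 2], [1, 2, 1, 0, 3, 2], [0, 2, 1, 0, 4, 3], [0, 2, 1, 0, 4, 3, 2, 1], [2, 1], [0, 1, 0, 3], [0, 1, 0, 2, 3, 4], [0, 1, 0, 2, 1, 3, 2, 4], [0, 1, 2, 1], [0, 3, 4, 5], [3, 4], [1, 2, 1, 0], [0, 1, 2, 1, 0, 3, 2, 4], [0, 1, 0, 2, 1, 0, 3, 2, 4, 3], [0, 1, 0, 2, 1, 0], [3, 2, 4, 3], [0, 1, 0, 2, 1, 3, 2, 3, 4, 3, 2, 1, 0, 3], [0, 1, 2, 1, 0, 3, 2, 4, 3, 2, 1, 0], [0, 1, 0, 3, 4, 5], [0, 2, 1, 4, 3, 2], [1, 2, 1, 3], [0, 1], [0, 1, 2, 1, 3, 2, 4, 3, 2, 1], [0, 1, 0, 2, 1, 3, 2, 4, 3, 2], [0, 1, 0, 2, 1, 0, 3, 4], [0, 1, 0, 2, 1, 0, 3, 2, 1, 4, 3, 2, 1, 0], [0, 1, 2, 3], [0, 1, 2, 1, 3, 2, 4, 3],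 [0, 1, 3, 4], [0, 1, 0, 2, 1, 0, 3, 2, 1, 4, 3, 2, 1, 3], [0, 2, 1, 4], [0, 1, 0, 2, 1, 0, 3, 2], [0, 1, 0, 2, 1, 0, 3, 2, 4, 3, 2, 1], [0, 3, 2, 4], [0, 1, 2, 1, 0, 3], [0, 1, 2, 1, 3, 4], [0, 4], [0, 1, 0, 2, 1, 3, 2, 3, 4, 3, 2, 1], [0, 1, 0, 2, 1, 3, 2, 4, 3, 2, 1, 0], [0, 2, 4, 3], [0, 1, 2, 1, 0, 3, 2, 4, 3, 2], [0, 3], [0, 1, 0, 2, 1, 0, 3, 2, 1, 4], [0, 1, 0, 2, 1, 3, 2, 3, 4, 3], [0, 2], [3, 2], [0, 1, 0, 2, 1, 3, 2, 3, 4, 3, 2, 3], [0, 1, 0, 2, 1, 0, 3, 2, 1, 4, 3, 2], [0], [0, 3, 4, 3, 5], [0, 4, 3], [0, 2, 1], [0, 1, 0, 2, 1, 0, 3, 2, 1], [0, 1, 0, 2, 1, 0, 3], [0, 1, 2, 1, 0, 3, 2], [0, 1, 2], [1, 3, 4], [0, 2, 4], [1, 2, 1, 3, 2], [0, 2, 1, 4, 3], [0, 2, 1, 4, 3, 2, 3], [2, 1, 0], [0, 1, 3], [0, 1, 2, 3, 4], [0, 1, 0, 2, 1, 0, 3, 2, 4], [0, 1, 2, 1, 0], [3, 4, 5], [0, 3, 4], [1, 2, 1], [0, 1, 2, 1, 3, 2, 4], [0, 1, 0, 2, 1, 3, 2, 4, 3], [0, 1, 0, 2, 1], [0, 3, 2, 4, 3], [0, 1, 0, 2, 1, 3, 2, 3, 4, 3, 2, 1, 3], [0, 1, 2,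 1, 0, 3, 2, 4, 3, 2, 1], [0, 1, 3, 4, 5], [0, 2, 1, 0, 4, 3, 2], [1, 2, 1, 0, 3], [0, 1, 0], [0, 1, 2, 1, 3, 2, 4, 3, 2, 1, 0], [0, 1, 0, 2, 1, 0, 3, 2, 4, 3, 2], [0, 1, 0, 2, 1, 3, 4], [0, 1, 0, 2, 1, 0, 3, 2, 1, 4, 3, 2, 1], [0, 1, 0, 2, 3], [0, 1, 2, 1, 0, 3, 2, 4, 3], [0, 1, 0, 3, 4], [0, 1, 0, 2, 1, 0, 3, 2, 1, 4, 3, 2, 1, 0, 3], [0, 2, 1, 0, 4], [0, 1, 0, 2, 1, 3, 2], [0, 1, 0, 2, 1, 0, 3, 2, 4, 3, 2, 1, 0], [3, 2, 4], [0, 1, 2, 1, 3], [0, 1, 2, 1, 0, 3, 4], [1], [0, 1, 0, 2, 1, 3, 2, 3, 4, 3, 2, 1, 0], [0, 1, 0, 2, 1, 3, 2, 4, 3, 2, 1], [1, 2, 3], [0, 1, 2, 1, 3, 2, 4, 3, 2], [3], [0, 1, 0, 2, 1, 3, 2, 3, 4], [0, 1, 0, 2, 1, 0, 3, 2, 1, 4, 3], [2], [0, 3, 2], [0, 1, 0, 2, 1, 0, 3, 2, 1, 4, 3, 2, 3], [0, 1, 0, 2, 1, 3, 2, 3, 4, 3, 2]]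

theorem reach_chk : ((List.range 114).all fun x => (reachWords.getD x []).all (fun l => decide (l < 6)) &&
    (evalW polTabs (reachWords.getD x []) 0 == x)) = true := by decide +kernel

theorem central_trivial (z : Equiv.Perm (Fin 114)) (hz : ∀ g ∈ polGroup, Commute z g) : z = 1 := by
  have hword : ∀ w : List ℕ, (∀ l ∈ w, l < 6) → ∀ x : Fin 114, ((wval polPerm w)⁻¹ x : ℕ) = evalW polTabs w x :=
    fun w hw x => evalW_apply polPerm (MonoidHom.id _) polTabs (fun l hl => ⟨pol_valid l hl, rfl⟩) w hw x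
  have hcomm : ∀ w : List ℕ, (∀ l ∈ w, l < 6) → ∀ x : Fin 114, z ((wval polPerm w)⁻¹ x) = (wval polPerm w)⁻¹ (z x) :=
    fun w hw x => congrArg (fun p : Equiv.Perm (Fin 114) => p x)
      (hz _ (inv_mem (lgp_wval polPerm (List.all_eq_true.2 fun l hl => by
        have := hw l hl; interval_cases l <;> rfl)))).eq
  have h := centraliser_chk
  simp only [Bool.and_eq_true, List.all_eq_true, decide_eq_true_eq, beq_iff_eq, Bool.or_eq_true, List.any_eq_true,
    bne_iff_ne, List.mem_range] at h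
  have h0 : z 0 = 0 := by
    refine Fin.ext ?_
    rcases h.2 _ (z 0).2 with e | ⟨w, hw, hne⟩
    · exact e
    · obtain ⟨hwl, hw0⟩ := h.1 w hw
      refine absurd ?_ hne
      have hfix : (wval polPerm w)⁻¹ (0 : Fin 114) = 0 := Fin.ext (by rw [hword w hwl]; exact hw0)
      have := hcomm w hwl 0
      rw [hfix] at this
      rw [← hword w hwl, ← this]
  refine Equiv.ext fun x => ?_
  have hx : ∃ g ∈ polGroup, g (0 : Fin 114) = x := by
    have h := reach_chk
    simp only [List.all_eq_true, List.mem_range, Bool.and_eq_true, decide_eq_true_eq, beq_iff_eq] at h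
    obtain ⟨hl, he⟩ := h x x.2
    refine ⟨(wval polPerm (reachWords.getD x []))⁻¹, inv_mem (lgp_wval polPerm (List.all_eq_true.2 fun l hm => by
      have := hl l hm; interval_cases l <;> rfl)), Fin.ext ?_⟩
    rw [hword _ hl]
    exact he
  obtain ⟨g, hg, rfl⟩ := hx
  rw [Equiv.Perm.one_apply, ← Equiv.Perm.mul_apply, (hz g hg).eq, Equiv.Perm.mul_apply, h0]


/-- The six letters paired with the six polarities. -/
noncomputable def pairs : ℕ → Cfsg.Spor.ON × Equiv.Perm (Fin 114) :=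
  six (gen .a, polPerm 0) (gen .b, polPerm 1) (gen .c, polPerm 2) (gen .d, polPerm 3) (gen .e, polPerm 4)
    (gen .f, polPerm 5)

theorem pair_rels : KRels (gen .a, polPerm 0) (gen .b, polPerm 1) (gen .c, polPerm 2) (gen .d, polPerm 3)
    (gen .e, polPerm 4) (gen .f, polPerm 5) := by
  have h := on_rels
  have p := pol_rels
  exact ⟨Prod.ext h.sa p.sa, Prod.ext h.sb p.sb, Prod.ext h.sc p.sc, Prod.ext h.sd p.sd, Prod.ext h.se p.se,
    Prod.ext h.sf p.sf, Prod.ext h.ab p.ab, Prod.ext h.ac p.ac, Prod.ext h.ad p.ad, Prod.ext h.ae p.ae,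
    Prod.ext h.af p.af, Prod.ext h.bc p.bc, Prod.ext h.bd p.bd, Prod.ext h.be p.be, Prod.ext h.bf p.bf,
    Prod.ext h.cd p.cd, Prod.ext h.ce p.ce, Prod.ext h.cf p.cf, Prod.ext h.de p.de, Prod.ext h.df p.df,
    Prod.ext h.ef p.ef, Prod.ext h.r2 p.r2⟩

/-- The group of the pairs. -/
noncomputable def pairGroup : Subgroup (Cfsg.Spor.ON × Equiv.Perm (Fin 114)) := lgp pairs [0, 1, 2, 3, 4, 5]

theorem pairGroup_map_snd : pairGroup.map (MonoidHom.snd _ _) = polGroup := by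
  rw [pairGroup, lgp, MonoidHom.map_closure]
  refine congrArg Subgroup.closure (Set.ext fun x => ?_)
  constructor
  · rintro ⟨_, ⟨l, hl, rfl⟩, rfl⟩
    refine ⟨l, hl, ?_⟩
    simp only [List.mem_cons, List.not_mem_nil, or_false] at hl
    rcases hl with rfl | rfl | rfl | rfl | rfl | rfl <;> rfl
  · rintro ⟨l, hl, rfl⟩
    refine ⟨_, ⟨l, hl, rfl⟩, ?_⟩
    simp only [List.mem_cons, List.not_mem_nil, or_false] at hl
    rcases hl with rfl | rfl | rfl | rfl | rfl | rfl <;> rfl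

theorem pairGroup_map_fst : pairGroup.map (MonoidHom.fst _ _) = subH := by
  rw [pairGroup, lgp, MonoidHom.map_closure, subH]
  refine congrArg Subgroup.closure (Set.ext fun x => ?_)
  constructor
  · rintro ⟨_, ⟨l, hl, rfl⟩, rfl⟩
    simp only [List.mem_cons, List.not_mem_nil, or_false] at hl
    rcases hl with rfl | rfl | rfl | rfl | rfl | rfl <;> simp [pairs, six]
  · intro hx
    simp only [Set.mem_insert_iff, Set.mem_singleton_iff] at hx
    rcases hx with rfl | rfl | rfl | rfl | rfl | rfl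
    exacts [⟨_, ⟨0, by decide, rfl⟩, rfl⟩, ⟨_, ⟨1, by decide, rfl⟩, rfl⟩, ⟨_, ⟨2, by decide, rfl⟩, rfl⟩,
      ⟨_, ⟨3, by decide, rfl⟩, rfl⟩, ⟨_, ⟨4, by decide, rfl⟩, rfl⟩, ⟨_, ⟨5, by decide, rfl⟩, rfl⟩]

/-- Projection to the polarities. -/
noncomputable def sndP : pairGroup →* polGroup :=
  ((MonoidHom.snd _ _).comp pairGroup.subtype).codRestrict polGroup fun x =>
    pairGroup_map_snd ▸ Subgroup.mem_map_of_mem _ x.2

/-- Projection to the presented group. -/
noncomputable def fstP : pairGroup →* subH :=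
  ((MonoidHom.fst _ _).comp pairGroup.subtype).codRestrict subH fun x =>
    pairGroup_map_fst ▸ Subgroup.mem_map_of_mem _ x.2

theorem sndP_bij : Function.Bijective sndP := by
  have hs : Function.Surjective sndP := fun y => by
    obtain ⟨x, hx, e⟩ := (pairGroup_map_snd.symm ▸ y.2 : (y : Equiv.Perm (Fin 114)) ∈ pairGroup.map (MonoidHom.snd _ _))
    exact ⟨⟨x, hx⟩, Subtype.ext e⟩
  haveI : Finite pairGroup := pair_rels.all.1
  refine (Nat.bijective_iff_surjective_and_card sndP).2 ⟨hs, le_antisymm ?_ (Nat.card_le_card_of_surjective _ hs)⟩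
  rw [polGroup_card]
  exact pair_rels.all.2

/-- The polarity group maps onto the subgroup of the presented group. -/
noncomputable def rho : polGroup →* subH :=
  fstP.comp (MulEquiv.ofBijective sndP sndP_bij).symm.toMonoidHom

theorem rho_surj : Function.Surjective rho := fun y => by
  obtain ⟨x, hx, e⟩ := (pairGroup_map_fst.symm ▸ y.2 : (y : Cfsg.Spor.ON) ∈ pairGroup.map (MonoidHom.fst _ _))
  refine ⟨sndP ⟨x, hx⟩, Subtype.ext ?_⟩
  show ((fstP ((MulEquiv.ofBijective sndP sndP_bij).symm (sndP ⟨x, hx⟩)) : subH) : Cfsg.Spor.ON) = _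
  rw [show (MulEquiv.ofBijective sndP sndP_bij).symm (sndP ⟨x, hx⟩) = ⟨x, hx⟩ from
    (MulEquiv.ofBijective sndP sndP_bij).symm_apply_apply _]
  exact e

theorem rho_snd (x : pairGroup) : rho (sndP x) = fstP x :=
  congrArg fstP ((MulEquiv.ofBijective sndP sndP_bij).symm_apply_apply x)

/-- The simple part inside the polarity group. -/
def evenIn : Subgroup polGroup := evenK.subgroupOf polGroup

/-- The simple part as `PSL₃(7)`. -/
noncomputable def evenEquiv : evenIn ≃* Matrix.ProjectiveSpecialLinearGroup (Fin 3) (ZMod 7) :=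
  ((Subgroup.subgroupOfEquivOfLe evenK_le_pol).trans (MulEquiv.subgroupCongr evenK_eq.1)).trans planeEquiv.symm

theorem evenIn_index : evenIn.index = 2 := by
  have h : Nat.card (evenK.subgroupOf polGroup) * evenIn.index = Nat.card polGroup := Subgroup.card_mul_index evenIn
  rw [Nat.card_congr (Subgroup.subgroupOfEquivOfLe evenK_le_pol).toEquiv, evenK_eq.2, polGroup_card] at h
  omega

theorem ab_moves : ∃ i, i < 122760 ∧ tgt rowF (tgt rowF i 1) 2 ≠ i := ⟨1, by norm_num, by decide +kernel⟩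

theorem psi_ab : psi (gen .a * gen .b) ≠ 1 := by
  intro h
  obtain ⟨i, hi, hne⟩ := ab_moves
  apply hne
  have := congrArg (fun m : RPerm => (m.unop ⟨i, hi⟩ : ℕ)) h
  rw [map_mul, psi_gen, psi_gen] at this
  exact this

theorem rho_inj : Function.Injective rho := by
  haveI : IsSimpleGroup (Matrix.ProjectiveSpecialLinearGroup (Fin 3) (ZMod 7)) :=
    Cfsg.Lib.Classical.isSimpleGroup_PSL (by rw [Fintype.card_fin])
  haveI : IsSimpleGroup evenIn := evenEquiv.isSimpleGroup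
  haveI := Subgroup.normal_of_index_eq_two evenIn_index
  rw [← MonoidHom.ker_eq_bot_iff]
  rcases (Subgroup.Normal.subgroupOf (MonoidHom.normal_ker rho) evenIn).eq_bot_or_eq_top with h | h
  · rw [eq_bot_iff]
    intro z hz
    have hd : ∀ x ∈ evenIn, x ∈ rho.ker → x = 1 := fun x hx hk => by
      have : (⟨x, hx⟩ : evenIn) ∈ rho.ker.subgroupOf evenIn := hk
      rw [h, Subgroup.mem_bot] at this
      exact congrArg Subtype.val this
    have hcent : ∀ g : polGroup, Commute z g := by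
      intro g
      by_cases hg : g ∈ evenIn
      · have h1 : z * g * z⁻¹ * g⁻¹ ∈ evenIn :=
          mul_mem (Subgroup.Normal.conj_mem inferInstance g hg z) (inv_mem hg)
        have h2 : z * g * z⁻¹ * g⁻¹ ∈ rho.ker := by
          rw [mul_assoc z g, mul_assoc z]
          exact mul_mem hz ((MonoidHom.normal_ker rho).conj_mem _ (inv_mem hz) g)
        have := hd _ h1 h2
        rwa [mul_inv_eq_one, mul_inv_eq_iff_eq_mul] at this
      · have hz2 : ∀ w ∈ rho.ker, w ≠ 1 → w ∉ evenIn := fun w hw hne hm => hne (hd w hm hw)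
        by_cases hz1 : z = 1
        · rw [hz1]; exact Commute.one_left g
        have hzg : z * g ∈ evenIn := (Subgroup.mul_mem_iff_of_index_two evenIn_index).2
          (iff_of_false (hz2 z hz hz1) hg)
        have h3 : z * g * z * g⁻¹ ∈ rho.ker → z * g * z * g⁻¹ ∈ evenIn → Commute z g := fun a b => by
          have e := hd _ b a
          have hzz : z * z = 1 := hd _ ((Subgroup.mul_mem_iff_of_index_two evenIn_index).2 Iff.rfl) (mul_mem hz hz)
          rw [mul_inv_eq_one] at e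
          have := congrArg (fun x => x * z) e
          simp only [mul_assoc, hzz, mul_one] at this
          exact this
        refine h3 ?_ ?_
        · rw [mul_assoc z g, mul_assoc z]
          exact mul_mem hz ((MonoidHom.normal_ker rho).conj_mem _ hz g)
        · rw [mul_assoc (z * g)]
          refine mul_mem hzg ((Subgroup.mul_mem_iff_of_index_two evenIn_index).2 (iff_of_false (hz2 z hz hz1) ?_))
          exact fun h => hg (inv_mem_iff.1 h)
    have := central_trivial (z : Equiv.Perm (Fin 114)) fun g hg =>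
      congrArg (fun x : polGroup => (x : Equiv.Perm (Fin 114))) (hcent ⟨g, hg⟩).eq
    exact Subgroup.mem_bot.2 (Subtype.ext this)
  · exfalso
    apply psi_ab
    have hx : (((gen .a * gen .b, polPerm 0 * polPerm 1) : Cfsg.Spor.ON × Equiv.Perm (Fin 114))) ∈ pairGroup :=
      mul_mem (lgp_mem pairs (l := 0) (by decide)) (lgp_mem pairs (l := 1) (by decide))
    have hm : sndP ⟨_, hx⟩ ∈ evenIn := mul_mem_evenK (k := 1) (by norm_num)
    have hk : rho (sndP ⟨_, hx⟩) = 1 := Subgroup.subgroupOf_eq_top.1 h hm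
    rw [rho_snd] at hk
    have := congrArg (fun y : subH => (y : Cfsg.Spor.ON)) hk
    exact (congrArg psi this).trans (map_one psi)

/-- The subgroup is the polarity group. -/
noncomputable def subHEquiv : polGroup ≃* subH := MulEquiv.ofBijective rho ⟨rho_inj, rho_surj⟩

theorem subH_card : Nat.card subH = 3753792 := by
  rw [← Nat.card_congr subHEquiv.toEquiv, polGroup_card]

/-- The normal subgroup of index two. -/
noncomputable def subN : Subgroup subH := evenIn.map subHEquiv.toMonoidHom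

theorem subN_spec : subN.Normal ∧ subN.index = 2 ∧
    Nonempty (subN ≃* Matrix.ProjectiveSpecialLinearGroup (Fin 3) (ZMod 7)) := by
  have hi : subN.index = 2 := (Subgroup.index_map_equiv evenIn subHEquiv).trans evenIn_index
  exact ⟨Subgroup.normal_of_index_eq_two hi, hi,
    ⟨(evenIn.equivMapOfInjective subHEquiv.toMonoidHom subHEquiv.injective).symm.trans evenEquiv⟩⟩

end Cfsg.Lib.ONPres
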