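import Cfsg.Agent.ONPres.LevFourData

/-!
The certificate is valid.
-/

set_option autoImplicit false

namespace Cfsg.Lib.ONPres.LevFour

open Cfsg.Lib.CosetCert

theorem steps0_ok : cert.stepsOK 0 steps0 = true ∧ ruleBound spec.length steps0 = true := by decide +kernel

theorem spec_ok : cert.rotsOK rels spec = true := by decide +kernel

theorem tab_ok : cert.tabOK steps0.length = true := by decide +kernel

theorem valid : cert.Valid rels :=
  ⟨by decide, spec, steps0, spec_ok, steps0_ok.1, steps0_ok.2, tab_ok⟩

theorem fins_length : cert.fin.length = 28 := by rw [Cert.fin, List.length_map, List.length_range]; rfl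

end Cfsg.Lib.ONPres.LevFour
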