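import Cfsg.Agent.ONPres.LevSixData

/-!
The certificate is valid.
-/

set_option autoImplicit false

namespace Cfsg.Lib.ONPres.LevSix

open Cfsg.Lib.CosetCert

theorem steps17_ok : cert.stepsOK 4352 steps17 = true ∧ ruleBound spec.length steps17 = true := by decide +kernel

theorem steps18_ok : cert.stepsOK 4608 steps18 = true ∧ ruleBound spec.length steps18 = true := by decide +kernel

theorem steps19_ok : cert.stepsOK 4864 steps19 = true ∧ ruleBound spec.length steps19 = true := by decide +kernel

theorem steps20_ok : cert.stepsOK 5120 steps20 = true ∧ ruleBound spec.length steps20 = true := by decide +kernel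

theorem steps21_ok : cert.stepsOK 5376 steps21 = true ∧ ruleBound spec.length steps21 = true := by decide +kernel

theorem steps22_ok : cert.stepsOK 5632 steps22 = true ∧ ruleBound spec.length steps22 = true := by decide +kernel

theorem steps23_ok : cert.stepsOK 5888 steps23 = true ∧ ruleBound spec.length steps23 = true := by decide +kernel

theorem steps24_ok : cert.stepsOK 6144 steps24 = true ∧ ruleBound spec.length steps24 = true := by decide +kernel

theorem steps25_ok : cert.stepsOK 6400 steps25 = true ∧ ruleBound spec.length steps25 = true := by decide +kernel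

theorem steps26_ok : cert.stepsOK 6656 steps26 = true ∧ ruleBound spec.length steps26 = true := by decide +kernel

theorem steps27_ok : cert.stepsOK 6912 steps27 = true ∧ ruleBound spec.length steps27 = true := by decide +kernel

theorem steps28_ok : cert.stepsOK 7168 steps28 = true ∧ ruleBound spec.length steps28 = true := by decide +kernel

theorem steps29_ok : cert.stepsOK 7424 steps29 = true ∧ ruleBound spec.length steps29 = true := by decide +kernel

theorem steps30_ok : cert.stepsOK 7680 steps30 = true ∧ ruleBound spec.length steps30 = true := by decide +kernel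

theorem steps31_ok : cert.stepsOK 7936 steps31 = true ∧ ruleBound spec.length steps31 = true := by decide +kernel

theorem steps32_ok : cert.stepsOK 8192 steps32 = true ∧ ruleBound spec.length steps32 = true := by decide +kernel

theorem steps33_ok : cert.stepsOK 8448 steps33 = true ∧ ruleBound spec.length steps33 = true := by decide +kernel

def cat1x0_0 : List (ℕ × ℕ) := steps17 ++ steps18

theorem cat1x0_0_ok : cert.stepsOK 4352 cat1x0_0 = true ∧ ruleBound spec.length cat1x0_0 = true :=
  stepsOK_cat steps17_ok steps18_ok (by decide +kernel)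

def cat1x0_1 : List (ℕ × ℕ) := steps19 ++ steps20

theorem cat1x0_1_ok : cert.stepsOK 4864 cat1x0_1 = true ∧ ruleBound spec.length cat1x0_1 = true :=
  stepsOK_cat steps19_ok steps20_ok (by decide +kernel)

def cat1x0_2 : List (ℕ × ℕ) := steps21 ++ steps22

theorem cat1x0_2_ok : cert.stepsOK 5376 cat1x0_2 = true ∧ ruleBound spec.length cat1x0_2 = true :=
  stepsOK_cat steps21_ok steps22_ok (by decide +kernel)

def cat1x0_3 : List (ℕ × ℕ) := steps23 ++ steps24

theorem cat1x0_3_ok : cert.stepsOK 5888 cat1x0_3 = true ∧ ruleBound spec.length cat1x0_3 = true :=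
  stepsOK_cat steps23_ok steps24_ok (by decide +kernel)

def cat1x0_4 : List (ℕ × ℕ) := steps25 ++ steps26

theorem cat1x0_4_ok : cert.stepsOK 6400 cat1x0_4 = true ∧ ruleBound spec.length cat1x0_4 = true :=
  stepsOK_cat steps25_ok steps26_ok (by decide +kernel)

def cat1x0_5 : List (ℕ × ℕ) := steps27 ++ steps28

theorem cat1x0_5_ok : cert.stepsOK 6912 cat1x0_5 = true ∧ ruleBound spec.length cat1x0_5 = true :=
  stepsOK_cat steps27_ok steps28_ok (by decide +kernel)

def cat1x0_6 : List (ℕ × ℕ) := steps29 ++ steps30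

theorem cat1x0_6_ok : cert.stepsOK 7424 cat1x0_6 = true ∧ ruleBound spec.length cat1x0_6 = true :=
  stepsOK_cat steps29_ok steps30_ok (by decide +kernel)

def cat1x0_7 : List (ℕ × ℕ) := steps31 ++ steps32

theorem cat1x0_7_ok : cert.stepsOK 7936 cat1x0_7 = true ∧ ruleBound spec.length cat1x0_7 = true :=
  stepsOK_cat steps31_ok steps32_ok (by decide +kernel)

def cat1x1_0 : List (ℕ × ℕ) := cat1x0_0 ++ cat1x0_1

theorem cat1x1_0_ok : cert.stepsOK 4352 cat1x1_0 = true ∧ ruleBound spec.length cat1x1_0 = true :=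
  stepsOK_cat cat1x0_0_ok cat1x0_1_ok (by decide +kernel)

def cat1x1_1 : List (ℕ × ℕ) := cat1x0_2 ++ cat1x0_3

theorem cat1x1_1_ok : cert.stepsOK 5376 cat1x1_1 = true ∧ ruleBound spec.length cat1x1_1 = true :=
  stepsOK_cat cat1x0_2_ok cat1x0_3_ok (by decide +kernel)

def cat1x1_2 : List (ℕ × ℕ) := cat1x0_4 ++ cat1x0_5

theorem cat1x1_2_ok : cert.stepsOK 6400 cat1x1_2 = true ∧ ruleBound spec.length cat1x1_2 = true :=
  stepsOK_cat cat1x0_4_ok cat1x0_5_ok (by decide +kernel)

def cat1x1_3 : List (ℕ × ℕ) := cat1x0_6 ++ cat1x0_7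

theorem cat1x1_3_ok : cert.stepsOK 7424 cat1x1_3 = true ∧ ruleBound spec.length cat1x1_3 = true :=
  stepsOK_cat cat1x0_6_ok cat1x0_7_ok (by decide +kernel)

def cat1x2_0 : List (ℕ × ℕ) := cat1x1_0 ++ cat1x1_1

theorem cat1x2_0_ok : cert.stepsOK 4352 cat1x2_0 = true ∧ ruleBound spec.length cat1x2_0 = true :=
  stepsOK_cat cat1x1_0_ok cat1x1_1_ok (by decide +kernel)

def cat1x2_1 : List (ℕ × ℕ) := cat1x1_2 ++ cat1x1_3

theorem cat1x2_1_ok : cert.stepsOK 6400 cat1x2_1 = true ∧ ruleBound spec.length cat1x2_1 = true :=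
  stepsOK_cat cat1x1_2_ok cat1x1_3_ok (by decide +kernel)

def cat1x3_0 : List (ℕ × ℕ) := cat1x2_0 ++ cat1x2_1

theorem cat1x3_0_ok : cert.stepsOK 4352 cat1x3_0 = true ∧ ruleBound spec.length cat1x3_0 = true :=
  stepsOK_cat cat1x2_0_ok cat1x2_1_ok (by decide +kernel)

def cat1x4_0 : List (ℕ × ℕ) := cat1x3_0 ++ steps33

theorem cat1x4_0_ok : cert.stepsOK 4352 cat1x4_0 = true ∧ ruleBound spec.length cat1x4_0 = true :=
  stepsOK_cat cat1x3_0_ok steps33_ok (by decide +kernel)

end Cfsg.Lib.ONPres.LevSix
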