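import Cfsg.Agent.ONPres.LevSixData

/-!
The certificate is valid.
-/

set_option autoImplicit false

namespace Cfsg.Lib.ONPres.LevSix

open Cfsg.Lib.CosetCert

theorem steps34_ok : cert.stepsOK 8704 steps34 = true ∧ ruleBound spec.length steps34 = true := by decide +kernel

theorem steps35_ok : cert.stepsOK 8960 steps35 = true ∧ ruleBound spec.length steps35 = true := by decide +kernel

theorem steps36_ok : cert.stepsOK 9216 steps36 = true ∧ ruleBound spec.length steps36 = true := by decide +kernel

theorem steps37_ok : cert.stepsOK 9472 steps37 = true ∧ ruleBound spec.length steps37 = true := by decide +kernel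

theorem steps38_ok : cert.stepsOK 9728 steps38 = true ∧ ruleBound spec.length steps38 = true := by decide +kernel

theorem steps39_ok : cert.stepsOK 9984 steps39 = true ∧ ruleBound spec.length steps39 = true := by decide +kernel

theorem steps40_ok : cert.stepsOK 10240 steps40 = true ∧ ruleBound spec.length steps40 = true := by decide +kernel

theorem steps41_ok : cert.stepsOK 10496 steps41 = true ∧ ruleBound spec.length steps41 = true := by decide +kernel

theorem steps42_ok : cert.stepsOK 10752 steps42 = true ∧ ruleBound spec.length steps42 = true := by decide +kernel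

theorem steps43_ok : cert.stepsOK 11008 steps43 = true ∧ ruleBound spec.length steps43 = true := by decide +kernel

theorem steps44_ok : cert.stepsOK 11264 steps44 = true ∧ ruleBound spec.length steps44 = true := by decide +kernel

theorem steps45_ok : cert.stepsOK 11520 steps45 = true ∧ ruleBound spec.length steps45 = true := by decide +kernel

theorem steps46_ok : cert.stepsOK 11776 steps46 = true ∧ ruleBound spec.length steps46 = true := by decide +kernel

theorem steps47_ok : cert.stepsOK 12032 steps47 = true ∧ ruleBound spec.length steps47 = true := by decide +kernel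

theorem steps48_ok : cert.stepsOK 12288 steps48 = true ∧ ruleBound spec.length steps48 = true := by decide +kernel

theorem steps49_ok : cert.stepsOK 12544 steps49 = true ∧ ruleBound spec.length steps49 = true := by decide +kernel

theorem steps50_ok : cert.stepsOK 12800 steps50 = true ∧ ruleBound spec.length steps50 = true := by decide +kernel

def cat2x0_0 : List (ℕ × ℕ) := steps34 ++ steps35

theorem cat2x0_0_ok : cert.stepsOK 8704 cat2x0_0 = true ∧ ruleBound spec.length cat2x0_0 = true :=
  stepsOK_cat steps34_ok steps35_ok (by decide +kernel)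

def cat2x0_1 : List (ℕ × ℕ) := steps36 ++ steps37

theorem cat2x0_1_ok : cert.stepsOK 9216 cat2x0_1 = true ∧ ruleBound spec.length cat2x0_1 = true :=
  stepsOK_cat steps36_ok steps37_ok (by decide +kernel)

def cat2x0_2 : List (ℕ × ℕ) := steps38 ++ steps39

theorem cat2x0_2_ok : cert.stepsOK 9728 cat2x0_2 = true ∧ ruleBound spec.length cat2x0_2 = true :=
  stepsOK_cat steps38_ok steps39_ok (by decide +kernel)

def cat2x0_3 : List (ℕ × ℕ) := steps40 ++ steps41

theorem cat2x0_3_ok : cert.stepsOK 10240 cat2x0_3 = true ∧ ruleBound spec.length cat2x0_3 = true :=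
  stepsOK_cat steps40_ok steps41_ok (by decide +kernel)

def cat2x0_4 : List (ℕ × ℕ) := steps42 ++ steps43

theorem cat2x0_4_ok : cert.stepsOK 10752 cat2x0_4 = true ∧ ruleBound spec.length cat2x0_4 = true :=
  stepsOK_cat steps42_ok steps43_ok (by decide +kernel)

def cat2x0_5 : List (ℕ × ℕ) := steps44 ++ steps45

theorem cat2x0_5_ok : cert.stepsOK 11264 cat2x0_5 = true ∧ ruleBound spec.length cat2x0_5 = true :=
  stepsOK_cat steps44_ok steps45_ok (by decide +kernel)

def cat2x0_6 : List (ℕ × ℕ) := steps46 ++ steps47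

theorem cat2x0_6_ok : cert.stepsOK 11776 cat2x0_6 = true ∧ ruleBound spec.length cat2x0_6 = true :=
  stepsOK_cat steps46_ok steps47_ok (by decide +kernel)

def cat2x0_7 : List (ℕ × ℕ) := steps48 ++ steps49

theorem cat2x0_7_ok : cert.stepsOK 12288 cat2x0_7 = true ∧ ruleBound spec.length cat2x0_7 = true :=
  stepsOK_cat steps48_ok steps49_ok (by decide +kernel)

def cat2x1_0 : List (ℕ × ℕ) := cat2x0_0 ++ cat2x0_1

theorem cat2x1_0_ok : cert.stepsOK 8704 cat2x1_0 = true ∧ ruleBound spec.length cat2x1_0 = true :=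
  stepsOK_cat cat2x0_0_ok cat2x0_1_ok (by decide +kernel)

def cat2x1_1 : List (ℕ × ℕ) := cat2x0_2 ++ cat2x0_3

theorem cat2x1_1_ok : cert.stepsOK 9728 cat2x1_1 = true ∧ ruleBound spec.length cat2x1_1 = true :=
  stepsOK_cat cat2x0_2_ok cat2x0_3_ok (by decide +kernel)

def cat2x1_2 : List (ℕ × ℕ) := cat2x0_4 ++ cat2x0_5

theorem cat2x1_2_ok : cert.stepsOK 10752 cat2x1_2 = true ∧ ruleBound spec.length cat2x1_2 = true :=
  stepsOK_cat cat2x0_4_ok cat2x0_5_ok (by decide +kernel)

def cat2x1_3 : List (ℕ × ℕ) := cat2x0_6 ++ cat2x0_7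

theorem cat2x1_3_ok : cert.stepsOK 11776 cat2x1_3 = true ∧ ruleBound spec.length cat2x1_3 = true :=
  stepsOK_cat cat2x0_6_ok cat2x0_7_ok (by decide +kernel)

def cat2x2_0 : List (ℕ × ℕ) := cat2x1_0 ++ cat2x1_1

theorem cat2x2_0_ok : cert.stepsOK 8704 cat2x2_0 = true ∧ ruleBound spec.length cat2x2_0 = true :=
  stepsOK_cat cat2x1_0_ok cat2x1_1_ok (by decide +kernel)

def cat2x2_1 : List (ℕ × ℕ) := cat2x1_2 ++ cat2x1_3

theorem cat2x2_1_ok : cert.stepsOK 10752 cat2x2_1 = true ∧ ruleBound spec.length cat2x2_1 = true :=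
  stepsOK_cat cat2x1_2_ok cat2x1_3_ok (by decide +kernel)

def cat2x3_0 : List (ℕ × ℕ) := cat2x2_0 ++ cat2x2_1

theorem cat2x3_0_ok : cert.stepsOK 8704 cat2x3_0 = true ∧ ruleBound spec.length cat2x3_0 = true :=
  stepsOK_cat cat2x2_0_ok cat2x2_1_ok (by decide +kernel)

def cat2x4_0 : List (ℕ × ℕ) := cat2x3_0 ++ steps50

theorem cat2x4_0_ok : cert.stepsOK 8704 cat2x4_0 = true ∧ ruleBound spec.length cat2x4_0 = true :=
  stepsOK_cat cat2x3_0_ok steps50_ok (by decide +kernel)

end Cfsg.Lib.ONPres.LevSix
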