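import Cfsg.Agent.ONPres.LevSixData

/-!
The certificate is valid.
-/

set_option autoImplicit false

namespace Cfsg.Lib.ONPres.LevSix

open Cfsg.Lib.CosetCert

theorem steps51_ok : cert.stepsOK 13056 steps51 = true ∧ ruleBound spec.length steps51 = true := by decide +kernel

theorem steps52_ok : cert.stepsOK 13312 steps52 = true ∧ ruleBound spec.length steps52 = true := by decide +kernel

theorem steps53_ok : cert.stepsOK 13568 steps53 = true ∧ ruleBound spec.length steps53 = true := by decide +kernel

theorem steps54_ok : cert.stepsOK 13824 steps54 = true ∧ ruleBound spec.length steps54 = true := by decide +kernel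

theorem steps55_ok : cert.stepsOK 14080 steps55 = true ∧ ruleBound spec.length steps55 = true := by decide +kernel

theorem steps56_ok : cert.stepsOK 14336 steps56 = true ∧ ruleBound spec.length steps56 = true := by decide +kernel

theorem steps57_ok : cert.stepsOK 14592 steps57 = true ∧ ruleBound spec.length steps57 = true := by decide +kernel

theorem steps58_ok : cert.stepsOK 14848 steps58 = true ∧ ruleBound spec.length steps58 = true := by decide +kernel

theorem steps59_ok : cert.stepsOK 15104 steps59 = true ∧ ruleBound spec.length steps59 = true := by decide +kernel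

theorem steps60_ok : cert.stepsOK 15360 steps60 = true ∧ ruleBound spec.length steps60 = true := by decide +kernel

theorem steps61_ok : cert.stepsOK 15616 steps61 = true ∧ ruleBound spec.length steps61 = true := by decide +kernel

theorem steps62_ok : cert.stepsOK 15872 steps62 = true ∧ ruleBound spec.length steps62 = true := by decide +kernel

theorem steps63_ok : cert.stepsOK 16128 steps63 = true ∧ ruleBound spec.length steps63 = true := by decide +kernel

theorem steps64_ok : cert.stepsOK 16384 steps64 = true ∧ ruleBound spec.length steps64 = true := by decide +kernel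

theorem steps65_ok : cert.stepsOK 16640 steps65 = true ∧ ruleBound spec.length steps65 = true := by decide +kernel

theorem steps66_ok : cert.stepsOK 16896 steps66 = true ∧ ruleBound spec.length steps66 = true := by decide +kernel

def cat3x0_0 : List (ℕ × ℕ) := steps51 ++ steps52

theorem cat3x0_0_ok : cert.stepsOK 13056 cat3x0_0 = true ∧ ruleBound spec.length cat3x0_0 = true :=
  stepsOK_cat steps51_ok steps52_ok (by decide +kernel)

def cat3x0_1 : List (ℕ × ℕ) := steps53 ++ steps54

theorem cat3x0_1_ok : cert.stepsOK 13568 cat3x0_1 = true ∧ ruleBound spec.length cat3x0_1 = true :=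
  stepsOK_cat steps53_ok steps54_ok (by decide +kernel)

def cat3x0_2 : List (ℕ × ℕ) := steps55 ++ steps56

theorem cat3x0_2_ok : cert.stepsOK 14080 cat3x0_2 = true ∧ ruleBound spec.length cat3x0_2 = true :=
  stepsOK_cat steps55_ok steps56_ok (by decide +kernel)

def cat3x0_3 : List (ℕ × ℕ) := steps57 ++ steps58

theorem cat3x0_3_ok : cert.stepsOK 14592 cat3x0_3 = true ∧ ruleBound spec.length cat3x0_3 = true :=
  stepsOK_cat steps57_ok steps58_ok (by decide +kernel)

def cat3x0_4 : List (ℕ × ℕ) := steps59 ++ steps60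

theorem cat3x0_4_ok : cert.stepsOK 15104 cat3x0_4 = true ∧ ruleBound spec.length cat3x0_4 = true :=
  stepsOK_cat steps59_ok steps60_ok (by decide +kernel)

def cat3x0_5 : List (ℕ × ℕ) := steps61 ++ steps62

theorem cat3x0_5_ok : cert.stepsOK 15616 cat3x0_5 = true ∧ ruleBound spec.length cat3x0_5 = true :=
  stepsOK_cat steps61_ok steps62_ok (by decide +kernel)

def cat3x0_6 : List (ℕ × ℕ) := steps63 ++ steps64

theorem cat3x0_6_ok : cert.stepsOK 16128 cat3x0_6 = true ∧ ruleBound spec.length cat3x0_6 = true :=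
  stepsOK_cat steps63_ok steps64_ok (by decide +kernel)

def cat3x0_7 : List (ℕ × ℕ) := steps65 ++ steps66

theorem cat3x0_7_ok : cert.stepsOK 16640 cat3x0_7 = true ∧ ruleBound spec.length cat3x0_7 = true :=
  stepsOK_cat steps65_ok steps66_ok (by decide +kernel)

def cat3x1_0 : List (ℕ × ℕ) := cat3x0_0 ++ cat3x0_1

theorem cat3x1_0_ok : cert.stepsOK 13056 cat3x1_0 = true ∧ ruleBound spec.length cat3x1_0 = true :=
  stepsOK_cat cat3x0_0_ok cat3x0_1_ok (by decide +kernel)

def cat3x1_1 : List (ℕ × ℕ) := cat3x0_2 ++ cat3x0_3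

theorem cat3x1_1_ok : cert.stepsOK 14080 cat3x1_1 = true ∧ ruleBound spec.length cat3x1_1 = true :=
  stepsOK_cat cat3x0_2_ok cat3x0_3_ok (by decide +kernel)

def cat3x1_2 : List (ℕ × ℕ) := cat3x0_4 ++ cat3x0_5

theorem cat3x1_2_ok : cert.stepsOK 15104 cat3x1_2 = true ∧ ruleBound spec.length cat3x1_2 = true :=
  stepsOK_cat cat3x0_4_ok cat3x0_5_ok (by decide +kernel)

def cat3x1_3 : List (ℕ × ℕ) := cat3x0_6 ++ cat3x0_7

theorem cat3x1_3_ok : cert.stepsOK 16128 cat3x1_3 = true ∧ ruleBound spec.length cat3x1_3 = true :=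
  stepsOK_cat cat3x0_6_ok cat3x0_7_ok (by decide +kernel)

def cat3x2_0 : List (ℕ × ℕ) := cat3x1_0 ++ cat3x1_1

theorem cat3x2_0_ok : cert.stepsOK 13056 cat3x2_0 = true ∧ ruleBound spec.length cat3x2_0 = true :=
  stepsOK_cat cat3x1_0_ok cat3x1_1_ok (by decide +kernel)

def cat3x2_1 : List (ℕ × ℕ) := cat3x1_2 ++ cat3x1_3

theorem cat3x2_1_ok : cert.stepsOK 15104 cat3x2_1 = true ∧ ruleBound spec.length cat3x2_1 = true :=
  stepsOK_cat cat3x1_2_ok cat3x1_3_ok (by decide +kernel)

def cat3x3_0 : List (ℕ × ℕ) := cat3x2_0 ++ cat3x2_1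

theorem cat3x3_0_ok : cert.stepsOK 13056 cat3x3_0 = true ∧ ruleBound spec.length cat3x3_0 = true :=
  stepsOK_cat cat3x2_0_ok cat3x2_1_ok (by decide +kernel)

end Cfsg.Lib.ONPres.LevSix
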