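import Cfsg.Agent.CosetCert.Kit
import Cfsg.Agent.ONPres.LevThreeCheck
import Cfsg.Agent.ONPres.LevFourCheck
import Cfsg.Agent.ONPres.LevSixCheck
import Cfsg.Agent.ONPres.PolData

/-!
Groups on six involutions with the relations of the subgroup `L₃(7):2` have order at most 3753792, and the six
polarities generate a group of exactly that order.
-/

set_option autoImplicit false

namespace Cfsg.Lib.ONPres

open Cfsg.Lib.CosetCert Cfsg.Lib.PermCert

/-- The six letters by number. -/
def six {G : Type*} [Group G] (a b c d e f : G) : ℕ → G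
  | 0 => a
  | 1 => b
  | 2 => c
  | 3 => d
  | 4 => e
  | 5 => f
  | _ => 1

/-- The relations on six involutions. -/
structure KRels {G : Type*} [Group G] (a b c d e f : G) : Prop where
  sa : a * a = 1
  sb : b * b = 1
  sc : c * c = 1
  sd : d * d = 1
  se : e * e = 1
  sf : f * f = 1
  ab : (a * b) ^ 3 = 1
  ac : (a * c) ^ 2 = 1
  ad : (a * d) ^ 2 = 1
  ae : (a * e) ^ 2 = 1
  af : (a * f) ^ 2 = 1
  bc : (b * c) ^ 3 = 1
  bd : (b * d) ^ 2 = 1
  be : (b * e) ^ 2 = 1
  bf : (b * f) ^ 2 = 1
  cd : (c * d) ^ 8 = 1
  ce : (c * e) ^ 2 = 1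
  cf : (c * f) ^ 2 = 1
  de : (d * e) ^ 3 = 1
  df : (d * f) ^ 2 = 1
  ef : (e * f) ^ 3 = 1
  r2 : a * f = (c * d) ^ 4

section
variable {G : Type*} [Group G] {a b c d e f : G} (h : KRels a b c d e f)
include h

theorem KRels.sq : ∀ l < 6, six a b c d e f l * six a b c d e f l = 1 := by
  intro l hl
  interval_cases l
  exacts [h.sa, h.sb, h.sc, h.sd, h.se, h.sf]

theorem KRels.three : Finite (lgp (six a b c d e f) [0, 1, 2]) ∧ Nat.card (lgp (six a b c d e f) [0, 1, 2]) ≤ 24 := by
  have := lgp_bound (six a b c d e f) LevThree.valid [0, 1, 2] rfl (K := ⊥) ?_ (by decide)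
    (fun l hl => h.sq l (by revert l hl; decide)) (fun s hs => by simp [LevThree.cert] at hs)
  · rw [LevThree.fins_length, Subgroup.card_bot, mul_one] at this
    exact this
  · intro r hr
    simp only [LevThree.rels, List.mem_cons, List.not_mem_nil, or_false] at hr
    rcases hr with rfl | rfl | rfl | rfl | rfl | rfl <;>
      simp only [wval, pickL, six, List.map_cons, List.map_nil, List.getD_cons_zero, List.getD_cons_succ,
        List.prod_cons, List.prod_nil, mul_one]
    all_goals first
      | exact h.sa
      | exact h.sb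
      | exact h.sc
      | simpa [pow_succ, mul_assoc] using h.ab
      | simpa [pow_succ, mul_assoc] using h.ac
      | simpa [pow_succ, mul_assoc] using h.bc

theorem KRels.fab : b * (a * (c * d) ^ 4) * (b * (a * (c * d) ^ 4)) = 1 ∧
    a * (c * d) ^ 4 * (a * (c * d) ^ 4) = 1 := by
  have hf : a * (c * d) ^ 4 = f := by rw [← h.r2, ← mul_assoc, h.sa, one_mul]
  rw [hf]
  exact ⟨by simpa [pow_succ] using h.bf, h.sf⟩

theorem KRels.four : Finite (lgp (six a b c d e f) [0, 1, 2, 3]) ∧
    Nat.card (lgp (six a b c d e f) [0, 1, 2, 3]) ≤ 672 := by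
  haveI := h.three.1
  have := lgp_bound (six a b c d e f) LevFour.valid [0, 1, 2, 3] rfl (K := lgp (six a b c d e f) [0, 1, 2]) ?_
    (by decide) (fun l hl => h.sq l (by revert l hl; decide)) (fun s hs => by
      simp only [LevFour.cert, List.mem_cons, List.not_mem_nil, or_false] at hs
      rcases hs with rfl | rfl | rfl <;> exact lgp_mem _ (by decide))
  · rw [LevFour.fins_length] at this
    exact ⟨this.1, this.2.trans (Nat.mul_le_mul_left 28 h.three.2)⟩
  · intro r hr
    simp only [LevFour.rels, List.mem_cons, List.not_mem_nil, or_false] at hr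
    rcases hr with rfl | rfl | rfl | rfl | rfl | rfl | rfl | rfl | rfl | rfl | rfl | rfl <;>
      simp only [wval, pickL, six, List.map_cons, List.map_nil, List.getD_cons_zero, List.getD_cons_succ,
        List.prod_cons, List.prod_nil, mul_one]
    all_goals first
      | exact h.sa
      | exact h.sb
      | exact h.sc
      | exact h.sd
      | simpa [pow_succ, mul_assoc] using h.ab
      | simpa [pow_succ, mul_assoc] using h.ac
      | simpa [pow_succ, mul_assoc] using h.ad
      | simpa [pow_succ, mul_assoc] using h.bc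
      | simpa [pow_succ, mul_assoc] using h.bd
      | simpa [pow_succ, mul_assoc] using h.cd
      | simpa [pow_succ, mul_assoc] using h.fab.1
      | simpa [pow_succ, mul_assoc] using h.fab.2

theorem KRels.inv_r2 : a * (f * (d * (c * (d * (c * (d * (c * (d * c)))))))) = 1 := by
  have hc : c⁻¹ = c := inv_eq_of_mul_eq_one_left h.sc
  have hd : d⁻¹ = d := inv_eq_of_mul_eq_one_left h.sd
  have := h.r2
  rw [← mul_inv_eq_one] at this
  simpa [pow_succ, mul_assoc, mul_inv_rev, hc, hd] using this

theorem KRels.all : Finite (lgp (six a b c d e f) [0, 1, 2, 3, 4, 5]) ∧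
    Nat.card (lgp (six a b c d e f) [0, 1, 2, 3, 4, 5]) ≤ 3753792 := by
  haveI := h.four.1
  have := lgp_bound (six a b c d e f) LevSix.valid [0, 1, 2, 3, 4, 5] rfl
    (K := lgp (six a b c d e f) [0, 1, 2, 3]) ?_
    (by decide) (fun l hl => h.sq l (by revert l hl; decide)) (fun s hs => by
      simp only [LevSix.cert, List.mem_cons, List.not_mem_nil, or_false] at hs
      rcases hs with rfl | rfl | rfl | rfl <;> exact lgp_mem _ (by decide))
  · rw [LevSix.fins_length] at this
    exact ⟨this.1, this.2.trans (Nat.mul_le_mul_left 5586 h.four.2)⟩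
  · intro r hr
    simp only [LevSix.rels, List.mem_cons, List.not_mem_nil, or_false] at hr
    rcases hr with rfl | rfl | rfl | rfl | rfl | rfl | rfl | rfl | rfl | rfl | rfl | rfl | rfl | rfl | rfl | rfl |
      rfl | rfl | rfl | rfl | rfl | rfl <;>
      simp only [wval, pickL, six, List.map_cons, List.map_nil, List.getD_cons_zero, List.getD_cons_succ,
        List.prod_cons, List.prod_nil, mul_one]
    all_goals first
      | exact h.sa
      | exact h.sb
      | exact h.sc
      | exact h.sd
      | exact h.se
      | exact h.sf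
      | simpa [pow_succ, mul_assoc] using h.ab
      | simpa [pow_succ, mul_assoc] using h.ac
      | simpa [pow_succ, mul_assoc] using h.ad
      | simpa [pow_succ, mul_assoc] using h.ae
      | simpa [pow_succ, mul_assoc] using h.af
      | simpa [pow_succ, mul_assoc] using h.bc
      | simpa [pow_succ, mul_assoc] using h.bd
      | simpa [pow_succ, mul_assoc] using h.be
      | simpa [pow_succ, mul_assoc] using h.bf
      | simpa [pow_succ, mul_assoc] using h.cd
      | simpa [pow_succ, mul_assoc] using h.ce
      | simpa [pow_succ, mul_assoc] using h.cf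
      | simpa [pow_succ, mul_assoc] using h.de
      | simpa [pow_succ, mul_assoc] using h.df
      | simpa [pow_succ, mul_assoc] using h.ef
      | exact h.inv_r2

end

/-- The permutation of a polarity. -/
def polPerm (k : ℕ) : Equiv.Perm (Fin 114) := perm 114 (polTabs.getD k (0, 0))

theorem pol_valid : ∀ k < 6, valid 114 (polTabs.getD k (0, 0)) = true := by decide +kernel

theorem pol_words : isId 114 [polTabs.getD 0 (0, 0), polTabs.getD 0 (0, 0)] = true ∧
    isId 114 [polTabs.getD 1 (0, 0), polTabs.getD 1 (0, 0)] = true ∧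
    isId 114 [polTabs.getD 2 (0, 0), polTabs.getD 2 (0, 0)] = true ∧
    isId 114 [polTabs.getD 3 (0, 0), polTabs.getD 3 (0, 0)] = true ∧
    isId 114 [polTabs.getD 4 (0, 0), polTabs.getD 4 (0, 0)] = true ∧
    isId 114 [polTabs.getD 5 (0, 0), polTabs.getD 5 (0, 0)] = true := by decide +kernel

/-- A word in the polarities is trivial. -/
def polTriv (w : List ℕ) : Bool := isId 114 (w.map fun k => polTabs.getD k (0, 0)) && w.all (fun k => decide (k < 6))

theorem polTriv_sound {w : List ℕ} (h : polTriv w = true) : (w.map polPerm).prod = 1 := by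
  rw [polTriv, Bool.and_eq_true, List.all_eq_true] at h
  have := isId_sound (n := 114) (w := w.map fun k => polTabs.getD k (0, 0)) (fun g hg => by
    obtain ⟨k, hk, rfl⟩ := List.mem_map.1 hg
    exact pol_valid k (of_decide_eq_true (h.2 k hk))) h.1
  rwa [wperm, List.map_map] at this

theorem pol_rels : KRels (polPerm 0) (polPerm 1) (polPerm 2) (polPerm 3) (polPerm 4) (polPerm 5) := by
  refine ⟨?_, ?_, ?_, ?_, ?_, ?_, ?_, ?_, ?_, ?_, ?_, ?_, ?_, ?_, ?_, ?_, ?_, ?_, ?_, ?_, ?_, ?_⟩
  · simpa using polTriv_sound (w := [0, 0]) (by decide +kernel)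
  · simpa using polTriv_sound (w := [1, 1]) (by decide +kernel)
  · simpa using polTriv_sound (w := [2, 2]) (by decide +kernel)
  · simpa using polTriv_sound (w := [3, 3]) (by decide +kernel)
  · simpa using polTriv_sound (w := [4, 4]) (by decide +kernel)
  · simpa using polTriv_sound (w := [5, 5]) (by decide +kernel)
  · simpa [pow_succ, mul_assoc] using polTriv_sound (w := [0, 1, 0, 1, 0, 1]) (by decide +kernel)
  · simpa [pow_succ, mul_assoc] using polTriv_sound (w := [0, 2, 0, 2]) (by decide +kernel)
  · simpa [pow_succ, mul_assoc] using polTriv_sound (w := [0, 3, 0, 3]) (by decide +kernel)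
  · simpa [pow_succ, mul_assoc] using polTriv_sound (w := [0, 4, 0, 4]) (by decide +kernel)
  · simpa [pow_succ, mul_assoc] using polTriv_sound (w := [0, 5, 0, 5]) (by decide +kernel)
  · simpa [pow_succ, mul_assoc] using polTriv_sound (w := [1, 2, 1, 2, 1, 2]) (by decide +kernel)
  · simpa [pow_succ, mul_assoc] using polTriv_sound (w := [1, 3, 1, 3]) (by decide +kernel)
  · simpa [pow_succ, mul_assoc] using polTriv_sound (w := [1, 4, 1, 4]) (by decide +kernel)
  · simpa [pow_succ, mul_assoc] using polTriv_sound (w := [1, 5, 1, 5]) (by decide +kernel)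
  · simpa [pow_succ, mul_assoc] using
      polTriv_sound (w := [2, 3, 2, 3, 2, 3, 2, 3, 2, 3, 2, 3, 2, 3, 2, 3]) (by decide +kernel)
  · simpa [pow_succ, mul_assoc] using polTriv_sound (w := [2, 4, 2, 4]) (by decide +kernel)
  · simpa [pow_succ, mul_assoc] using polTriv_sound (w := [2, 5, 2, 5]) (by decide +kernel)
  · simpa [pow_succ, mul_assoc] using polTriv_sound (w := [3, 4, 3, 4, 3, 4]) (by decide +kernel)
  · simpa [pow_succ, mul_assoc] using polTriv_sound (w := [3, 5, 3, 5]) (by decide +kernel)
  · simpa [pow_succ, mul_assoc] using polTriv_sound (w := [4, 5, 4, 5, 4, 5]) (by decide +kernel)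
  · have h := polTriv_sound (w := [0, 5, 3, 2, 3, 2, 3, 2, 3, 2]) (by decide +kernel)
    have s2 := polTriv_sound (w := [2, 2]) (by decide +kernel)
    have s3 := polTriv_sound (w := [3, 3]) (by decide +kernel)
    simp only [List.map_cons, List.map_nil, List.prod_cons, List.prod_nil, mul_one] at h s2 s3
    rw [← mul_inv_eq_one]
    simpa [pow_succ, mul_assoc, mul_inv_rev, inv_eq_of_mul_eq_one_left s2, inv_eq_of_mul_eq_one_left s3] using h

theorem chainK_ok : (chainOK polTabs 114 polTabs.length chainK && (chainSize chainK == 3753792)) = true := by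
  decide +kernel

/-- The group of the six polarities. -/
def polGroup : Subgroup (Equiv.Perm (Fin 114)) := lgp polPerm [0, 1, 2, 3, 4, 5]

theorem six_pol : lgp (six (polPerm 0) (polPerm 1) (polPerm 2) (polPerm 3) (polPerm 4) (polPerm 5)) [0, 1, 2, 3, 4, 5] =
    polGroup := by
  refine congrArg Subgroup.closure (Set.ext fun x => exists_congr fun l => and_congr_right fun hl => ?_)
  simp only [List.mem_cons, List.not_mem_nil, or_false] at hl
  rcases hl with rfl | rfl | rfl | rfl | rfl | rfl <;> rfl

theorem polGroup_card : Nat.card polGroup = 3753792 := by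
  have hfin := pol_rels.all
  rw [six_pol] at hfin
  refine le_antisymm hfin.2 ?_
  have hc := chainK_ok
  rw [Bool.and_eq_true, beq_iff_eq] at hc
  rw [← hc.2]
  refine chain_bound polPerm (MonoidHom.id _) polTabs (fun l hl => ⟨pol_valid l hl, rfl⟩) chainK polGroup hc.1
    hfin.1 fun K hK w hw => lgp_wval polPerm (inLetters_of_lt w ?_)
  exact fun l hl => CosetCert.chain_bound.chain_letters.{0} polTabs chainK hc.1 K hK w hw l hl
where
  inLetters_of_lt (w : List ℕ) (h : ∀ l ∈ w, l < 6) : inLetters [0, 1, 2, 3, 4, 5] w = true := by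
    rw [inLetters, List.all_eq_true]
    intro l hl
    have := h l hl
    interval_cases l <;> rfl

end Cfsg.Lib.ONPres
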