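import Cfsg.Agent.CosetCert.Basic

/-!
Generated coset enumeration certificate: index 24, letters abc, subgroup .
-/

set_option autoImplicit false

namespace Cfsg.Lib.ONPres.LevThree

open Cfsg.Lib.CosetCert

def edgeTL0 : ℕ :=
  0x2000016000014200000f000017000000c00001710000170000160000016000013200001000001500000090000151000015000014000001400001210000110000132000013000012100001200000e000000b0000112000011000006000000a000010100001000000f000000f00000d000000800000e200000e000007100000400000d200000d00000c100000c00000b200000b000005100000300000a200000a00000910000090000082000008000002000000200000710000070000060000006000005100000500000100000030000042000004000001200000300000010000020000000000001000000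

def edgeT : BT :=
  .leaf edgeTL0

def parTL0 : ℕ :=
  0x2000001f00001c00001b00001900001800001600001400001300001100000f00000e00000d00000b00000a000009000007000006000005000003000002000001000000000000

def parT : BT :=
  .leaf parTL0

def rotTL0 : ℕ :=
  0x2323230000000000000000000000000000000000000000000000000000000000000000000000000000000000000000000000001313000000000000000000000000000000000000000000000000000000000000000000000000000000000000000000000032323200000000000000000000000000000000000000000000000000000000000000000000000000000000000000000000002121210000000000000000000000000000000000000000000000000000000000000000000000000000000000000000000000003131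

def rotT : BT :=
  .leaf rotTL0

def finsTL0 : ℕ :=
  0x1700001600001500001400001300001200001100001000000f00000e00000d00000c00000b00000a000009000008000007000006000005000004000003000002000001000000

def finsT : BT :=
  .leaf finsTL0

def tabTL0 : ℕ :=
  0xf00004400001600004100000c00004200001400004700001700004000001300003f00001000003c00001400003900000900003a00001600004600001500003800001200003700001200003300001100003400001600003e00001300003200000e00003100001400003600000600002d00001300003500000b00002e00001500003d00000f00002900000a00002a00001700004500001000002800000d00002700000700002300001200003000000800002400000c00001f00000400002000000f00002600000d00001e00000b00001d00001700004300000500001b00000c00001c00001100002f00000900001700000300001800001000002b00000a00001600000800001500001500003b00000200001300000900001400000e00002500000e00002200000600000f00000200001000001100002c00000700000e00000500000d00000b00001a00000100000b00000600000c00000100000700000d00002100000300000800000000000500000a00001900000400000900000800001200000000000300000700001100000400000600000500000a000000000001000003000004000002000002000001000000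

def tabT : BT :=
  .leaf tabTL0

def cert : Cert where
  ng := 3
  depth := 0
  edges := edgeT
  pars := parT
  subs := []
  rots := rotT
  m := 24
  finT := finsT
  tab := tabT

def rels : List (List ℕ) :=
  [[0,0],
   [1,1],
   [2,2],
   [0,2,0,2],
   [0,1,0,1,0,1],
   [1,2,1,2,1,2]]

def spec : List (ℕ × ℕ × Bool) :=
  [(3,1,false), (4,1,false), (5,1,false), (3,0,false), (5,0,false)]

def steps0 : List (ℕ × ℕ) :=
  [(0,0x0),
   (0,0x0),
   (0,0x0),
   (0,0x0),
   (2,0x5000002000008),
   (0,0x0),
   (0,0x0),
   (0,0x0),
   (3,0x300000200000c00000e000010),
   (0,0x0),
   (0,0x0),
   (0,0x0),
   (4,0x5000004000014000016000018),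
   (0,0x0),
   (0,0x0),
   (0,0x0),
   (4,0x700000c00001c00001e000020),
   (0,0x0),
   (2,0x13000011000024),
   (0,0x0),
   (0,0x0),
   (3,0x1a00000900002100002800002a),
   (0,0x0),
   (2,0x1b00000e00002e),
   (0,0x0),
   (0,0x0),
   (4,0x2d000010000024000032000034),
   (0,0x0),
   (0,0x0),
   (3,0x1500002500003200003800003a),
   (5,0x2c00001700003b),
   (0,0x0),
   (0,0x0),
   (3,0x1d00002f000035000040000042),
   (5,0x2700001f000043),
   (6,0x4200004600002a00003d000039)]

end Cfsg.Lib.ONPres.LevThree
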