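import Cfsg.Agent.ONPres.RelCheck

/-!
Kernel checks of the relators on the coset table, block 1.
-/

set_option autoImplicit false

namespace Cfsg.Lib.ONPres

set_option maxRecDepth 100000 in
theorem rel_1_0 : rangeOK rel1 1023 15345 = true := by decide +kernel

set_option maxRecDepth 100000 in
theorem rel_1_1 : rangeOK rel1 1023 16368 = true := by decide +kernel

set_option maxRecDepth 100000 in
theorem rel_1_2 : rangeOK rel1 1023 17391 = true := by decide +kernel

set_option maxRecDepth 100000 in
theorem rel_1_3 : rangeOK rel1 1023 18414 = true := by decide +kernel

set_option maxRecDepth 100000 in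
theorem rel_1_4 : rangeOK rel1 1023 19437 = true := by decide +kernel

set_option maxRecDepth 100000 in
theorem rel_1_5 : rangeOK rel1 1023 20460 = true := by decide +kernel

set_option maxRecDepth 100000 in
theorem rel_1_6 : rangeOK rel1 1023 21483 = true := by decide +kernel

set_option maxRecDepth 100000 in
theorem rel_1_7 : rangeOK rel1 1023 22506 = true := by decide +kernel

set_option maxRecDepth 100000 in
theorem rel_1_8 : rangeOK rel1 1023 23529 = true := by decide +kernel

set_option maxRecDepth 100000 in
theorem rel_1_9 : rangeOK rel1 1023 24552 = true := by decide +kernel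

set_option maxRecDepth 100000 in
theorem rel_1_10 : rangeOK rel1 1023 25575 = true := by decide +kernel

set_option maxRecDepth 100000 in
theorem rel_1_11 : rangeOK rel1 1023 26598 = true := by decide +kernel

set_option maxRecDepth 100000 in
theorem rel_1_12 : rangeOK rel1 1023 27621 = true := by decide +kernel

set_option maxRecDepth 100000 in
theorem rel_1_13 : rangeOK rel1 1023 28644 = true := by decide +kernel

set_option maxRecDepth 100000 in
theorem rel_1_14 : rangeOK rel1 1023 29667 = true := by decide +kernel

end Cfsg.Lib.ONPres
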