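import Cfsg.Agent.ONPres.RelCheck

/-!
Kernel checks of the relators on the coset table, block 3.
-/

set_option autoImplicit false

namespace Cfsg.Lib.ONPres

set_option maxRecDepth 100000 in
theorem rel_3_0 : rangeOK rel1 1023 46035 = true := by decide +kernel

set_option maxRecDepth 100000 in
theorem rel_3_1 : rangeOK rel1 1023 47058 = true := by decide +kernel

set_option maxRecDepth 100000 in
theorem rel_3_2 : rangeOK rel1 1023 48081 = true := by decide +kernel

set_option maxRecDepth 100000 in
theorem rel_3_3 : rangeOK rel1 1023 49104 = true := by decide +kernel

set_option maxRecDepth 100000 in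
theorem rel_3_4 : rangeOK rel1 1023 50127 = true := by decide +kernel

set_option maxRecDepth 100000 in
theorem rel_3_5 : rangeOK rel1 1023 51150 = true := by decide +kernel

set_option maxRecDepth 100000 in
theorem rel_3_6 : rangeOK rel1 1023 52173 = true := by decide +kernel

set_option maxRecDepth 100000 in
theorem rel_3_7 : rangeOK rel1 1023 53196 = true := by decide +kernel

set_option maxRecDepth 100000 in
theorem rel_3_8 : rangeOK rel1 1023 54219 = true := by decide +kernel

set_option maxRecDepth 100000 in
theorem rel_3_9 : rangeOK rel1 1023 55242 = true := by decide +kernel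

set_option maxRecDepth 100000 in
theorem rel_3_10 : rangeOK rel1 1023 56265 = true := by decide +kernel

set_option maxRecDepth 100000 in
theorem rel_3_11 : rangeOK rel1 1023 57288 = true := by decide +kernel

set_option maxRecDepth 100000 in
theorem rel_3_12 : rangeOK rel1 1023 58311 = true := by decide +kernel

set_option maxRecDepth 100000 in
theorem rel_3_13 : rangeOK rel1 1023 59334 = true := by decide +kernel

set_option maxRecDepth 100000 in
theorem rel_3_14 : rangeOK rel1 1023 60357 = true := by decide +kernel

end Cfsg.Lib.ONPres
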