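import Cfsg.Agent.ONPres.RelCheck

/-!
Kernel checks of the relators on the coset table, block 4.
-/

set_option autoImplicit false

namespace Cfsg.Lib.ONPres

set_option maxRecDepth 100000 in
theorem rel_4_0 : rangeOK rel1 1023 61380 = true := by decide +kernel

set_option maxRecDepth 100000 in
theorem rel_4_1 : rangeOK rel1 1023 62403 = true := by decide +kernel

set_option maxRecDepth 100000 in
theorem rel_4_2 : rangeOK rel1 1023 63426 = true := by decide +kernel

set_option maxRecDepth 100000 in
theorem rel_4_3 : rangeOK rel1 1023 64449 = true := by decide +kernel

set_option maxRecDepth 100000 in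
theorem rel_4_4 : rangeOK rel1 1023 65472 = true := by decide +kernel

set_option maxRecDepth 100000 in
theorem rel_4_5 : rangeOK rel1 1023 66495 = true := by decide +kernel

set_option maxRecDepth 100000 in
theorem rel_4_6 : rangeOK rel1 1023 67518 = true := by decide +kernel

set_option maxRecDepth 100000 in
theorem rel_4_7 : rangeOK rel1 1023 68541 = true := by decide +kernel

set_option maxRecDepth 100000 in
theorem rel_4_8 : rangeOK rel1 1023 69564 = true := by decide +kernel

set_option maxRecDepth 100000 in
theorem rel_4_9 : rangeOK rel1 1023 70587 = true := by decide +kernel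

set_option maxRecDepth 100000 in
theorem rel_4_10 : rangeOK rel1 1023 71610 = true := by decide +kernel

set_option maxRecDepth 100000 in
theorem rel_4_11 : rangeOK rel1 1023 72633 = true := by decide +kernel

set_option maxRecDepth 100000 in
theorem rel_4_12 : rangeOK rel1 1023 73656 = true := by decide +kernel

set_option maxRecDepth 100000 in
theorem rel_4_13 : rangeOK rel1 1023 74679 = true := by decide +kernel

set_option maxRecDepth 100000 in
theorem rel_4_14 : rangeOK rel1 1023 75702 = true := by decide +kernel

end Cfsg.Lib.ONPres
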