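import Cfsg.Agent.ONPres.RelCheck

/-!
Kernel checks of the relators on the coset table, block 6.
-/

set_option autoImplicit false

namespace Cfsg.Lib.ONPres

set_option maxRecDepth 100000 in
theorem rel_6_0 : rangeOK rel1 1023 92070 = true := by decide +kernel

set_option maxRecDepth 100000 in
theorem rel_6_1 : rangeOK rel1 1023 93093 = true := by decide +kernel

set_option maxRecDepth 100000 in
theorem rel_6_2 : rangeOK rel1 1023 94116 = true := by decide +kernel

set_option maxRecDepth 100000 in
theorem rel_6_3 : rangeOK rel1 1023 95139 = true := by decide +kernel

set_option maxRecDepth 100000 in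
theorem rel_6_4 : rangeOK rel1 1023 96162 = true := by decide +kernel

set_option maxRecDepth 100000 in
theorem rel_6_5 : rangeOK rel1 1023 97185 = true := by decide +kernel

set_option maxRecDepth 100000 in
theorem rel_6_6 : rangeOK rel1 1023 98208 = true := by decide +kernel

set_option maxRecDepth 100000 in
theorem rel_6_7 : rangeOK rel1 1023 99231 = true := by decide +kernel

set_option maxRecDepth 100000 in
theorem rel_6_8 : rangeOK rel1 1023 100254 = true := by decide +kernel

set_option maxRecDepth 100000 in
theorem rel_6_9 : rangeOK rel1 1023 101277 = true := by decide +kernel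

set_option maxRecDepth 100000 in
theorem rel_6_10 : rangeOK rel1 1023 102300 = true := by decide +kernel

set_option maxRecDepth 100000 in
theorem rel_6_11 : rangeOK rel1 1023 103323 = true := by decide +kernel

set_option maxRecDepth 100000 in
theorem rel_6_12 : rangeOK rel1 1023 104346 = true := by decide +kernel

set_option maxRecDepth 100000 in
theorem rel_6_13 : rangeOK rel1 1023 105369 = true := by decide +kernel

set_option maxRecDepth 100000 in
theorem rel_6_14 : rangeOK rel1 1023 106392 = true := by decide +kernel

end Cfsg.Lib.ONPres
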