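import Cfsg.Agent.ONPres.RelCheck

/-!
Kernel checks of the relators on the coset table, block 7.
-/

set_option autoImplicit false

namespace Cfsg.Lib.ONPres

set_option maxRecDepth 100000 in
theorem rel_7_0 : rangeOK rel1 1023 107415 = true := by decide +kernel

set_option maxRecDepth 100000 in
theorem rel_7_1 : rangeOK rel1 1023 108438 = true := by decide +kernel

set_option maxRecDepth 100000 in
theorem rel_7_2 : rangeOK rel1 1023 109461 = true := by decide +kernel

set_option maxRecDepth 100000 in
theorem rel_7_3 : rangeOK rel1 1023 110484 = true := by decide +kernel

set_option maxRecDepth 100000 in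
theorem rel_7_4 : rangeOK rel1 1023 111507 = true := by decide +kernel

set_option maxRecDepth 100000 in
theorem rel_7_5 : rangeOK rel1 1023 112530 = true := by decide +kernel

set_option maxRecDepth 100000 in
theorem rel_7_6 : rangeOK rel1 1023 113553 = true := by decide +kernel

set_option maxRecDepth 100000 in
theorem rel_7_7 : rangeOK rel1 1023 114576 = true := by decide +kernel

set_option maxRecDepth 100000 in
theorem rel_7_8 : rangeOK rel1 1023 115599 = true := by decide +kernel

set_option maxRecDepth 100000 in
theorem rel_7_9 : rangeOK rel1 1023 116622 = true := by decide +kernel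

set_option maxRecDepth 100000 in
theorem rel_7_10 : rangeOK rel1 1023 117645 = true := by decide +kernel

set_option maxRecDepth 100000 in
theorem rel_7_11 : rangeOK rel1 1023 118668 = true := by decide +kernel

set_option maxRecDepth 100000 in
theorem rel_7_12 : rangeOK rel1 1023 119691 = true := by decide +kernel

set_option maxRecDepth 100000 in
theorem rel_7_13 : rangeOK rel1 1023 120714 = true := by decide +kernel

set_option maxRecDepth 100000 in
theorem rel_7_14 : rangeOK rel1 1023 121737 = true := by decide +kernel

end Cfsg.Lib.ONPres
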