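import Cfsg.Agent.ONPres.Check

/-!
Kernel checks of rows of the coset table, block 2.
-/

set_option autoImplicit false

namespace Cfsg.Lib.ONPres

set_option maxRecDepth 100000 in
theorem rows_2_0 : rangeOK chk 1023 30690 = true := by decide +kernel

set_option maxRecDepth 100000 in
theorem rows_2_1 : rangeOK chk 1023 31713 = true := by decide +kernel

set_option maxRecDepth 100000 in
theorem rows_2_2 : rangeOK chk 1023 32736 = true := by decide +kernel

set_option maxRecDepth 100000 in
theorem rows_2_3 : rangeOK chk 1023 33759 = true := by decide +kernel

set_option maxRecDepth 100000 in
theorem rows_2_4 : rangeOK chk 1023 34782 = true := by decide +kernel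

set_option maxRecDepth 100000 in
theorem rows_2_5 : rangeOK chk 1023 35805 = true := by decide +kernel

set_option maxRecDepth 100000 in
theorem rows_2_6 : rangeOK chk 1023 36828 = true := by decide +kernel

set_option maxRecDepth 100000 in
theorem rows_2_7 : rangeOK chk 1023 37851 = true := by decide +kernel

set_option maxRecDepth 100000 in
theorem rows_2_8 : rangeOK chk 1023 38874 = true := by decide +kernel

set_option maxRecDepth 100000 in
theorem rows_2_9 : rangeOK chk 1023 39897 = true := by decide +kernel

set_option maxRecDepth 100000 in
theorem rows_2_10 : rangeOK chk 1023 40920 = true := by decide +kernel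

set_option maxRecDepth 100000 in
theorem rows_2_11 : rangeOK chk 1023 41943 = true := by decide +kernel

set_option maxRecDepth 100000 in
theorem rows_2_12 : rangeOK chk 1023 42966 = true := by decide +kernel

set_option maxRecDepth 100000 in
theorem rows_2_13 : rangeOK chk 1023 43989 = true := by decide +kernel

set_option maxRecDepth 100000 in
theorem rows_2_14 : rangeOK chk 1023 45012 = true := by decide +kernel

end Cfsg.Lib.ONPres
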