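import Cfsg.Agent.ONPres.Check

/-!
Kernel checks of rows of the coset table, block 5.
-/

set_option autoImplicit false

namespace Cfsg.Lib.ONPres

set_option maxRecDepth 100000 in
theorem rows_5_0 : rangeOK chk 1023 76725 = true := by decide +kernel

set_option maxRecDepth 100000 in
theorem rows_5_1 : rangeOK chk 1023 77748 = true := by decide +kernel

set_option maxRecDepth 100000 in
theorem rows_5_2 : rangeOK chk 1023 78771 = true := by decide +kernel

set_option maxRecDepth 100000 in
theorem rows_5_3 : rangeOK chk 1023 79794 = true := by decide +kernel

set_option maxRecDepth 100000 in
theorem rows_5_4 : rangeOK chk 1023 80817 = true := by decide +kernel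

set_option maxRecDepth 100000 in
theorem rows_5_5 : rangeOK chk 1023 81840 = true := by decide +kernel

set_option maxRecDepth 100000 in
theorem rows_5_6 : rangeOK chk 1023 82863 = true := by decide +kernel

set_option maxRecDepth 100000 in
theorem rows_5_7 : rangeOK chk 1023 83886 = true := by decide +kernel

set_option maxRecDepth 100000 in
theorem rows_5_8 : rangeOK chk 1023 84909 = true := by decide +kernel

set_option maxRecDepth 100000 in
theorem rows_5_9 : rangeOK chk 1023 85932 = true := by decide +kernel

set_option maxRecDepth 100000 in
theorem rows_5_10 : rangeOK chk 1023 86955 = true := by decide +kernel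

set_option maxRecDepth 100000 in
theorem rows_5_11 : rangeOK chk 1023 87978 = true := by decide +kernel

set_option maxRecDepth 100000 in
theorem rows_5_12 : rangeOK chk 1023 89001 = true := by decide +kernel

set_option maxRecDepth 100000 in
theorem rows_5_13 : rangeOK chk 1023 90024 = true := by decide +kernel

set_option maxRecDepth 100000 in
theorem rows_5_14 : rangeOK chk 1023 91047 = true := by decide +kernel

end Cfsg.Lib.ONPres
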