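import Cfsg.Agent.ONPres.FactCheck0
import Cfsg.Agent.ONPres.FactCheck1
import Cfsg.Agent.ONPres.FactCheck2
import Cfsg.Agent.ONPres.FactCheck3
import Cfsg.Agent.ONPres.FactCheck4
import Cfsg.Agent.ONPres.FactCheck5
import Cfsg.Agent.ONPres.FactCheck6
import Cfsg.Agent.ONPres.FactCheck7
import Cfsg.Agent.ONPres.FactCheck8
import Cfsg.Agent.ONPres.FactCheck9
import Cfsg.Agent.ONPres.FactCheck10
import Cfsg.Agent.ONPres.FactCheck11
import Cfsg.Agent.ONPres.FactCheck12
import Cfsg.Agent.ONPres.FactCheck13
import Cfsg.Agent.ONPres.RowCheck0
import Cfsg.Agent.ONPres.RowCheck1
import Cfsg.Agent.ONPres.RowCheck2
import Cfsg.Agent.ONPres.RowCheck3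
import Cfsg.Agent.ONPres.RowCheck4
import Cfsg.Agent.ONPres.RowCheck5
import Cfsg.Agent.ONPres.RowCheck6
import Cfsg.Agent.ONPres.RowCheck7
import Cfsg.Agent.ONPres.Gens

/-!
The certified upper bound: every coset of the subgroup on the six involutory letters appears in the table.
-/

set_option autoImplicit false

namespace Cfsg.Lib.ONPres

theorem facts_all : CoveredA feF pnF rcF 174 0 195968 :=
  (((((((((((((facts_0).trans facts_1).trans facts_2).trans facts_3).trans facts_4).trans facts_5).trans facts_6).trans facts_7).trans facts_8).trans facts_9).trans facts_10).trans facts_11).trans facts_12).trans facts_13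

theorem rows_all : ∀ i, i < 122760 → chk i = true := by
  intro i hi
  by_cases h61380 : i < 61380
  · by_cases h30690 : i < 30690
    · by_cases h15345 : i < 15345
      · by_cases h7161 : i < 7161
        · by_cases h3069 : i < 3069
          · by_cases h1023 : i < 1023
            · exact rangeOK_sound _ _ rows_0_0 i (by omega) (by omega)
            · by_cases h2046 : i < 2046
              · exact rangeOK_sound _ _ rows_0_1 i (by omega) (by omega)
              · exact rangeOK_sound _ _ rows_0_2 i (by omega) (by omega)
          · by_cases h5115 : i < 5115
            · by_cases h4092 : i < 4092
              · exact rangeOK_sound _ _ rows_0_3 i (by omega) (by omega)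
              · exact rangeOK_sound _ _ rows_0_4 i (by omega) (by omega)
            · by_cases h6138 : i < 6138
              · exact rangeOK_sound _ _ rows_0_5 i (by omega) (by omega)
              · exact rangeOK_sound _ _ rows_0_6 i (by omega) (by omega)
        · by_cases h11253 : i < 11253
          · by_cases h9207 : i < 9207
            · by_cases h8184 : i < 8184
              · exact rangeOK_sound _ _ rows_0_7 i (by omega) (by omega)
              · exact rangeOK_sound _ _ rows_0_8 i (by omega) (by omega)
            · by_cases h10230 : i < 10230
              · exact rangeOK_sound _ _ rows_0_9 i (by omega) (by omega)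
              · exact rangeOK_sound _ _ rows_0_10 i (by omega) (by omega)
          · by_cases h13299 : i < 13299
            · by_cases h12276 : i < 12276
              · exact rangeOK_sound _ _ rows_0_11 i (by omega) (by omega)
              · exact rangeOK_sound _ _ rows_0_12 i (by omega) (by omega)
            · by_cases h14322 : i < 14322
              · exact rangeOK_sound _ _ rows_0_13 i (by omega) (by omega)
              · exact rangeOK_sound _ _ rows_0_14 i (by omega) (by omega)
      · by_cases h22506 : i < 22506
        · by_cases h18414 : i < 18414
          · by_cases h16368 : i < 16368
            · exact rangeOK_sound _ _ rows_1_0 i (by omega) (by omega)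
            · by_cases h17391 : i < 17391
              · exact rangeOK_sound _ _ rows_1_1 i (by omega) (by omega)
              · exact rangeOK_sound _ _ rows_1_2 i (by omega) (by omega)
          · by_cases h20460 : i < 20460
            · by_cases h19437 : i < 19437
              · exact rangeOK_sound _ _ rows_1_3 i (by omega) (by omega)
              · exact rangeOK_sound _ _ rows_1_4 i (by omega) (by omega)
            · by_cases h21483 : i < 21483
              · exact rangeOK_sound _ _ rows_1_5 i (by omega) (by omega)
              · exact rangeOK_sound _ _ rows_1_6 i (by omega) (by omega)
        · by_cases h26598 : i < 26598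
          · by_cases h24552 : i < 24552
            · by_cases h23529 : i < 23529
              · exact rangeOK_sound _ _ rows_1_7 i (by omega) (by omega)
              · exact rangeOK_sound _ _ rows_1_8 i (by omega) (by omega)
            · by_cases h25575 : i < 25575
              · exact rangeOK_sound _ _ rows_1_9 i (by omega) (by omega)
              · exact rangeOK_sound _ _ rows_1_10 i (by omega) (by omega)
          · by_cases h28644 : i < 28644
            · by_cases h27621 : i < 27621
              · exact rangeOK_sound _ _ rows_1_11 i (by omega) (by omega)
              · exact rangeOK_sound _ _ rows_1_12 i (by omega) (by omega)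
            · by_cases h29667 : i < 29667
              · exact rangeOK_sound _ _ rows_1_13 i (by omega) (by omega)
              · exact rangeOK_sound _ _ rows_1_14 i (by omega) (by omega)
    · by_cases h46035 : i < 46035
      · by_cases h37851 : i < 37851
        · by_cases h33759 : i < 33759
          · by_cases h31713 : i < 31713
            · exact rangeOK_sound _ _ rows_2_0 i (by omega) (by omega)
            · by_cases h32736 : i < 32736
              · exact rangeOK_sound _ _ rows_2_1 i (by omega) (by omega)
              · exact rangeOK_sound _ _ rows_2_2 i (by omega) (by omega)
          · by_cases h35805 : i < 35805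
            · by_cases h34782 : i < 34782
              · exact rangeOK_sound _ _ rows_2_3 i (by omega) (by omega)
              · exact rangeOK_sound _ _ rows_2_4 i (by omega) (by omega)
            · by_cases h36828 : i < 36828
              · exact rangeOK_sound _ _ rows_2_5 i (by omega) (by omega)
              · exact rangeOK_sound _ _ rows_2_6 i (by omega) (by omega)
        · by_cases h41943 : i < 41943
          · by_cases h39897 : i < 39897
            · by_cases h38874 : i < 38874
              · exact rangeOK_sound _ _ rows_2_7 i (by omega) (by omega)
              · exact rangeOK_sound _ _ rows_2_8 i (by omega) (by omega)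
            · by_cases h40920 : i < 40920
              · exact rangeOK_sound _ _ rows_2_9 i (by omega) (by omega)
              · exact rangeOK_sound _ _ rows_2_10 i (by omega) (by omega)
          · by_cases h43989 : i < 43989
            · by_cases h42966 : i < 42966
              · exact rangeOK_sound _ _ rows_2_11 i (by omega) (by omega)
              · exact rangeOK_sound _ _ rows_2_12 i (by omega) (by omega)
            · by_cases h45012 : i < 45012
              · exact rangeOK_sound _ _ rows_2_13 i (by omega) (by omega)
              · exact rangeOK_sound _ _ rows_2_14 i (by omega) (by omega)
      · by_cases h53196 : i < 53196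
        · by_cases h49104 : i < 49104
          · by_cases h47058 : i < 47058
            · exact rangeOK_sound _ _ rows_3_0 i (by omega) (by omega)
            · by_cases h48081 : i < 48081
              · exact rangeOK_sound _ _ rows_3_1 i (by omega) (by omega)
              · exact rangeOK_sound _ _ rows_3_2 i (by omega) (by omega)
          · by_cases h51150 : i < 51150
            · by_cases h50127 : i < 50127
              · exact rangeOK_sound _ _ rows_3_3 i (by omega) (by omega)
              · exact rangeOK_sound _ _ rows_3_4 i (by omega) (by omega)
            · by_cases h52173 : i < 52173
              · exact rangeOK_sound _ _ rows_3_5 i (by omega) (by omega)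
              · exact rangeOK_sound _ _ rows_3_6 i (by omega) (by omega)
        · by_cases h57288 : i < 57288
          · by_cases h55242 : i < 55242
            · by_cases h54219 : i < 54219
              · exact rangeOK_sound _ _ rows_3_7 i (by omega) (by omega)
              · exact rangeOK_sound _ _ rows_3_8 i (by omega) (by omega)
            · by_cases h56265 : i < 56265
              · exact rangeOK_sound _ _ rows_3_9 i (by omega) (by omega)
              · exact rangeOK_sound _ _ rows_3_10 i (by omega) (by omega)
          · by_cases h59334 : i < 59334
            · by_cases h58311 : i < 58311
              · exact rangeOK_sound _ _ rows_3_11 i (by omega) (by omega)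
              · exact rangeOK_sound _ _ rows_3_12 i (by omega) (by omega)
            · by_cases h60357 : i < 60357
              · exact rangeOK_sound _ _ rows_3_13 i (by omega) (by omega)
              · exact rangeOK_sound _ _ rows_3_14 i (by omega) (by omega)
  · by_cases h92070 : i < 92070
    · by_cases h76725 : i < 76725
      · by_cases h68541 : i < 68541
        · by_cases h64449 : i < 64449
          · by_cases h62403 : i < 62403
            · exact rangeOK_sound _ _ rows_4_0 i (by omega) (by omega)
            · by_cases h63426 : i < 63426
              · exact rangeOK_sound _ _ rows_4_1 i (by omega) (by omega)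
              · exact rangeOK_sound _ _ rows_4_2 i (by omega) (by omega)
          · by_cases h66495 : i < 66495
            · by_cases h65472 : i < 65472
              · exact rangeOK_sound _ _ rows_4_3 i (by omega) (by omega)
              · exact rangeOK_sound _ _ rows_4_4 i (by omega) (by omega)
            · by_cases h67518 : i < 67518
              · exact rangeOK_sound _ _ rows_4_5 i (by omega) (by omega)
              · exact rangeOK_sound _ _ rows_4_6 i (by omega) (by omega)
        · by_cases h72633 : i < 72633
          · by_cases h70587 : i < 70587
            · by_cases h69564 : i < 69564
              · exact rangeOK_sound _ _ rows_4_7 i (by omega) (by omega)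
              · exact rangeOK_sound _ _ rows_4_8 i (by omega) (by omega)
            · by_cases h71610 : i < 71610
              · exact rangeOK_sound _ _ rows_4_9 i (by omega) (by omega)
              · exact rangeOK_sound _ _ rows_4_10 i (by omega) (by omega)
          · by_cases h74679 : i < 74679
            · by_cases h73656 : i < 73656
              · exact rangeOK_sound _ _ rows_4_11 i (by omega) (by omega)
              · exact rangeOK_sound _ _ rows_4_12 i (by omega) (by omega)
            · by_cases h75702 : i < 75702
              · exact rangeOK_sound _ _ rows_4_13 i (by omega) (by omega)
              · exact rangeOK_sound _ _ rows_4_14 i (by omega) (by omega)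
      · by_cases h83886 : i < 83886
        · by_cases h79794 : i < 79794
          · by_cases h77748 : i < 77748
            · exact rangeOK_sound _ _ rows_5_0 i (by omega) (by omega)
            · by_cases h78771 : i < 78771
              · exact rangeOK_sound _ _ rows_5_1 i (by omega) (by omega)
              · exact rangeOK_sound _ _ rows_5_2 i (by omega) (by omega)
          · by_cases h81840 : i < 81840
            · by_cases h80817 : i < 80817
              · exact rangeOK_sound _ _ rows_5_3 i (by omega) (by omega)
              · exact rangeOK_sound _ _ rows_5_4 i (by omega) (by omega)
            · by_cases h82863 : i < 82863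
              · exact rangeOK_sound _ _ rows_5_5 i (by omega) (by omega)
              · exact rangeOK_sound _ _ rows_5_6 i (by omega) (by omega)
        · by_cases h87978 : i < 87978
          · by_cases h85932 : i < 85932
            · by_cases h84909 : i < 84909
              · exact rangeOK_sound _ _ rows_5_7 i (by omega) (by omega)
              · exact rangeOK_sound _ _ rows_5_8 i (by omega) (by omega)
            · by_cases h86955 : i < 86955
              · exact rangeOK_sound _ _ rows_5_9 i (by omega) (by omega)
              · exact rangeOK_sound _ _ rows_5_10 i (by omega) (by omega)
          · by_cases h90024 : i < 90024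
            · by_cases h89001 : i < 89001
              · exact rangeOK_sound _ _ rows_5_11 i (by omega) (by omega)
              · exact rangeOK_sound _ _ rows_5_12 i (by omega) (by omega)
            · by_cases h91047 : i < 91047
              · exact rangeOK_sound _ _ rows_5_13 i (by omega) (by omega)
              · exact rangeOK_sound _ _ rows_5_14 i (by omega) (by omega)
    · by_cases h107415 : i < 107415
      · by_cases h99231 : i < 99231
        · by_cases h95139 : i < 95139
          · by_cases h93093 : i < 93093
            · exact rangeOK_sound _ _ rows_6_0 i (by omega) (by omega)
            · by_cases h94116 : i < 94116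
              · exact rangeOK_sound _ _ rows_6_1 i (by omega) (by omega)
              · exact rangeOK_sound _ _ rows_6_2 i (by omega) (by omega)
          · by_cases h97185 : i < 97185
            · by_cases h96162 : i < 96162
              · exact rangeOK_sound _ _ rows_6_3 i (by omega) (by omega)
              · exact rangeOK_sound _ _ rows_6_4 i (by omega) (by omega)
            · by_cases h98208 : i < 98208
              · exact rangeOK_sound _ _ rows_6_5 i (by omega) (by omega)
              · exact rangeOK_sound _ _ rows_6_6 i (by omega) (by omega)
        · by_cases h103323 : i < 103323
          · by_cases h101277 : i < 101277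
            · by_cases h100254 : i < 100254
              · exact rangeOK_sound _ _ rows_6_7 i (by omega) (by omega)
              · exact rangeOK_sound _ _ rows_6_8 i (by omega) (by omega)
            · by_cases h102300 : i < 102300
              · exact rangeOK_sound _ _ rows_6_9 i (by omega) (by omega)
              · exact rangeOK_sound _ _ rows_6_10 i (by omega) (by omega)
          · by_cases h105369 : i < 105369
            · by_cases h104346 : i < 104346
              · exact rangeOK_sound _ _ rows_6_11 i (by omega) (by omega)
              · exact rangeOK_sound _ _ rows_6_12 i (by omega) (by omega)
            · by_cases h106392 : i < 106392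
              · exact rangeOK_sound _ _ rows_6_13 i (by omega) (by omega)
              · exact rangeOK_sound _ _ rows_6_14 i (by omega) (by omega)
      · by_cases h114576 : i < 114576
        · by_cases h110484 : i < 110484
          · by_cases h108438 : i < 108438
            · exact rangeOK_sound _ _ rows_7_0 i (by omega) (by omega)
            · by_cases h109461 : i < 109461
              · exact rangeOK_sound _ _ rows_7_1 i (by omega) (by omega)
              · exact rangeOK_sound _ _ rows_7_2 i (by omega) (by omega)
          · by_cases h112530 : i < 112530
            · by_cases h111507 : i < 111507
              · exact rangeOK_sound _ _ rows_7_3 i (by omega) (by omega)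
              · exact rangeOK_sound _ _ rows_7_4 i (by omega) (by omega)
            · by_cases h113553 : i < 113553
              · exact rangeOK_sound _ _ rows_7_5 i (by omega) (by omega)
              · exact rangeOK_sound _ _ rows_7_6 i (by omega) (by omega)
        · by_cases h118668 : i < 118668
          · by_cases h116622 : i < 116622
            · by_cases h115599 : i < 115599
              · exact rangeOK_sound _ _ rows_7_7 i (by omega) (by omega)
              · exact rangeOK_sound _ _ rows_7_8 i (by omega) (by omega)
            · by_cases h117645 : i < 117645
              · exact rangeOK_sound _ _ rows_7_9 i (by omega) (by omega)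
              · exact rangeOK_sound _ _ rows_7_10 i (by omega) (by omega)
          · by_cases h120714 : i < 120714
            · by_cases h119691 : i < 119691
              · exact rangeOK_sound _ _ rows_7_11 i (by omega) (by omega)
              · exact rangeOK_sound _ _ rows_7_12 i (by omega) (by omega)
            · by_cases h121737 : i < 121737
              · exact rangeOK_sound _ _ rows_7_13 i (by omega) (by omega)
              · exact rangeOK_sound _ _ rows_7_14 i (by omega) (by omega)

/-- The word of a rotated relator. -/
def rotW (s : ℕ × ℕ × Bool) : List ℕ :=
  (bif s.2.2 then (relW.getD s.1 []).reverse.map ivl else relW.getD s.1 []).rotate s.2.1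

/-- The comparison of the rotated relators with the stored codes. -/
noncomputable def rotChk : Bool :=
  Nat.beq rotS.length 174 && (List.range 174).all fun k =>
    Nat.beq (rcF k) (enc (rotW (rotS.getD k (0, 0, false)))) &&
      (rotW (rotS.getD k (0, 0, false))).all fun l => Nat.blt l 15

theorem rot_checked : rotChk = true := by decide +kernel

theorem links_checked : lksOK feF parF 195968 [(0, 0)] linksL = true := by decide +kernel

theorem seeds_checked :
    seedsL.all (fun s => sdOK feF rowF 195968 ((linksL.map fun L => (L.j, L.nj)).reverse ++ [(0, 0)]) s) = true := by
  decide +kernel

section
variable {G : Type*} [Group G]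

theorem wv_inv {im : ℕ → G} (hL : Letters im) (w : List ℕ) : wv im (w.reverse.map ivl) = (wv im w)⁻¹ := by
  rw [wv, wv, List.prod_inv_reverse, List.map_map, List.map_reverse, List.map_map]
  congr 2
  exact List.map_congr_left fun l _ => hL.1 l

variable {g a b c d e f : G}

theorem ONRels.rots (h : ONRels g a b c d e f) : RotsOK (lett g a b c d e f) rcF 174 := by
  intro k hk
  have hc := rot_checked
  simp only [rotChk, Bool.and_eq_true, List.all_eq_true, List.mem_range, Nat.beq_eq, Nat.blt, Nat.ble_eq] at hc
  obtain ⟨hc1, hc2⟩ := hc.2 k hk
  rw [hc1, cval_enc _ _ fun l hl => hc2 l hl]
  generalize rotS.getD k (0, 0, false) = s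
  have hr : wv (lett g a b c d e f) (relW.getD s.1 []) = 1 := by
    by_cases hs : s.1 < relW.length
    · rw [List.getD_eq_getElem _ _ hs]
      exact h.relW_one _ (List.getElem_mem hs)
    · rw [List.getD_eq_default _ _ (by omega)]
      rfl
  rw [rotW, List.map_rotate]
  refine List.prod_rotate_eq_one_of_prod_eq_one ?_ _
  obtain ⟨r, t, u⟩ := s
  cases u
  · exact hr
  · show wv (lett g a b c d e f) ((relW.getD r []).reverse.map ivl) = 1
    rw [wv_inv h.letters, hr, inv_one]

theorem ONRels.upper (h : ONRels g a b c d e f) {H : Subgroup G} (hH : ∀ l, 1 ≤ l → l ≤ 6 → lett g a b c d e f l ∈ H) :
    ∀ i x, i < 122760 → x < 8 →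
      tgt rowF i x < 122760 ∧ EdgeOK (lett g a b c d e f) rowF parF H i x := by
  have hF := factsA h.letters hH h.rots facts_all
  refine edges_ok h.letters hH h.rots ?_ rows_all
  intro i x hx hs
  have hlk := linked_of_lksOK h.letters hF linksL _ (linked_base (par := parF)) links_checked
  have hmem : ∃ s ∈ seedsL, s.i * 8 + s.x = i * 8 + x ∧ s.x < 8 := by
    simp only [seedF, Bool.or_eq_true, Nat.beq_eq] at hs
    simp only [seedsL, List.mem_cons, List.not_mem_nil, or_false, exists_eq_or_imp, exists_eq_left]
    omega
  obtain ⟨s, hs', he, hsx⟩ := hmem
  obtain ⟨rfl, rfl⟩ : s.i = i ∧ s.x = x := ⟨by omega, by omega⟩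
  exact seed_sound h.letters hF hlk (List.all_eq_true.1 seeds_checked s hs')

end

end Cfsg.Lib.ONPres
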