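import Cfsg.Agent.ONPres.RelPart0
import Cfsg.Agent.ONPres.RelPart1
import Cfsg.Agent.ONPres.RelPart2
import Cfsg.Agent.ONPres.RelPart3
import Cfsg.Agent.ONPres.RelPart4
import Cfsg.Agent.ONPres.RelPart5
import Cfsg.Agent.ONPres.RelPart6
import Cfsg.Agent.ONPres.RelPart7
import Cfsg.Agent.ONPres.Upper

/-!
The coset table of the presented O'Nan group is a permutation representation of the presented group.
-/

set_option autoImplicit false

namespace Cfsg.Lib.ONPres

open MulOpposite

theorem rels_all : ∀ i, i < 122760 → rel1 i = true := by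
  intro i hi
  by_cases h61380 : i < 61380
  · by_cases h30690 : i < 30690
    · by_cases h15345 : i < 15345
      · by_cases h7161 : i < 7161
        · by_cases h3069 : i < 3069
          · by_cases h1023 : i < 1023
            · exact rangeOK_sound _ _ rel_0_0 i (by omega) (by omega)
            · by_cases h2046 : i < 2046
              · exact rangeOK_sound _ _ rel_0_1 i (by omega) (by omega)
              · exact rangeOK_sound _ _ rel_0_2 i (by omega) (by omega)
          · by_cases h5115 : i < 5115
            · by_cases h4092 : i < 4092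
              · exact rangeOK_sound _ _ rel_0_3 i (by omega) (by omega)
              · exact rangeOK_sound _ _ rel_0_4 i (by omega) (by omega)
            · by_cases h6138 : i < 6138
              · exact rangeOK_sound _ _ rel_0_5 i (by omega) (by omega)
              · exact rangeOK_sound _ _ rel_0_6 i (by omega) (by omega)
        · by_cases h11253 : i < 11253
          · by_cases h9207 : i < 9207
            · by_cases h8184 : i < 8184
              · exact rangeOK_sound _ _ rel_0_7 i (by omega) (by omega)
              · exact rangeOK_sound _ _ rel_0_8 i (by omega) (by omega)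
            · by_cases h10230 : i < 10230
              · exact rangeOK_sound _ _ rel_0_9 i (by omega) (by omega)
              · exact rangeOK_sound _ _ rel_0_10 i (by omega) (by omega)
          · by_cases h13299 : i < 13299
            · by_cases h12276 : i < 12276
              · exact rangeOK_sound _ _ rel_0_11 i (by omega) (by omega)
              · exact rangeOK_sound _ _ rel_0_12 i (by omega) (by omega)
            · by_cases h14322 : i < 14322
              · exact rangeOK_sound _ _ rel_0_13 i (by omega) (by omega)
              · exact rangeOK_sound _ _ rel_0_14 i (by omega) (by omega)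
      · by_cases h22506 : i < 22506
        · by_cases h18414 : i < 18414
          · by_cases h16368 : i < 16368
            · exact rangeOK_sound _ _ rel_1_0 i (by omega) (by omega)
            · by_cases h17391 : i < 17391
              · exact rangeOK_sound _ _ rel_1_1 i (by omega) (by omega)
              · exact rangeOK_sound _ _ rel_1_2 i (by omega) (by omega)
          · by_cases h20460 : i < 20460
            · by_cases h19437 : i < 19437
              · exact rangeOK_sound _ _ rel_1_3 i (by omega) (by omega)
              · exact rangeOK_sound _ _ rel_1_4 i (by omega) (by omega)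
            · by_cases h21483 : i < 21483
              · exact rangeOK_sound _ _ rel_1_5 i (by omega) (by omega)
              · exact rangeOK_sound _ _ rel_1_6 i (by omega) (by omega)
        · by_cases h26598 : i < 26598
          · by_cases h24552 : i < 24552
            · by_cases h23529 : i < 23529
              · exact rangeOK_sound _ _ rel_1_7 i (by omega) (by omega)
              · exact rangeOK_sound _ _ rel_1_8 i (by omega) (by omega)
            · by_cases h25575 : i < 25575
              · exact rangeOK_sound _ _ rel_1_9 i (by omega) (by omega)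
              · exact rangeOK_sound _ _ rel_1_10 i (by omega) (by omega)
          · by_cases h28644 : i < 28644
            · by_cases h27621 : i < 27621
              · exact rangeOK_sound _ _ rel_1_11 i (by omega) (by omega)
              · exact rangeOK_sound _ _ rel_1_12 i (by omega) (by omega)
            · by_cases h29667 : i < 29667
              · exact rangeOK_sound _ _ rel_1_13 i (by omega) (by omega)
              · exact rangeOK_sound _ _ rel_1_14 i (by omega) (by omega)
    · by_cases h46035 : i < 46035
      · by_cases h37851 : i < 37851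
        · by_cases h33759 : i < 33759
          · by_cases h31713 : i < 31713
            · exact rangeOK_sound _ _ rel_2_0 i (by omega) (by omega)
            · by_cases h32736 : i < 32736
              · exact rangeOK_sound _ _ rel_2_1 i (by omega) (by omega)
              · exact rangeOK_sound _ _ rel_2_2 i (by omega) (by omega)
          · by_cases h35805 : i < 35805
            · by_cases h34782 : i < 34782
              · exact rangeOK_sound _ _ rel_2_3 i (by omega) (by omega)
              · exact rangeOK_sound _ _ rel_2_4 i (by omega) (by omega)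
            · by_cases h36828 : i < 36828
              · exact rangeOK_sound _ _ rel_2_5 i (by omega) (by omega)
              · exact rangeOK_sound _ _ rel_2_6 i (by omega) (by omega)
        · by_cases h41943 : i < 41943
          · by_cases h39897 : i < 39897
            · by_cases h38874 : i < 38874
              · exact rangeOK_sound _ _ rel_2_7 i (by omega) (by omega)
              · exact rangeOK_sound _ _ rel_2_8 i (by omega) (by omega)
            · by_cases h40920 : i < 40920
              · exact rangeOK_sound _ _ rel_2_9 i (by omega) (by omega)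
              · exact rangeOK_sound _ _ rel_2_10 i (by omega) (by omega)
          · by_cases h43989 : i < 43989
            · by_cases h42966 : i < 42966
              · exact rangeOK_sound _ _ rel_2_11 i (by omega) (by omega)
              · exact rangeOK_sound _ _ rel_2_12 i (by omega) (by omega)
            · by_cases h45012 : i < 45012
              · exact rangeOK_sound _ _ rel_2_13 i (by omega) (by omega)
              · exact rangeOK_sound _ _ rel_2_14 i (by omega) (by omega)
      · by_cases h53196 : i < 53196
        · by_cases h49104 : i < 49104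
          · by_cases h47058 : i < 47058
            · exact rangeOK_sound _ _ rel_3_0 i (by omega) (by omega)
            · by_cases h48081 : i < 48081
              · exact rangeOK_sound _ _ rel_3_1 i (by omega) (by omega)
              · exact rangeOK_sound _ _ rel_3_2 i (by omega) (by omega)
          · by_cases h51150 : i < 51150
            · by_cases h50127 : i < 50127
              · exact rangeOK_sound _ _ rel_3_3 i (by omega) (by omega)
              · exact rangeOK_sound _ _ rel_3_4 i (by omega) (by omega)
            · by_cases h52173 : i < 52173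
              · exact rangeOK_sound _ _ rel_3_5 i (by omega) (by omega)
              · exact rangeOK_sound _ _ rel_3_6 i (by omega) (by omega)
        · by_cases h57288 : i < 57288
          · by_cases h55242 : i < 55242
            · by_cases h54219 : i < 54219
              · exact rangeOK_sound _ _ rel_3_7 i (by omega) (by omega)
              · exact rangeOK_sound _ _ rel_3_8 i (by omega) (by omega)
            · by_cases h56265 : i < 56265
              · exact rangeOK_sound _ _ rel_3_9 i (by omega) (by omega)
              · exact rangeOK_sound _ _ rel_3_10 i (by omega) (by omega)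
          · by_cases h59334 : i < 59334
            · by_cases h58311 : i < 58311
              · exact rangeOK_sound _ _ rel_3_11 i (by omega) (by omega)
              · exact rangeOK_sound _ _ rel_3_12 i (by omega) (by omega)
            · by_cases h60357 : i < 60357
              · exact rangeOK_sound _ _ rel_3_13 i (by omega) (by omega)
              · exact rangeOK_sound _ _ rel_3_14 i (by omega) (by omega)
  · by_cases h92070 : i < 92070
    · by_cases h76725 : i < 76725
      · by_cases h68541 : i < 68541
        · by_cases h64449 : i < 64449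
          · by_cases h62403 : i < 62403
            · exact rangeOK_sound _ _ rel_4_0 i (by omega) (by omega)
            · by_cases h63426 : i < 63426
              · exact rangeOK_sound _ _ rel_4_1 i (by omega) (by omega)
              · exact rangeOK_sound _ _ rel_4_2 i (by omega) (by omega)
          · by_cases h66495 : i < 66495
            · by_cases h65472 : i < 65472
              · exact rangeOK_sound _ _ rel_4_3 i (by omega) (by omega)
              · exact rangeOK_sound _ _ rel_4_4 i (by omega) (by omega)
            · by_cases h67518 : i < 67518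
              · exact rangeOK_sound _ _ rel_4_5 i (by omega) (by omega)
              · exact rangeOK_sound _ _ rel_4_6 i (by omega) (by omega)
        · by_cases h72633 : i < 72633
          · by_cases h70587 : i < 70587
            · by_cases h69564 : i < 69564
              · exact rangeOK_sound _ _ rel_4_7 i (by omega) (by omega)
              · exact rangeOK_sound _ _ rel_4_8 i (by omega) (by omega)
            · by_cases h71610 : i < 71610
              · exact rangeOK_sound _ _ rel_4_9 i (by omega) (by omega)
              · exact rangeOK_sound _ _ rel_4_10 i (by omega) (by omega)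
          · by_cases h74679 : i < 74679
            · by_cases h73656 : i < 73656
              · exact rangeOK_sound _ _ rel_4_11 i (by omega) (by omega)
              · exact rangeOK_sound _ _ rel_4_12 i (by omega) (by omega)
            · by_cases h75702 : i < 75702
              · exact rangeOK_sound _ _ rel_4_13 i (by omega) (by omega)
              · exact rangeOK_sound _ _ rel_4_14 i (by omega) (by omega)
      · by_cases h83886 : i < 83886
        · by_cases h79794 : i < 79794
          · by_cases h77748 : i < 77748
            · exact rangeOK_sound _ _ rel_5_0 i (by omega) (by omega)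
            · by_cases h78771 : i < 78771
              · exact rangeOK_sound _ _ rel_5_1 i (by omega) (by omega)
              · exact rangeOK_sound _ _ rel_5_2 i (by omega) (by omega)
          · by_cases h81840 : i < 81840
            · by_cases h80817 : i < 80817
              · exact rangeOK_sound _ _ rel_5_3 i (by omega) (by omega)
              · exact rangeOK_sound _ _ rel_5_4 i (by omega) (by omega)
            · by_cases h82863 : i < 82863
              · exact rangeOK_sound _ _ rel_5_5 i (by omega) (by omega)
              · exact rangeOK_sound _ _ rel_5_6 i (by omega) (by omega)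
        · by_cases h87978 : i < 87978
          · by_cases h85932 : i < 85932
            · by_cases h84909 : i < 84909
              · exact rangeOK_sound _ _ rel_5_7 i (by omega) (by omega)
              · exact rangeOK_sound _ _ rel_5_8 i (by omega) (by omega)
            · by_cases h86955 : i < 86955
              · exact rangeOK_sound _ _ rel_5_9 i (by omega) (by omega)
              · exact rangeOK_sound _ _ rel_5_10 i (by omega) (by omega)
          · by_cases h90024 : i < 90024
            · by_cases h89001 : i < 89001
              · exact rangeOK_sound _ _ rel_5_11 i (by omega) (by omega)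
              · exact rangeOK_sound _ _ rel_5_12 i (by omega) (by omega)
            · by_cases h91047 : i < 91047
              · exact rangeOK_sound _ _ rel_5_13 i (by omega) (by omega)
              · exact rangeOK_sound _ _ rel_5_14 i (by omega) (by omega)
    · by_cases h107415 : i < 107415
      · by_cases h99231 : i < 99231
        · by_cases h95139 : i < 95139
          · by_cases h93093 : i < 93093
            · exact rangeOK_sound _ _ rel_6_0 i (by omega) (by omega)
            · by_cases h94116 : i < 94116
              · exact rangeOK_sound _ _ rel_6_1 i (by omega) (by omega)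
              · exact rangeOK_sound _ _ rel_6_2 i (by omega) (by omega)
          · by_cases h97185 : i < 97185
            · by_cases h96162 : i < 96162
              · exact rangeOK_sound _ _ rel_6_3 i (by omega) (by omega)
              · exact rangeOK_sound _ _ rel_6_4 i (by omega) (by omega)
            · by_cases h98208 : i < 98208
              · exact rangeOK_sound _ _ rel_6_5 i (by omega) (by omega)
              · exact rangeOK_sound _ _ rel_6_6 i (by omega) (by omega)
        · by_cases h103323 : i < 103323
          · by_cases h101277 : i < 101277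
            · by_cases h100254 : i < 100254
              · exact rangeOK_sound _ _ rel_6_7 i (by omega) (by omega)
              · exact rangeOK_sound _ _ rel_6_8 i (by omega) (by omega)
            · by_cases h102300 : i < 102300
              · exact rangeOK_sound _ _ rel_6_9 i (by omega) (by omega)
              · exact rangeOK_sound _ _ rel_6_10 i (by omega) (by omega)
          · by_cases h105369 : i < 105369
            · by_cases h104346 : i < 104346
              · exact rangeOK_sound _ _ rel_6_11 i (by omega) (by omega)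
              · exact rangeOK_sound _ _ rel_6_12 i (by omega) (by omega)
            · by_cases h106392 : i < 106392
              · exact rangeOK_sound _ _ rel_6_13 i (by omega) (by omega)
              · exact rangeOK_sound _ _ rel_6_14 i (by omega) (by omega)
      · by_cases h114576 : i < 114576
        · by_cases h110484 : i < 110484
          · by_cases h108438 : i < 108438
            · exact rangeOK_sound _ _ rel_7_0 i (by omega) (by omega)
            · by_cases h109461 : i < 109461
              · exact rangeOK_sound _ _ rel_7_1 i (by omega) (by omega)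
              · exact rangeOK_sound _ _ rel_7_2 i (by omega) (by omega)
          · by_cases h112530 : i < 112530
            · by_cases h111507 : i < 111507
              · exact rangeOK_sound _ _ rel_7_3 i (by omega) (by omega)
              · exact rangeOK_sound _ _ rel_7_4 i (by omega) (by omega)
            · by_cases h113553 : i < 113553
              · exact rangeOK_sound _ _ rel_7_5 i (by omega) (by omega)
              · exact rangeOK_sound _ _ rel_7_6 i (by omega) (by omega)
        · by_cases h118668 : i < 118668
          · by_cases h116622 : i < 116622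
            · by_cases h115599 : i < 115599
              · exact rangeOK_sound _ _ rel_7_7 i (by omega) (by omega)
              · exact rangeOK_sound _ _ rel_7_8 i (by omega) (by omega)
            · by_cases h117645 : i < 117645
              · exact rangeOK_sound _ _ rel_7_9 i (by omega) (by omega)
              · exact rangeOK_sound _ _ rel_7_10 i (by omega) (by omega)
          · by_cases h120714 : i < 120714
            · by_cases h119691 : i < 119691
              · exact rangeOK_sound _ _ rel_7_11 i (by omega) (by omega)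
              · exact rangeOK_sound _ _ rel_7_12 i (by omega) (by omega)
            · by_cases h121737 : i < 121737
              · exact rangeOK_sound _ _ rel_7_13 i (by omega) (by omega)
              · exact rangeOK_sound _ _ rel_7_14 i (by omega) (by omega)

theorem tgt_lt {i : ℕ} (hi : i < 122760) {x : ℕ} (hx : x < 8) : tgt rowF i x < 122760 := by
  have h := keyOK_of_rowOK (rows_all i hi) hx
  simp only [keyOK, force_eq, Bool.and_eq_true, Nat.blt, Nat.ble_eq] at h
  exact h.1

/-- Everything `rel1` says at one coset. -/
theorem rt_row (j x : ℕ) : rt (rowF j) x = tgt rowF j x := rfl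

theorem axf_cm (j k : ℕ) : axf (auxF j) k = cm j k := rfl

attribute [local irreducible] rowF auxF parF feF pnF rcF

set_option maxRecDepth 4000 in
theorem rel1_facts {i : ℕ} (hi : i < 122760) :
    (∀ x < 8, tgt rowF (tgt rowF i x) (ivl x) = i) ∧
    (tgt rowF (tgt rowF i 1) 3 = tgt rowF (tgt rowF i 3) 1 ∧ tgt rowF (tgt rowF i 1) 4 = tgt rowF (tgt rowF i 4) 1 ∧ tgt rowF (tgt rowF i 1) 5 = tgt rowF (tgt rowF i 5) 1 ∧ tgt rowF (tgt rowF i 1) 6 = tgt rowF (tgt rowF i 6) 1 ∧
      tgt rowF (tgt rowF i 2) 4 = tgt rowF (tgt rowF i 4) 2 ∧ tgt rowF (tgt rowF i 2) 5 = tgt rowF (tgt rowF i 5) 2 ∧ tgt rowF (tgt rowF i 2) 6 = tgt rowF (tgt rowF i 6) 2 ∧ tgt rowF (tgt rowF i 3) 5 = tgt rowF (tgt rowF i 5) 3 ∧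
      tgt rowF (tgt rowF i 3) 6 = tgt rowF (tgt rowF i 6) 3 ∧ tgt rowF (tgt rowF i 4) 6 = tgt rowF (tgt rowF i 6) 4) ∧
    (tgt rowF (tgt rowF (tgt rowF i 1) 2) 1 = tgt rowF (tgt rowF (tgt rowF i 2) 1) 2 ∧ tgt rowF (tgt rowF (tgt rowF i 2) 3) 2 = tgt rowF (tgt rowF (tgt rowF i 3) 2) 3 ∧
      tgt rowF (tgt rowF (tgt rowF i 4) 5) 4 = tgt rowF (tgt rowF (tgt rowF i 5) 4) 5 ∧ tgt rowF (tgt rowF (tgt rowF i 5) 6) 5 = tgt rowF (tgt rowF (tgt rowF i 6) 5) 6) ∧
    tgt rowF (tgt rowF i 0) 0 = tgt rowF (tgt rowF i 1) 6 ∧
    (cm i 0 = tgt rowF (tgt rowF i 3) 4 ∧ cm i 1 = cm (cm i 0) 0 ∧ cm (cm i 1) 1 = tgt rowF (tgt rowF i 1) 6) ∧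
    (cm i 2 = tgt rowF (tgt rowF i 4) 0 ∧ cm i 3 = cm (cm i 2) 2 ∧ cm (tgt rowF i 3) 3 = tgt rowF (cm i 3) 3) ∧
    (cm i 4 = tgt rowF (tgt rowF i 3) 0 ∧ cm i 5 = cm (cm i 4) 4 ∧ cm (tgt rowF i 4) 5 = tgt rowF (cm i 5) 4) ∧
    (cm i 6 = tgt rowF (tgt rowF (tgt rowF (tgt rowF i 2) 3) 4) 0 ∧ cm i 7 = cm (cm i 6) 6 ∧ cm (cm (cm i 6) 7) 7 = i) ∧
    (cm i 8 = tgt rowF (tgt rowF (tgt rowF i 3) 0) 3 ∧ cm i 9 = tgt rowF (tgt rowF (tgt rowF i 2) 0) 2 ∧ cm i 10 = tgt rowF (tgt rowF (tgt rowF i 4) 0) 4 ∧
      cm i 11 = tgt rowF (tgt rowF (tgt rowF i 5) 0) 5) ∧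
    cm (cm (cm (tgt rowF (tgt rowF i 0) 2) 8) 9) 8 = i ∧ cm (cm (cm (tgt rowF (tgt rowF i 0) 5) 10) 11) 10 = i := by
  have h := rels_all i hi
  simp only [rel1, force_eq, Bool.and_eq_true, Nat.beq_eq, rt_row, axf_cm] at h
  simp only [and_assoc] at h
  obtain ⟨v0, v1, v2, v3, v4, v5, v6, v7, k13, k14, k15, k16, k24, k25, k26, k35, k36, k46, b12, b23, b45, b56, gg,
    p0, p1, p2, d0, d1, c0, c1, cd3, cd4, q0, q1, q2, K, L, M, N, R6, R7⟩ := h
  refine ⟨fun x hx => ?_, ⟨k13, k14, k15, k16, k24, k25, k26, k35, k36, k46⟩, ⟨b12, b23, b45, b56⟩, gg,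
    ⟨p0, p1, p2⟩, ⟨d0, d1, cd3⟩, ⟨c0, c1, cd4⟩, ⟨q0, q1, q2⟩, ⟨K, L, M, N⟩, R6, R7⟩
  interval_cases x
  exacts [v0, v1, v2, v3, v4, v5, v6, v7]

/-- The permutation of a letter. -/
noncomputable def sig (x : Fin 8) : Equiv.Perm (Fin 122760) where
  toFun i := ⟨tgt rowF i x, tgt_lt i.2 x.2⟩
  invFun i := ⟨tgt rowF i (ivl x), tgt_lt i.2 (by revert x; decide)⟩
  left_inv i := Fin.ext ((rel1_facts i.2).1 x x.2)
  right_inv i := Fin.ext (by
    have hy : ∀ y : Fin 8, ivl (y : ℕ) < 8 ∧ ivl (ivl (y : ℕ)) = y := by decide
    have := (rel1_facts i.2).1 (ivl x) (hy x).1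
    rwa [(hy x).2] at this)

/-- The opposite group of permutations of the cosets: products act from left to right. -/
abbrev RPerm : Type := (Equiv.Perm (Fin 122760))ᵐᵒᵖ

/-- An element acts as a function on numbers. -/
def Acts (m : RPerm) (f : ℕ → ℕ) : Prop := ∀ i : Fin 122760, (m.unop i : ℕ) = f i

theorem Acts.mul {m m' : RPerm} {f f' : ℕ → ℕ} (h : Acts m f) (h' : Acts m' f') :
    Acts (m * m') (fun i => f' (f i)) := fun i => by
  rw [unop_mul, Equiv.Perm.mul_apply, h', h i]

theorem acts_one : Acts 1 (fun i => i) := fun _ => rfl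

theorem Acts.ext {m m' : RPerm} {f f' : ℕ → ℕ} (h : Acts m f) (h' : Acts m' f')
    (he : ∀ i, i < 122760 → f i = f' i) : m = m' :=
  unop_injective (Equiv.ext fun i => Fin.ext (by rw [h i, h' i, he i i.2]))

/-- The image of a letter. -/
noncomputable def sop (x : Fin 8) : RPerm := op (sig x)

theorem acts_sop (x : Fin 8) : Acts (sop x) (fun i => tgt rowF i x) := fun _ => rfl

theorem sop_inv (x y : Fin 8) (h : (y : ℕ) = ivl x) : (sop x)⁻¹ = sop y := by
  apply inv_eq_of_mul_eq_one_right
  refine ((acts_sop x).mul (acts_sop y)).ext acts_one fun i hi => ?_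
  simp only [h]
  exact (rel1_facts hi).1 x x.2

section algebra
variable {G : Type*} [Group G] {x y : G}

theorem sq_of_comm (hx : x * x = 1) (hy : y * y = 1) (h : x * y = y * x) : (x * y) ^ 2 = 1 := by
  rw [pow_two, mul_assoc, ← mul_assoc y x y, ← h, mul_assoc x y y, hy, mul_one, hx]

theorem cube_of_braid (hx : x * x = 1) (hy : y * y = 1) (h : x * y * x = y * x * y) : (x * y) ^ 3 = 1 := by
  calc (x * y) ^ 3 = (x * y * x) * (y * x * y) := by simp [pow_succ, mul_assoc]
    _ = (y * x * y) * (y * x * y) := by rw [h]
    _ = y * (x * (y * y) * x) * y := by simp [mul_assoc]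
    _ = 1 := by rw [hy, mul_one, hx, mul_one, hy]

end algebra

theorem sop_sq (x : Fin 8) (h : ivl x = (x : ℕ)) : sop x * sop x = 1 := by
  have := sop_inv x x h.symm
  exact inv_eq_iff_mul_eq_one.1 this

theorem sop_comm {x y : Fin 8} (h : ∀ i, i < 122760 → tgt rowF (tgt rowF i x) y = tgt rowF (tgt rowF i y) x) :
    sop x * sop y = sop y * sop x :=
  ((acts_sop x).mul (acts_sop y)).ext ((acts_sop y).mul (acts_sop x)) h

theorem sop_braid {x y : Fin 8}
    (h : ∀ i, i < 122760 → tgt rowF (tgt rowF (tgt rowF i x) y) x = tgt rowF (tgt rowF (tgt rowF i y) x) y) :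
    sop x * sop y * sop x = sop y * sop x * sop y :=
  (((acts_sop x).mul (acts_sop y)).mul (acts_sop x)).ext (((acts_sop y).mul (acts_sop x)).mul (acts_sop y)) h

theorem perm_rels : ONRels (sop 0) (sop 1) (sop 2) (sop 3) (sop 4) (sop 5) (sop 6) := by
  have F := fun {i : ℕ} (hi : i < 122760) => rel1_facts hi
  have cl : ∀ {i : ℕ}, i < 122760 → ∀ x < 8, tgt rowF i x < 122760 := fun hi _ hx => tgt_lt hi hx
  have sq := fun (x : Fin 8) (h : ivl x = (x : ℕ)) => sop_sq x h
  have hgg : sop 1 * sop 6 = sop 0 * sop 0 :=
    ((acts_sop 1).mul (acts_sop 6)).ext ((acts_sop 0).mul (acts_sop 0)) fun i hi => (F hi).2.2.2.1.symm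
  have haf : (sop 1 * sop 6) ^ 2 = 1 :=
    sq_of_comm (sq 1 rfl) (sq 6 rfl) (sop_comm fun i hi => (F hi).2.1.2.2.2.1)
  have hcd4 : sop 1 * sop 6 = (sop 3 * sop 4) ^ 4 := by
    have h2 := ((acts_sop 3).mul (acts_sop 4))
    rw [show (sop 3 * sop 4) ^ 4 = (sop 3 * sop 4) * (sop 3 * sop 4) * ((sop 3 * sop 4) * (sop 3 * sop 4)) by
      simp [pow_succ, mul_assoc]]
    refine ((acts_sop 1).mul (acts_sop 6)).ext ((h2.mul h2).mul (h2.mul h2)) fun i hi => ?_
    obtain ⟨a0, a1, a2⟩ := (F hi).2.2.2.2.1
    have hj : cm i 1 < 122760 := by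
      rw [a1, a0]; rw [((F (cl (cl hi _ (by norm_num)) _ (by norm_num))).2.2.2.2.1).1]
      exact cl (cl (cl (cl hi _ (by norm_num)) _ (by norm_num)) _ (by norm_num)) _ (by norm_num)
    obtain ⟨b0, b1, -⟩ := (F hj).2.2.2.2.1
    have e : ∀ {j : ℕ}, j < 122760 → cm j 1 = tgt rowF (tgt rowF (tgt rowF (tgt rowF j 3) 4) 3) 4 := by
      intro j hj
      obtain ⟨c0, c1, -⟩ := (F hj).2.2.2.2.1
      rw [c1, c0, ((F (cl (cl hj _ (by norm_num)) _ (by norm_num))).2.2.2.2.1).1]
    exact a2.symm.trans ((e hj).trans (by rw [e hi]; rfl))
  have hD : Acts (sop 4 * sop 0 * sop 4 * sop 0) (fun i => cm i 3) := fun i => by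
    rw [(((acts_sop 4).mul (acts_sop 0)).mul (acts_sop 4)).mul (acts_sop 0) i]
    obtain ⟨c0, c1, -⟩ := (F i.2).2.2.2.2.2.1
    dsimp only
    rw [c1, c0, ((F (cl (cl i.2 _ (by norm_num)) _ (by norm_num))).2.2.2.2.2.1).1]
    rfl
  have hC : Acts (sop 3 * sop 0 * sop 3 * sop 0) (fun i => cm i 5) := fun i => by
    rw [(((acts_sop 3).mul (acts_sop 0)).mul (acts_sop 3)).mul (acts_sop 0) i]
    obtain ⟨c0, c1, -⟩ := (F i.2).2.2.2.2.2.2.1
    dsimp only
    rw [c1, c0, ((F (cl (cl i.2 _ (by norm_num)) _ (by norm_num))).2.2.2.2.2.2.1).1]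
    rfl
  have hB : Acts (sop 2 * sop 3 * sop 4 * sop 0) (fun i => cm i 6) := fun i => by
    rw [(((acts_sop 2).mul (acts_sop 3)).mul (acts_sop 4)).mul (acts_sop 0) i]
    exact ((F i.2).2.2.2.2.2.2.2.1).1.symm
  have tri : ∀ (u : Fin 8) (k : ℕ), (∀ {i : ℕ}, i < 122760 → cm i k = tgt rowF (tgt rowF (tgt rowF i u) 0) u) →
      Acts (sop u * sop 0 * sop u) (fun i => cm i k) := fun u k h i => by
    rw [((acts_sop u).mul (acts_sop 0)).mul (acts_sop u) i]
    exact (h i.2).symm
  have hK := tri 3 8 fun hi => ((F hi).2.2.2.2.2.2.2.2.1).1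
  have hL := tri 2 9 fun hi => ((F hi).2.2.2.2.2.2.2.2.1).2.1
  have hM := tri 4 10 fun hi => ((F hi).2.2.2.2.2.2.2.2.1).2.2.1
  have hN := tri 5 11 fun hi => ((F hi).2.2.2.2.2.2.2.2.1).2.2.2
  have comm := fun {x y : Fin 8} (hx : ivl x = (x : ℕ)) (hy : ivl y = (y : ℕ)) h =>
    sq_of_comm (sq x hx) (sq y hy) (sop_comm (x := x) (y := y) h)
  have braid := fun {x y : Fin 8} (hx : ivl x = (x : ℕ)) (hy : ivl y = (y : ℕ)) h =>
    cube_of_braid (sq x hx) (sq y hy) (sop_braid (x := x) (y := y) h)
  refine ⟨sq 1 rfl, sq 2 rfl, sq 3 rfl, sq 4 rfl, sq 5 rfl, sq 6 rfl,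
    braid rfl rfl fun i hi => (F hi).2.2.1.1,
    comm rfl rfl fun i hi => (F hi).2.1.1, comm rfl rfl fun i hi => (F hi).2.1.2.1,
    comm rfl rfl fun i hi => (F hi).2.1.2.2.1, haf,
    braid rfl rfl fun i hi => (F hi).2.2.1.2.1,
    comm rfl rfl fun i hi => (F hi).2.1.2.2.2.2.1, comm rfl rfl fun i hi => (F hi).2.1.2.2.2.2.2.1,
    comm rfl rfl fun i hi => (F hi).2.1.2.2.2.2.2.2.1, ?_,
    comm rfl rfl fun i hi => (F hi).2.1.2.2.2.2.2.2.2.1, comm rfl rfl fun i hi => (F hi).2.1.2.2.2.2.2.2.2.2.1,
    braid rfl rfl fun i hi => (F hi).2.2.1.2.2.1,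
    comm rfl rfl fun i hi => (F hi).2.1.2.2.2.2.2.2.2.2.2,
    braid rfl rfl fun i hi => (F hi).2.2.1.2.2.2,
    by rw [pow_two]; exact hgg, hcd4, ?_, ?_, ?_, ?_, ?_⟩
  · rw [show (sop 3 * sop 4) ^ 8 = ((sop 3 * sop 4) ^ 4) ^ 2 by rw [← pow_mul], ← hcd4, haf]
  · have hc : sop 3 * (sop 4 * sop 0 * sop 4 * sop 0) = sop 4 * sop 0 * sop 4 * sop 0 * sop 3 :=
      ((acts_sop 3).mul hD).ext (hD.mul (acts_sop 3)) fun i hi => (F hi).2.2.2.2.2.1.2.2
    rw [mul_assoc _ (sop 3), hc, inv_mul_cancel_left, sq 3 rfl]
  · have hc : sop 4 * (sop 3 * sop 0 * sop 3 * sop 0) = sop 3 * sop 0 * sop 3 * sop 0 * sop 4 :=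
      ((acts_sop 4).mul hC).ext (hC.mul (acts_sop 4)) fun i hi => (F hi).2.2.2.2.2.2.1.2.2
    rw [mul_assoc _ (sop 4), hc, inv_mul_cancel_left, sq 4 rfl]
  · rw [show (sop 2 * sop 3 * sop 4 * sop 0) ^ 5 = (sop 2 * sop 3 * sop 4 * sop 0) *
        ((sop 2 * sop 3 * sop 4 * sop 0) * (sop 2 * sop 3 * sop 4 * sop 0)) *
        ((sop 2 * sop 3 * sop 4 * sop 0) * (sop 2 * sop 3 * sop 4 * sop 0)) by simp [pow_succ, mul_assoc]]
    refine ((hB.mul (hB.mul hB)).mul (hB.mul hB)).ext acts_one fun i hi => ?_
    obtain ⟨b0, -, b2⟩ := (F hi).2.2.2.2.2.2.2.1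
    have hb : ∀ {j : ℕ}, j < 122760 → cm j 6 < 122760 := fun hj => by
      rw [((F hj).2.2.2.2.2.2.2.1).1]
      exact cl (cl (cl (cl hj _ (by norm_num)) _ (by norm_num)) _ (by norm_num)) _ (by norm_num)
    have e : ∀ {j : ℕ}, j < 122760 → cm j 7 = cm (cm j 6) 6 := fun hj => ((F hj).2.2.2.2.2.2.2.1).2.1
    rw [e (hb hi), e (hb (hb (hb hi)))] at b2
    exact b2
  · rw [show (sop 3)⁻¹ = sop 3 from sop_inv 3 3 rfl, show (sop 2)⁻¹ = sop 2 from sop_inv 2 2 rfl]
    exact (((((acts_sop 0).mul (acts_sop 2)).mul hK).mul hL).mul hK).ext acts_one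
      fun i hi => (F hi).2.2.2.2.2.2.2.2.2.1
  · rw [show (sop 4)⁻¹ = sop 4 from sop_inv 4 4 rfl, show (sop 5)⁻¹ = sop 5 from sop_inv 5 5 rfl]
    exact (((((acts_sop 0).mul (acts_sop 5)).mul hM).mul hN).mul hM).ext acts_one
      fun i hi => (F hi).2.2.2.2.2.2.2.2.2.2

/-- The generators as letters of the table. -/
def genIdx : Cfsg.Spor.ON.Gen → Fin 8
  | .g => 0
  | .a => 1
  | .b => 2
  | .c => 3
  | .d => 4
  | .e => 5
  | .f => 6

attribute [local irreducible] sop in
theorem perm_good : ∀ r ∈ Cfsg.Spor.coxRelators Cfsg.Spor.ON.edges ∪ {r | r ∈ Cfsg.Spor.ON.extra},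
    FreeGroup.lift (fun x => sop (genIdx x)) r = 1 := by
  have h := perm_rels
  have flip : ∀ {x y : RPerm} {k : ℕ}, (x * y) ^ k = 1 → x * x = 1 → y * y = 1 → (y * x) ^ k = 1 := by
    intro x y k hk hx hy
    rw [show y * x = (x * y)⁻¹ by rw [mul_inv_rev, inv_eq_of_mul_eq_one_left hx, inv_eq_of_mul_eq_one_left hy],
      inv_pow, hk, inv_one]
  rintro r (⟨x, hx, y, hy, rfl⟩ | hr)
  · simp only [map_pow, map_mul, FreeGroup.lift_apply_of]
    have hnode : ∀ z, z ∈ Cfsg.Spor.coxNodes Cfsg.Spor.ON.edges → z ≠ Cfsg.Spor.ON.Gen.g := by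
      intro z hz; cases z <;> first | exact absurd hz (by decide) | exact fun e => nomatch e
    have hx' := hnode x hx
    have hy' := hnode y hy
    cases x <;> cases y <;> first
      | exact absurd rfl hx'
      | exact absurd rfl hy'
      | exact (pow_one _).trans h.sa
      | exact (pow_one _).trans h.sb
      | exact (pow_one _).trans h.sc
      | exact (pow_one _).trans h.sd
      | exact (pow_one _).trans h.se
      | exact (pow_one _).trans h.sf
      | exact h.ab | exact h.ac | exact h.ad | exact h.ae | exact h.af | exact h.bc | exact h.bd | exact h.be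
      | exact h.bf | exact h.cd | exact h.ce | exact h.cf | exact h.de | exact h.df | exact h.ef
      | exact flip h.ab h.sa h.sb | exact flip h.ac h.sa h.sc | exact flip h.ad h.sa h.sd
      | exact flip h.ae h.sa h.se | exact flip h.af h.sa h.sf | exact flip h.bc h.sb h.sc
      | exact flip h.bd h.sb h.sd | exact flip h.be h.sb h.se | exact flip h.bf h.sb h.sf
      | exact flip h.cd h.sc h.sd | exact flip h.ce h.sc h.se | exact flip h.cf h.sc h.sf
      | exact flip h.de h.sd h.se | exact flip h.df h.sd h.sf | exact flip h.ef h.se h.sf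
  · simp only [Cfsg.Spor.ON.extra, Set.mem_setOf_eq, List.mem_cons, List.not_mem_nil, or_false] at hr
    rcases hr with rfl | rfl | rfl | rfl | rfl | rfl | rfl <;>
      simp only [map_mul, map_pow, map_inv, FreeGroup.lift_apply_of, genIdx]
    · rw [mul_inv_eq_one]; exact h.r1
    · rw [mul_inv_eq_one]; exact h.r2
    · exact h.r3
    · exact h.r4
    · exact h.r5
    · exact h.r6
    · exact h.r7

/-- The representation of the presented group on the cosets, acting on the left. -/
noncomputable def tabHom : Cfsg.Spor.ON →* Equiv.Perm (Fin 122760) :=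
  (MulEquiv.inv' (Equiv.Perm (Fin 122760))).symm.toMonoidHom.comp (PresentedGroup.toGroup perm_good)


end Cfsg.Lib.ONPres
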