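import Cfsg.Agent.ONPres.OuterCent
import Cfsg.Prelude.Def_KGroupFacts

/-!
The outer automorphism group of the presented O'Nan group has order two.
-/

set_option autoImplicit false

namespace Cfsg.Lib.ONPres

open Cfsg.Lib.CosetCert Cfsg.Lib.PermCert
open Cfsg.Spor.ON (Gen)

attribute [local irreducible] rowF auxF parF feF pnF rcF

theorem w_comm : sameON (outW ++ outH) (outH ++ outW) = true := by decide +kernel

theorem sEl_pow : sEl ^ 19 = 1 := by
  have h := local_ok.1
  simp only [Bool.and_eq_true] at h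
  have := same_sound h.1.1.1.1
  rwa [wordON_rep, wordON_nil] at this

theorem sEl_order : orderOf sEl = 19 := by
  haveI : Fact (Nat.Prime 19) := ⟨by norm_num⟩
  refine orderOf_eq_prime sEl_pow fun he => ?_
  have h := local_ok.1
  simp only [Bool.and_eq_true, Bool.not_eq_true'] at h
  have hne := h.1.1.1.2
  have hl : ∀ x ∈ outS, x < 8 := local_facts.1 ▸ up_lt local_facts.2.2.1
  simp only [sameON, Bool.and_eq_false_iff, List.all_eq_false, decide_eq_true_eq, beq_eq_false_iff_ne,
    List.not_mem_nil, false_and, exists_false, or_false] at hne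
  have key : ∀ i : Fin 122760, runW outS i = runW [] i := fun i => by
    rw [← run_eq hl, ← sEl, he, inv_one, one_smul]
    rfl
  rcases hne with ((⟨x, hx, h'⟩ | h') | h') | h'
  exacts [h' (hl x hx), h' (key 0), h' (key 1), h' (key 77678)]

theorem sEl_mod (n : ℕ) : sEl ^ n = sEl ^ (n % 19) := by
  conv_lhs => rw [← pow_mod_orderOf, sEl_order]

theorem h_conj : hEl * sEl ^ 12 = sEl * hEl := by
  have h := local_ok.1
  simp only [Bool.and_eq_true] at h
  have := same_sound h.1.1.2
  rwa [wordON_append, wordON_append, wordON_rep] at this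

theorem h_inv_pow (k : ℕ) : hEl⁻¹ * sEl ^ k * hEl = sEl ^ (12 * k) := by
  rw [show hEl⁻¹ * sEl ^ k * hEl = hEl⁻¹ * sEl ^ k * hEl⁻¹⁻¹ by rw [inv_inv], ← conj_pow, inv_inv,
    show hEl⁻¹ * sEl * hEl = sEl ^ 12 by rw [mul_assoc, ← h_conj, inv_mul_cancel_left], ← pow_mul]

theorem h_iter (m k : ℕ) : (hEl ^ m)⁻¹ * sEl ^ k * hEl ^ m = sEl ^ (k * 12 ^ m) := by
  induction m with
  | zero => simp
  | succ m ih =>
    rw [pow_succ hEl m, show (hEl ^ m * hEl)⁻¹ * sEl ^ k * (hEl ^ m * hEl) =
      hEl⁻¹ * ((hEl ^ m)⁻¹ * sEl ^ k * hEl ^ m) * hEl by group, ih, h_inv_pow]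
    congr 1
    ring

/-- Elements of order nineteen fall into at most three classes. -/
theorem nineteen_classes {v : Cfsg.Spor.ON} (hv : orderOf v = 19) :
    ∃ g, ∃ j < 3, g * v * g⁻¹ = sEl ^ kRep j := by
  haveI : Fact (Nat.Prime 19) := ⟨by norm_num⟩
  have h19 : (460815505920 : ℕ).factorization 19 = 1 := by
    refine le_antisymm ?_ ((Nat.Prime.pow_dvd_iff_le_factorization (by norm_num) (by norm_num)).mp (by norm_num))
    by_contra h
    exact absurd ((Nat.Prime.pow_dvd_iff_le_factorization (p := 19) (k := 2) (by norm_num) (by norm_num)).mpr (by omega))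
      (by norm_num : ¬ 19 ^ 2 ∣ 460815505920)
  have hcard : ∀ w : Cfsg.Spor.ON, orderOf w = 19 →
      Nat.card (Subgroup.zpowers w) = 19 ^ (Nat.card Cfsg.Spor.ON).factorization 19 := fun w hw => by
    rw [Nat.card_zpowers, hw, on_card, h19, pow_one]
  let P : Sylow 19 Cfsg.Spor.ON := Sylow.ofCard _ (hcard v hv)
  let Q : Sylow 19 Cfsg.Spor.ON := Sylow.ofCard _ (hcard sEl sEl_order)
  obtain ⟨g, hg⟩ := MulAction.exists_smul_eq Cfsg.Spor.ON P Q
  have h1 : g * v * g⁻¹ ∈ (g • P : Sylow 19 Cfsg.Spor.ON).toSubgroup := by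
    rw [Sylow.coe_subgroup_smul]
    exact Subgroup.mem_pointwise_smul_iff_inv_smul_mem.mpr (by
      have : v ∈ (P : Subgroup Cfsg.Spor.ON) := Subgroup.mem_zpowers v
      simpa [MulAut.smul_def, mul_assoc] using this)
  rw [hg] at h1
  have h2 : g * v * g⁻¹ ∈ Subgroup.zpowers sEl := h1
  obtain ⟨i, hi⟩ := Submonoid.mem_powers_iff _ _ |>.1 ((isOfFinOrder_of_finite sEl).mem_powers_iff_mem_zpowers.2 h2)
  have hi' : sEl ^ (i % 19) = g * v * g⁻¹ := by rw [← sEl_mod, hi]
  have hne : i % 19 ≠ 0 := fun h => by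
    rw [h, pow_zero, eq_comm, conj_eq_one_iff] at hi'
    rw [hi', orderOf_one] at hv
    norm_num at hv
  have key : ∀ r : Fin 19, r.val ≠ 0 → ∃ m : Fin 6, ∃ j : Fin 3, r.val * 12 ^ m.val % 19 = kRep j.val := by decide
  obtain ⟨m, j, hm⟩ := key ⟨i % 19, Nat.mod_lt _ (by norm_num)⟩ hne
  refine ⟨(hEl ^ m.val)⁻¹ * g, j, j.2, ?_⟩
  calc (hEl ^ m.val)⁻¹ * g * v * ((hEl ^ m.val)⁻¹ * g)⁻¹ = (hEl ^ m.val)⁻¹ * (g * v * g⁻¹) * hEl ^ m.val := by group
    _ = sEl ^ kRep j := by rw [← hi', h_iter, sEl_mod, hm]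

theorem coprime_rep {j : ℕ} (hj : j < 3) : (sEl ^ kRep j) ^ [1, 10, 5].getD j 1 = sEl := by
  rw [← pow_mul, sEl_mod]
  interval_cases j <;> exact pow_one _

/-- Images of three elements determine the images of their words. -/
theorem map_sub3 (f : Cfsg.Spor.ON →* Cfsg.Spor.ON) {s h w s' h' w' : List ℕ} (hs : f (wordON s) = wordON s')
    (hh : f (wordON h) = wordON h') (hw : f (wordON w) = wordON w') :
    ∀ v : List ℕ, f (wordON (sub3 s h w v)) = wordON (sub3 s' h' w' v)
  | [] => by simp [sub3, wordON_nil]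
  | x :: v => by
    rw [sub3, sub3, List.flatMap_cons, List.flatMap_cons, wordON_append, wordON_append, map_mul, ← sub3, ← sub3,
      map_sub3 f hs hh hw v]
    congr 1
    rcases x with _ | _ | _ | _ | _ | _ | x <;>
      simp [wordON_inv, hs, hh, hw, wordON_nil]

/-- The normal form of an automorphism. -/
theorem normal_form (φ : MulAut Cfsg.Spor.ON) : ∃ g : Cfsg.Spor.ON,
    (MulAut.conj g * φ) sEl = sEl ∧ (MulAut.conj g * φ) hEl = hEl ∧
      ((MulAut.conj g * φ) (wordON outW) = wordON outW ∨ (MulAut.conj g * φ) (wordON outW) = wordON outWTwo) := by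
  obtain ⟨g1, j, hj, hg1⟩ := nineteen_classes (v := φ sEl) (by rw [MulEquiv.orderOf_eq φ, sEl_order])
  set χ := MulAut.conj g1 * φ with hχ
  have hχs : χ sEl = sEl ^ kRep j := by rw [hχ, MulAut.mul_apply, MulAut.conj_apply, hg1]
  have hcomm : Commute (χ hEl * hEl⁻¹) sEl := by
    have e := congrArg χ h_conj
    rw [map_mul, map_mul, map_pow, hχs] at e
    have e2 : (χ hEl)⁻¹ * sEl ^ kRep j * χ hEl = sEl ^ (kRep j * 12) := by
      rw [mul_assoc, ← e, inv_mul_cancel_left, ← pow_mul]
    have e3 : (χ hEl)⁻¹ * sEl * χ hEl = sEl ^ 12 :=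
      calc (χ hEl)⁻¹ * sEl * χ hEl = (χ hEl)⁻¹ * (sEl ^ kRep j) ^ [1, 10, 5].getD j 1 * (χ hEl)⁻¹⁻¹ := by
            rw [coprime_rep hj, inv_inv]
        _ = ((χ hEl)⁻¹ * sEl ^ kRep j * χ hEl) ^ [1, 10, 5].getD j 1 := by rw [← conj_pow, inv_inv]
        _ = sEl ^ 12 := by rw [e2, ← pow_mul, mul_right_comm, pow_mul, pow_mul, coprime_rep hj]
    have e4 : hEl⁻¹ * sEl * hEl = sEl ^ 12 := by rw [mul_assoc, ← h_conj, inv_mul_cancel_left]
    rw [commute_iff_eq]
    calc χ hEl * hEl⁻¹ * sEl = χ hEl * (hEl⁻¹ * sEl * hEl) * hEl⁻¹ := by group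
      _ = χ hEl * ((χ hEl)⁻¹ * sEl * χ hEl) * hEl⁻¹ := by rw [e3, e4]
      _ = sEl * (χ hEl * hEl⁻¹) := by group
  obtain ⟨i, -, hi⟩ := cent_S hcomm
  set g := (sEl ^ (8 * i))⁻¹ * g1 with hg
  set ψ := MulAut.conj g * φ with hψ
  have hψx : ∀ z, ψ z = (sEl ^ (8 * i))⁻¹ * χ z * sEl ^ (8 * i) := fun z => by
    rw [hψ, hχ, hg, map_mul, mul_assoc, MulAut.mul_apply, MulAut.conj_apply, inv_inv]
  have hψs : ψ sEl = sEl ^ kRep j := by
    rw [hψx, hχs, mul_assoc, ← pow_add, add_comm, pow_add, inv_mul_cancel_left]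
  have hψh : ψ hEl = hEl := by
    have e : sEl ^ (8 * i) = hEl * sEl ^ (12 * (8 * i)) * hEl⁻¹ := by
      rw [← h_inv_pow, mul_assoc, mul_assoc, mul_inv_cancel, mul_one, mul_inv_cancel_left]
    have e2 : hEl * sEl ^ (8 * i) = sEl ^ (8 * (8 * i)) * hEl := by
      have := h_inv_pow (8 * (8 * i))
      rw [sEl_mod (12 * _), show 12 * (8 * (8 * i)) % 19 = 8 * i % 19 by omega, ← sEl_mod] at this
      rw [← this, mul_assoc, mul_inv_cancel_left]
    rw [hψx, show χ hEl = sEl ^ i * hEl by rw [← hi, inv_mul_cancel_right], mul_assoc, mul_assoc, e2, ← mul_assoc,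
      ← mul_assoc, mul_assoc _ (sEl ^ i), ← pow_add, sEl_mod (i + _),
      show (i + 8 * (8 * i)) % 19 = 8 * i % 19 by omega, ← sEl_mod, inv_mul_cancel, one_mul]
  have hWcomm : Commute (ψ (wordON outW)) hEl := by
    have hc : Commute (wordON outW) hEl := by
      have := same_sound w_comm
      rwa [wordON_append, wordON_append] at this
    have := hc.map ψ.toMonoidHom
    simp only [MulEquiv.coe_toMonoidHom, hψh] at this
    exact this
  obtain ⟨c, hc, hψw⟩ := cent_H hWcomm
  refine ⟨g, ?_⟩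
  have hk : killOK j c = true := by
    interval_cases j
    exacts [List.all_eq_true.1 kill_zero c (List.mem_range.2 hc), List.all_eq_true.1 kill_one c (List.mem_range.2 hc),
      List.all_eq_true.1 kill_two c (List.mem_range.2 hc)]
  simp only [killOK, Bool.or_eq_true, Bool.and_eq_true, beq_iff_eq, decide_eq_true_eq, bne_iff_ne,
    List.all_eq_true] at hk
  rcases hk with ⟨rfl, hc'⟩ | ⟨⟨⟨hr, hvl⟩, hb⟩, hmove⟩
  · refine ⟨hψs.trans (pow_one _), hψh, ?_⟩
    have hl := local_ok.2.1
    simp only [Bool.and_eq_true] at hl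
    rcases hc' with rfl | rfl
    · exact Or.inl (hψw.trans (same_sound hl.1.1.1.1.1.1.1.1.1))
    · exact Or.inr (hψw.trans (same_sound hl.1.1.1.1.1.1.1.1.2))
  · exfalso
    apply hmove
    generalize killW.getD (72 * j + c) (0, 0) = r at hr hvl hb hmove ⊢
    have ht := List.all_eq_true.1 test_ok _ (List.getElem_mem hr)
    simp only [Bool.and_eq_true] at ht
    rw [List.getD_eq_getElem _ _ hr] at hvl hmove ⊢
    set v := repW testW[r.1].1 testW[r.1].2
    have h1 := map_sub3 ψ.toMonoidHom (s := outS) (h := outH) (w := outW) (s' := repW outS (kRep j)) (h' := outH)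
      (w' := candW.getD c []) (by rw [wordON_rep]; exact hψs) hψh hψw v
    rw [same_sound ht.2, wordON_nil, map_one] at h1
    have h2 : basePt r.2 < 122760 := by
      interval_cases r.2 <;> decide
    have := run_eq (w := sub3 (repW outS (kRep j)) outH (candW.getD c []) v) (fun x hx => hvl x hx) ⟨_, h2⟩
    rw [← h1, inv_one, one_smul] at this
    exact this.symm

theorem aut_ext {φ ψ : MulAut Cfsg.Spor.ON} (hs : φ sEl = ψ sEl) (hh : φ hEl = ψ hEl)
    (hw : φ (wordON outW) = ψ (wordON outW)) : φ = ψ := by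
  have key : ∀ x : ℕ, x < 7 → φ (imON x) = ψ (imON x) := fun x hx => by
    have h := List.all_eq_true.1 sym_ok x (List.mem_range.2 hx)
    simp only [Bool.and_eq_true] at h
    have e := same_sound h.2
    rw [show imON x = wordON [x] by simp [wordON], ← e]
    have hs' : φ (wordON outS) = ψ (wordON outS) := hs
    have hh' : φ (wordON outH) = ψ (wordON outH) := hh
    generalize symW.getD x [] = v
    induction v with
    | nil => rw [sub3, List.flatMap_nil, wordON_nil, map_one, map_one]
    | cons y v ih =>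
      rw [sub3, List.flatMap_cons, wordON_append, map_mul, map_mul, ← sub3, ih]
      congr 1
      rcases y with _ | _ | _ | _ | _ | _ | y <;>
        simp [wordON_inv, hs', hh', hw, wordON_nil]
  have : φ.toMonoidHom = ψ.toMonoidHom := PresentedGroup.ext fun x => by
    cases x
    exacts [key 0 (by norm_num), key 1 (by norm_num), key 2 (by norm_num), key 3 (by norm_num), key 4 (by norm_num),
      key 5 (by norm_num), key 6 (by norm_num)]
  exact MulEquiv.ext fun x => DFunLike.congr_fun this x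

/-- The images of the generators. -/
noncomputable def outIm (x : Gen) : Cfsg.Spor.ON := wordON (outA.getD (genNum x) [])

theorem subA_append (v w : List ℕ) : subA (v ++ w) = subA v ++ subA w := List.flatMap_append

theorem subA_single (x : ℕ) : subA [x] = outA.getD x [] := by simp [subA]

theorem invol_out (x : Gen) (hx : x ∈ Cfsg.Spor.coxNodes Cfsg.Spor.ON.edges) : outIm x * outIm x = 1 := by
  have h := same_sound (List.all_eq_true.1 (List.all_eq_true.1 out_cox x hx) x hx)
  rw [wordON_rep, wordON_nil, show Cfsg.Spor.coxLabel Cfsg.Spor.ON.edges x x = 1 by simp [Cfsg.Spor.coxLabel],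
    pow_one, show subA [genNum x, genNum x] = subA [genNum x] ++ subA [genNum x] from
      subA_append [genNum x] [genNum x], wordON_append, subA_single] at h
  exact h

theorem inv_subA (x : Gen) : wordON (subA [ivl (genNum x)]) = (outIm x)⁻¹ := by
  have h := out_vals
  simp only [Bool.and_eq_true] at h
  have e7 := same_sound h.1.1.1.2
  rw [wordON_inv] at e7
  cases x
  · rw [subA_single, outIm]
    exact e7
  all_goals
    rw [inv_eq_of_mul_eq_one_left (invol_out _ (by decide))]
    exact congrArg wordON (subA_single _)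

theorem lift_out (r : FreeGroup Gen) : FreeGroup.lift outIm r = wordON (subA (freeW r)) := by
  conv_lhs => rw [← FreeGroup.mk_toWord (x := r)]
  rw [FreeGroup.lift_mk, freeW]
  generalize r.toWord = L
  induction L with
  | nil => simp [subA, wordON_nil]
  | cons p L ih =>
    rw [List.map_cons, List.map_cons, List.prod_cons, ih,
      show ∀ a l, subA (a :: l) = subA [a] ++ subA l from fun a l => subA_append [a] l, wordON_append]
    congr 1
    obtain ⟨x, b⟩ := p
    cases b
    · exact (inv_subA x).symm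
    · exact (congrArg wordON (subA_single _)).symm

theorem out_good : ∀ r ∈ Cfsg.Spor.coxRelators Cfsg.Spor.ON.edges ∪ {r | r ∈ Cfsg.Spor.ON.extra},
    FreeGroup.lift outIm r = 1 := by
  rintro r (⟨x, hx, y, hy, rfl⟩ | hr)
  · have h := same_sound (List.all_eq_true.1 (List.all_eq_true.1 out_cox x hx) y hy)
    rw [wordON_rep, wordON_nil, show subA [genNum x, genNum y] = subA [genNum x] ++ subA [genNum y] from
      subA_append [genNum x] [genNum y], wordON_append, subA_single, subA_single] at h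
    rw [map_pow, map_mul, FreeGroup.lift_apply_of, FreeGroup.lift_apply_of]
    exact h
  · rw [lift_out, same_sound (List.all_eq_true.1 out_extra r hr), wordON_nil]

/-- The endomorphism. -/
noncomputable def outHom : Cfsg.Spor.ON →* Cfsg.Spor.ON := PresentedGroup.toGroup out_good

theorem outHom_word : ∀ w : List ℕ, (∀ x ∈ w, x < 8) → outHom (wordON w) = wordON (subA w)
  | [], _ => by rw [wordON_nil, map_one]; rfl
  | x :: w, h => by
    rw [show x :: w = [x] ++ w from rfl, wordON_append, map_mul, subA_append, wordON_append,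
      outHom_word w fun y hy => h y (List.mem_cons_of_mem _ hy)]
    congr 1
    rw [show wordON [x] = imON x by simp [wordON], subA_single]
    have hx := h x (by simp)
    have hg : ∀ z : Gen, outHom (gen z) = wordON (outA.getD (genNum z) []) := fun z => PresentedGroup.toGroup.of out_good
    interval_cases x
    exacts [hg .g, hg .a, hg .b, hg .c, hg .d, hg .e, hg .f, by
      show outHom (gen .g)⁻¹ = _
      rw [map_inv, hg]
      exact ((subA_single _).symm ▸ inv_subA .g).symm]

theorem outHom_vals : outHom sEl = sEl ∧ outHom hEl = hEl ∧ outHom (wordON outW) = wordON outWTwo := by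
  have h := out_vals
  simp only [Bool.and_eq_true] at h
  obtain ⟨⟨⟨-, hs⟩, hh⟩, hw⟩ := h
  have hl := local_ok.2.1
  simp only [Bool.and_eq_true, List.all_eq_true, decide_eq_true_eq] at hl
  exact ⟨(outHom_word _ fun x hx => by have := hl.1.1.1.2 x hx; omega).trans (same_sound hs),
    (outHom_word _ fun x hx => by have := hl.1.1.2 x hx; omega).trans (same_sound hh),
    (outHom_word _ hl.1.2).trans (same_sound hw)⟩

theorem outHom_bijective : Function.Bijective outHom := by
  have hinj : Function.Injective outHom := by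
    haveI := on_simple
    rcases Subgroup.Normal.eq_bot_or_eq_top (inferInstance : outHom.ker.Normal) with e | e
    · exact (MonoidHom.ker_eq_bot_iff _).1 e
    · exfalso
      have h : sEl ∈ outHom.ker := e ▸ Subgroup.mem_top _
      rw [MonoidHom.mem_ker, outHom_vals.1] at h
      have := sEl_order
      rw [h, orderOf_one] at this
      norm_num at this
  exact ⟨hinj, Finite.injective_iff_surjective.1 hinj⟩

/-- The outer automorphism. -/
noncomputable def outAut : MulAut Cfsg.Spor.ON := MulEquiv.ofBijective outHom outHom_bijective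

theorem outAut_apply (x : Cfsg.Spor.ON) : outAut x = outHom x := by
  rw [outAut, MulEquiv.ofBijective_apply]

theorem outAut_outer : outAut ∉ Cfsg.Inn Cfsg.Spor.ON := by
  rintro ⟨g, hg⟩
  have hfix : ∀ z, g * z * g⁻¹ = outHom z := fun z => by
    have := DFunLike.congr_fun hg z
    rwa [MulAut.conj_apply, outAut_apply] at this
  obtain ⟨i, hi, rfl⟩ := cent_S (x := g) (mul_inv_eq_iff_eq_mul.1 ((hfix sEl).trans outHom_vals.1))
  have hh := mul_inv_eq_iff_eq_mul.1 ((hfix hEl).trans outHom_vals.2.1)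
  have e : sEl ^ i = sEl ^ (12 * i % 19) := by
    rw [← sEl_mod, ← h_inv_pow, mul_assoc, hh, inv_mul_cancel_left]
  have hi0 : i = 12 * i % 19 := by
    refine pow_injOn_Iio_orderOf ?_ ?_ e
    · rw [sEl_order]; exact hi
    · rw [sEl_order]; exact Nat.mod_lt _ (by norm_num)
  obtain rfl : i = 0 := by omega
  have hx := (hfix (wordON outW)).trans outHom_vals.2.2
  rw [pow_zero, one_mul, inv_one, mul_one] at hx
  have hl := local_ok.2.1
  simp only [Bool.and_eq_true, Bool.not_eq_true', List.all_eq_true, decide_eq_true_eq] at hl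
  have hne := hl.1.1.1.1.1.1.1.2
  have key : ∀ b : Fin 122760, runW outW b = runW outWTwo b := fun b => by
    rw [← run_eq hl.1.2, ← run_eq hl.2, hx]
  simp only [sameON, Bool.and_eq_false_iff, List.all_eq_false, decide_eq_true_eq, beq_eq_false_iff_ne] at hne
  rcases hne with (((⟨x, hx', h'⟩ | ⟨x, hx', h'⟩) | h') | h') | h'
  exacts [h' (hl.1.2 x hx'), h' (hl.2 x hx'), h' (key 0), h' (key 1), h' (key 77678)]

/-- The outer automorphism group has order two. -/
theorem card_out : Nat.card (Cfsg.Out Cfsg.Spor.ON) = 2 := by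
  classical
  have hdich : ∀ q : Cfsg.Out Cfsg.Spor.ON, q = ((1 : MulAut Cfsg.Spor.ON) : Cfsg.Out Cfsg.Spor.ON) ∨
      q = (outAut : Cfsg.Out Cfsg.Spor.ON) := by
    intro q
    obtain ⟨φ, rfl⟩ := QuotientGroup.mk_surjective q
    obtain ⟨g, hs, hh, h | h⟩ := normal_form φ
    · left
      have e : MulAut.conj g * φ = 1 := aut_ext (hs.trans rfl) (hh.trans rfl) (h.trans rfl)
      refine QuotientGroup.eq.2 ?_
      rw [mul_one, inv_eq_of_mul_eq_one_left e]
      exact ⟨g, rfl⟩
    · right
      have e : MulAut.conj g * φ = outAut := aut_ext (by rw [hs, outAut_apply, outHom_vals.1])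
        (by rw [hh, outAut_apply, outHom_vals.2.1]) (by rw [h, outAut_apply, outHom_vals.2.2])
      refine QuotientGroup.eq.2 ?_
      rw [← e, show φ⁻¹ * (MulAut.conj g * φ) = φ⁻¹ * MulAut.conj g * φ⁻¹⁻¹ by group]
      exact (Cfsg.innNormal _).conj_mem _ ⟨g, rfl⟩ φ⁻¹
  rw [Nat.card_eq_two_iff]
  refine ⟨((1 : MulAut Cfsg.Spor.ON) : Cfsg.Out Cfsg.Spor.ON), (outAut : Cfsg.Out Cfsg.Spor.ON), fun h => ?_, ?_⟩
  · refine outAut_outer ?_
    have := QuotientGroup.eq.1 h
    rwa [inv_one, one_mul] at this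
  · ext q
    simpa using hdich q

end Cfsg.Lib.ONPres
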