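import Mathlib

/-!
Generated: points of the projective plane over seven elements and matrices of five polarities.
-/

set_option autoImplicit false

namespace Cfsg.Lib.ONPres

/-- The index of the point of a vector, by code. -/
def idxTab : List ℕ := [0, 0, 0, 0, 0, 0, 0, 1, 2, 3, 4, 5, 6, 7, 1, 5, 2, 6, 3, 7, 4, 1, 6, 4, 2, 7, 5, 3, 1, 3, 5, 7, 2, 4, 6, 1, 4, 7, 3, 6, 2, 5, 1, 7, 6, 5, 4, 3, 2, 8, 9, 10, 11, 12, 13, 14, 15, 16, 17, 18, 19, 20, 21, 22, 23, 24, 25, 26, 27, 28, 29, 30, 31, 32, 33, 34, 35, 36, 37, 38, 39, 40, 41, 42, 43, 44, 45, 46, 47, 48, 49, 50, 51, 52, 53, 54, 55, 56, 8, 12, 9, 13, 10, 14, 11, 36, 40, 37, 41, 38, 42, 39, 15, 19, 16, 20, 17, 21, 18, 43, 47, 44, 48, 45, 49, 46, 22, 26, 23, 27, 24, 28, 25, 50, 54, 51, 55, 52, 56, 53, 29, 33, 30, 34, 31, 35, 32, 8, 13, 11, 9,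 14, 12, 10, 43, 48, 46, 44, 49, 47, 45, 29, 34, 32, 30, 35, 33, 31, 15, 20, 18, 16, 21, 19, 17, 50, 55, 53, 51, 56, 54, 52, 36, 41, 39, 37, 42, 40, 38, 22, 27, 25, 23, 28, 26, 24, 8, 10, 12, 14, 9, 11, 13, 22, 24, 26, 28, 23, 25, 27, 36, 38, 40, 42, 37, 39, 41, 50, 52, 54, 56, 51, 53, 55, 15, 17, 19, 21, 16, 18, 20, 29, 31, 33, 35, 30, 32, 34, 43, 45, 47, 49, 44, 46, 48, 8, 11, 14, 10, 13, 9, 12, 29, 32, 35, 31, 34, 30, 33, 50, 53, 56, 52, 55, 51, 54, 22, 25, 28, 24, 27, 23, 26, 43, 46, 49, 45, 48, 44, 47, 15, 18, 21, 17, 20, 16, 19, 36, 39, 42, 38, 41, 37, 40, 8, 14, 13, 12, 11, 10, 9, 50, 56, 55, 54, 53, 52, 51, 43, 49, 48, 47, 46, 45, 44, 36, 42, 41, 40, 39, 38, 37, 29, 35, 34, 33, 32, 31, 30, 22, 28, 27, 26, 25, 24, 23, 15, 21, 20, 19, 18, 17, 16]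

/-- A representative of each point. -/
def ptTab : List (ℕ × ℕ × ℕ) := [(0, 0, 1), (0, 1, 0), (0, 1, 1), (0, 1, 2), (0, 1, 3), (0, 1, 4), (0, 1, 5), (0, 1, 6), (1, 0, 0), (1, 0, 1), (1, 0, 2), (1, 0, 3), (1, 0, 4), (1, 0, 5), (1, 0, 6), (1, 1, 0), (1, 1, 1), (1, 1, 2), (1, 1, 3), (1, 1, 4), (1, 1, 5), (1, 1, 6), (1, 2, 0), (1, 2, 1), (1, 2, 2), (1, 2, 3), (1, 2, 4), (1, 2, 5), (1, 2, 6), (1, 3, 0), (1, 3, 1), (1, 3, 2), (1, 3, 3), (1, 3, 4), (1, 3, 5), (1, 3, 6), (1, 4, 0), (1, 4, 1), (1, 4, 2), (1, 4, 3), (1, 4, 4), (1, 4, 5), (1, 4, 6), (1, 5, 0), (1, 5, 1), (1, 5, 2), (1, 5, 3), (1, 5, 4), (1, 5, 5), (1, 5, 6), (1, 6, 0), (1, 6, 1), (1, 6, 2), (1, 6, 3), (1, 6, 4), (1, 6, 5), (1, 6, 6)]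

/-- The symmetric matrices of the polarities after the first, and their inverses. -/
def polMat : List (Matrix (Fin 3) (Fin 3) (ZMod 7) × Matrix (Fin 3) (Fin 3) (ZMod 7)) := [(!![1, 4, 1; 4, 4, 5; 1, 5, 2], !![4, 4, 2; 4, 1, 6; 2, 6, 2]),
  (!![1, 4, 1; 4, 1, 6; 1, 6, 3], !![2, 1, 2; 1, 2, 5; 2, 5, 6]),
  (!![6, 6, 3; 6, 6, 4; 3, 4, 0], !![5, 5, 6; 5, 5, 1; 6, 1, 0]),
  (!![0, 6, 6; 6, 5, 2; 6, 2, 5], !![0, 3, 3; 3, 6, 1; 3, 1, 6]),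
  (!![0, 1, 0; 1, 0, 0; 0, 0, 6], !![0, 1, 0; 1, 0, 0; 0, 0, 6])]

end Cfsg.Lib.ONPres
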