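import Cfsg.Agent.ONPres.Kit

/-!
Tables of cosets checked entry by entry in the order of their ranks: an entry is a tree edge, an edge of the
subgroup, the inverse of an earlier entry, a seed, or closes a rotated relator through earlier entries.
-/

set_option autoImplicit false

namespace Cfsg.Lib.ONPres

/-- The entry of a row for a letter. -/
def ent (row x : ℕ) : ℕ := Nat.mod (Nat.shiftRight row (Nat.mul 45 x)) 35184372088832
/-- Target of an entry. -/
def tg (e : ℕ) : ℕ := Nat.mod e 131072
/-- Kind of an entry. -/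
def kd (e : ℕ) : ℕ := Nat.mod (Nat.div e 131072) 256
/-- Rank of an entry. -/
def rk (e : ℕ) : ℕ := Nat.div e 33554432
/-- Target in a table. -/
def tgt (E : ℕ → ℕ) (i x : ℕ) : ℕ := tg (ent (E i) x)

/-- Follow a code through entries of rank below `r`. -/
noncomputable def walkR (E : ℕ → ℕ) (n r i : ℕ) : ℕ → ℕ → ℕ → Bool
  | 0, _, _ => false
  | f + 1, code, cur =>
    bif Nat.beq code 0 then Nat.beq cur i
    else force (Nat.sub (Nat.mod code 16) 1) fun x =>
      Nat.blt x 8 && Nat.blt cur n && force (ent (E cur) x) fun e =>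
        Nat.blt (rk e) r && force (tg e) fun c => force (Nat.div code 16) fun d => walkR E n r i f d c

/-- The check of one entry. -/
noncomputable def keyOK (E par rc : ℕ → ℕ) (seed : ℕ → Bool) (n nrot i x e : ℕ) : Bool :=
  force (tg e) fun t => force (kd e) fun k => Nat.blt t n &&
    bif Nat.beq k 0 then Nat.blt i t && Nat.beq (par t) (i * 8 + x)
    else bif Nat.beq k 1 then Nat.beq i 0 && Nat.beq t 0 && Nat.ble 1 x && Nat.ble x 6
    else bif Nat.beq k 2 then force (ent (E t) (ivl x)) fun e' => Nat.beq (tg e') i && Nat.blt (rk e') (rk e)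
    else bif Nat.beq k 3 then seed (i * 8 + x)
    else Nat.blt (k - 4) nrot && force (rc (k - 4)) fun c =>
      Nat.beq (Nat.mod c 16) (x + 1) && force (rk e) fun r => walkR E n r i 32 (Nat.div c 16) t

/-- The check of one row. -/
noncomputable def rowOK (E par rc : ℕ → ℕ) (seed : ℕ → Bool) (n nrot i : ℕ) : Bool :=
  force (E i) fun row =>
    keyOK E par rc seed n nrot i 0 (ent row 0) && keyOK E par rc seed n nrot i 1 (ent row 1) &&
    keyOK E par rc seed n nrot i 2 (ent row 2) && keyOK E par rc seed n nrot i 3 (ent row 3) &&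
    keyOK E par rc seed n nrot i 4 (ent row 4) && keyOK E par rc seed n nrot i 5 (ent row 5) &&
    keyOK E par rc seed n nrot i 6 (ent row 6) && keyOK E par rc seed n nrot i 7 (ent row 7)

/-- A property checked for `k` numbers from `lo` on. -/
noncomputable def rangeOK (p : ℕ → Bool) : ℕ → ℕ → Bool
  | 0, _ => true
  | k + 1, lo => p lo && force (lo + 1) fun l => rangeOK p k l

theorem rangeOK_sound {p : ℕ → Bool} : ∀ k lo, rangeOK p k lo = true → ∀ i, lo ≤ i → i < lo + k → p i = true
  | 0, _, _ => fun i h1 h2 => by omega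
  | k + 1, lo, h => fun i h1 h2 => by
    rw [rangeOK, Bool.and_eq_true, force_eq] at h
    rcases eq_or_lt_of_le h1 with rfl | hlt
    · exact h.1
    · exact rangeOK_sound k (lo + 1) h.2 i hlt (by omega)

section
variable {G : Type*} [Group G] (im : ℕ → G) (E par : ℕ → ℕ)

/-- The representative of a coset in the table. -/
noncomputable def crep (j : ℕ) : G :=
  if h : par j / 8 < j then crep (par j / 8) * im (par j % 8) else 1
  termination_by j
  decreasing_by exact h

/-- What an entry says. -/
def EdgeOK (H : Subgroup G) (i x : ℕ) : Prop :=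
  crep im par i * im x * (crep im par (tgt E i x))⁻¹ ∈ H

variable {im E par}

theorem crep_zero : crep im par 0 = 1 := by
  rw [crep, dif_neg (by omega)]

theorem keyOK_of_rowOK {rc : ℕ → ℕ} {seed : ℕ → Bool} {n nrot i : ℕ} (h : rowOK E par rc seed n nrot i = true)
    {x : ℕ} (hx : x < 8) : keyOK E par rc seed n nrot i x (ent (E i) x) = true := by
  simp only [rowOK, force_eq, Bool.and_eq_true] at h
  interval_cases x <;> simp [h]

theorem walkR_sound {H : Subgroup G} {n r i : ℕ}
    (ih : ∀ c x, c < n → x < 8 → rk (ent (E c) x) < r → EdgeOK im E par H c x) :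
    ∀ f code cur, walkR E n r i f code cur = true →
      crep im par cur * cval im code * (crep im par i)⁻¹ ∈ H := by
  intro f
  induction f with
  | zero => intro _ _ h; simp [walkR] at h
  | succ f ihf =>
    intro code cur h
    simp only [walkR, force_eq, Nat.blt, Bool.cond_eq_ite, Nat.beq_eq] at h
    by_cases hc : code = 0
    · simp only [hc, if_true, Nat.beq_eq] at h
      rw [hc, h, cval_zero]
      simp
    · simp only [hc, if_false, Bool.and_eq_true, Nat.ble_eq] at h
      obtain ⟨⟨hx, hn⟩, hr, h⟩ := h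
      have hE := ih _ _ hn hx hr
      rw [cval_pos im hc]
      have := H.mul_mem hE (ihf _ _ h)
      rw [EdgeOK, tgt] at hE
      convert this using 1
      show _ = crep im par cur * im (code % 16 - 1) * (crep im par (tgt E cur (code % 16 - 1)))⁻¹ *
        (crep im par (tgt E cur (code % 16 - 1)) * cval im (code / 16) * _)
      group

/-- All entries hold. -/
theorem edges_ok (hL : Letters im) {H : Subgroup G} (hH : ∀ l, 1 ≤ l → l ≤ 6 → im l ∈ H) {rc : ℕ → ℕ}
    {seed : ℕ → Bool} {n nrot : ℕ} (hR : RotsOK im rc nrot)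
    (hS : ∀ i x, x < 8 → seed (i * 8 + x) = true → EdgeOK im E par H i x)
    (hC : ∀ i, i < n → rowOK E par rc seed n nrot i = true) :
    ∀ i x, i < n → x < 8 → tgt E i x < n ∧ EdgeOK im E par H i x := by
  suffices key : ∀ r i x, i < n → x < 8 → rk (ent (E i) x) = r → tgt E i x < n ∧ EdgeOK im E par H i x from
    fun i x hi hx => key _ i x hi hx rfl
  intro r
  induction r using Nat.strong_induction_on with
  | _ r ih =>
    intro i x hi hx hrk
    have h := keyOK_of_rowOK (hC i hi) hx
    simp only [keyOK, force_eq, Nat.blt, Bool.cond_eq_ite, Bool.and_eq_true, Nat.beq_eq, Nat.ble_eq] at h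
    obtain ⟨ht, h⟩ := h
    refine ⟨ht, ?_⟩
    rw [EdgeOK]
    by_cases h0 : kd (ent (E i) x) = 0
    · simp only [h0, if_true, Bool.and_eq_true, Nat.beq_eq, Nat.ble_eq] at h
      obtain ⟨hit, hp⟩ := h
      have : crep im par (tgt E i x) = crep im par i * im x := by
        have e1 : par (tgt E i x) / 8 = i := by rw [tgt, hp]; omega
        have e2 : par (tgt E i x) % 8 = x := by rw [tgt, hp]; omega
        rw [crep, dif_pos (by rw [e1]; exact hit), e1, e2]
      rw [this]; simp
    simp only [h0, if_false] at h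
    by_cases h1 : kd (ent (E i) x) = 1
    · simp only [h1, if_true, Bool.and_eq_true, Nat.beq_eq, Nat.ble_eq] at h
      obtain ⟨⟨⟨hi0, ht0⟩, hx1⟩, hx6⟩ := h
      rw [tgt, ht0, hi0, crep_zero]
      simpa using hH _ hx1 hx6
    simp only [h1, if_false] at h
    by_cases h2 : kd (ent (E i) x) = 2
    · simp only [h2, if_true, Bool.and_eq_true, Nat.beq_eq, Nat.ble_eq] at h
      obtain ⟨hb, hr'⟩ := h
      have hy : ivl x < 8 := by
        rw [ivl]; (rcases Nat.beq x 0 <;> rcases Nat.beq x 7 <;> simp); all_goals omega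
      have := (ih _ (hrk ▸ hr') (tgt E i x) (ivl x) ht hy rfl).2
      rw [EdgeOK, hL.1, show tgt E (tgt E i x) (ivl x) = i from hb] at this
      have := H.inv_mem this
      convert this using 1
      group
    simp only [h2, if_false] at h
    by_cases h3 : kd (ent (E i) x) = 3
    · simp only [h3, if_true] at h
      exact hS i x hx h
    simp only [h3, if_false, Bool.and_eq_true, Nat.beq_eq, Nat.ble_eq] at h
    obtain ⟨hk, hd, hw⟩ := h
    have hc : rc (kd (ent (E i) x) - 4) ≠ 0 := by
      intro hz; rw [hz] at hd; simp at hd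
    have hv := hR _ hk
    rw [cval_pos im hc, show rc (kd (ent (E i) x) - 4) % 16 = x + 1 from hd, Nat.add_sub_cancel] at hv
    have hw' := walkR_sound (fun c y hcn hy hlt => (ih _ (hrk ▸ hlt) c y hcn hy rfl).2) _ _ _ hw
    rw [show cval im (Nat.div (rc (kd (ent (E i) x) - 4)) 16) = (im x)⁻¹ from eq_inv_of_mul_eq_one_right hv] at hw'
    have := H.inv_mem hw'
    convert this using 1
    show _ = (crep im par (tgt E i x) * (im x)⁻¹ * (crep im par i)⁻¹)⁻¹
    group

/-- The representatives cover every coset. -/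
theorem covers (hL : Letters im) {H : Subgroup G} {n : ℕ} (hn : 0 < n)
    (hgen : Subgroup.closure {g | ∃ x < 8, im x = g} = ⊤)
    (hE : ∀ i x, i < n → x < 8 → tgt E i x < n ∧ EdgeOK im E par H i x) :
    ∀ g : G, ∃ i < n, g * (crep im par i)⁻¹ ∈ H := by
  intro g
  have hg : g ∈ Subgroup.closure {g | ∃ x < 8, im x = g} := hgen ▸ Subgroup.mem_top g
  have step : ∀ a x, x < 8 → (∃ i < n, a * (crep im par i)⁻¹ ∈ H) →
      ∃ i < n, a * im x * (crep im par i)⁻¹ ∈ H := by
    rintro a x hx ⟨i, hi, h⟩
    refine ⟨_, (hE i x hi hx).1, ?_⟩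
    have := H.mul_mem h (hE i x hi hx).2
    convert this using 1
    group
  have h1 : ∃ i < n, (1 : G) * (crep im par i)⁻¹ ∈ H := ⟨0, hn, by simp [crep_zero]⟩
  induction hg using Subgroup.closure_induction_right with
  | one => exact h1
  | mul_right a y _ hy ihy =>
    obtain ⟨x, hx, rfl⟩ := hy
    exact step a x hx ihy
  | mul_inv_cancel a y _ hy ihy =>
    obtain ⟨x, hx, rfl⟩ := hy
    rw [← hL.1]
    refine step a _ ?_ ihy
    rw [ivl]; (rcases Nat.beq x 0 <;> rcases Nat.beq x 7 <;> simp); all_goals omega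

/-- Linking table cosets to named cosets: entries are child, parent, child name, parent name, fact, direction. -/
structure Lk where
  /-- child coset -/ j : ℕ
  /-- child name -/ nj : ℕ
  /-- parent name -/ ni : ℕ
  /-- the fact -/ f : ℕ
  /-- reversed -/ rev : Bool

end

/-- Check of a link, given the already linked pairs. -/
def lkOK (fe par : ℕ → ℕ) (N : ℕ) (S : List (ℕ × ℕ)) (L : Lk) : Bool :=
  decide (par L.j / 8 < L.j) && decide (L.f < N) && S.contains (par L.j / 8, L.ni) &&
    bif L.rev then eu (fe L.f) == L.nj && ev (fe L.f) == L.ni && ivl (el (fe L.f)) == par L.j % 8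
    else eu (fe L.f) == L.ni && ev (fe L.f) == L.nj && el (fe L.f) == par L.j % 8

/-- Check of a list of links. -/
def lksOK (fe par : ℕ → ℕ) (N : ℕ) : List (ℕ × ℕ) → List Lk → Bool
  | _, [] => true
  | S, L :: r => lkOK fe par N S L && lksOK fe par N ((L.j, L.nj) :: S) r

/-- A seed: coset, letter, target coset, names of both, fact, direction. -/
structure Sd where
  /-- coset -/ i : ℕ
  /-- letter -/ x : ℕ
  /-- name -/ ni : ℕ
  /-- name of the target -/ nt : ℕ
  /-- the fact -/ f : ℕ
  /-- reversed -/ rev : Bool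

/-- Check of a seed against the linked pairs. -/
def sdOK (fe E : ℕ → ℕ) (N : ℕ) (S : List (ℕ × ℕ)) (s : Sd) : Bool :=
  decide (s.f < N) && S.contains (s.i, s.ni) && S.contains (tgt E s.i s.x, s.nt) &&
    bif s.rev then eu (fe s.f) == s.nt && ev (fe s.f) == s.ni && ivl (el (fe s.f)) == s.x
    else eu (fe s.f) == s.ni && ev (fe s.f) == s.nt && el (fe s.f) == s.x

section
variable {G : Type*} [Group G] {im : ℕ → G} {E par fe pn : ℕ → ℕ}

/-- Linked pairs name the same coset. -/
def Linked (im : ℕ → G) (par fe pn : ℕ → ℕ) (H : Subgroup G) (S : List (ℕ × ℕ)) : Prop :=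
  ∀ p ∈ S, crep im par p.1 * (nrep im fe pn p.2)⁻¹ ∈ H

theorem linked_base {H : Subgroup G} : Linked im par fe pn H [(0, 0)] := by
  intro p hp
  obtain rfl := List.mem_singleton.1 hp
  simp [crep_zero, nrep]

theorem linked_of_lksOK (hL : Letters im) {H : Subgroup G} {N : ℕ} (hF : ∀ i, i < N → FactOK im fe pn H i) :
    ∀ (ls : List Lk) (S : List (ℕ × ℕ)), Linked im par fe pn H S → lksOK fe par N S ls = true →
      Linked im par fe pn H ((ls.map fun L => (L.j, L.nj)).reverse ++ S)
  | [], S, hS, _ => by simpa using hS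
  | L :: r, S, hS, h => by
    rw [lksOK, Bool.and_eq_true] at h
    have hS' : Linked im par fe pn H ((L.j, L.nj) :: S) := by
      intro p hp
      rcases List.mem_cons.1 hp with rfl | hp
      · obtain ⟨hk, -⟩ := h
        simp only [lkOK, Bool.and_eq_true, decide_eq_true_eq, List.contains_iff_mem] at hk
        obtain ⟨⟨⟨hj, hf⟩, hm⟩, hk⟩ := hk
        have h1 := hS _ hm
        have h2 := hF _ hf
        rw [FactOK] at h2
        rw [crep, dif_pos hj]
        cases hr : L.rev <;> simp only [hr, cond_true, cond_false, Bool.and_eq_true, beq_iff_eq] at hk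
        · obtain ⟨⟨hu, hv⟩, hl⟩ := hk
          rw [hu, hv, hl] at h2
          convert H.mul_mem h1 h2 using 1; group
        · obtain ⟨⟨hu, hv⟩, hl⟩ := hk
          rw [hu, hv] at h2
          rw [← hl, hL.1]
          convert H.mul_mem h1 (H.inv_mem h2) using 1; group
      · exact hS p hp
    have := linked_of_lksOK hL hF r _ hS' h.2
    simpa using this

theorem seed_sound (hL : Letters im) {H : Subgroup G} {N : ℕ} (hF : ∀ i, i < N → FactOK im fe pn H i)
    {S : List (ℕ × ℕ)} (hS : Linked im par fe pn H S) {s : Sd} (h : sdOK fe E N S s = true) :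
    EdgeOK im E par H s.i s.x := by
  simp only [sdOK, Bool.and_eq_true, decide_eq_true_eq, List.contains_iff_mem] at h
  obtain ⟨⟨⟨hf, hi⟩, ht⟩, hk⟩ := h
  have h1 := hS _ hi
  have h3 := hS _ ht
  have h2 := hF _ hf
  rw [FactOK] at h2
  rw [EdgeOK]
  cases hr : s.rev <;> simp only [hr, cond_true, cond_false, Bool.and_eq_true, beq_iff_eq] at hk
  · obtain ⟨⟨hu, hv⟩, hl⟩ := hk
    rw [hu, hv, hl] at h2
    convert H.mul_mem (H.mul_mem h1 h2) (H.inv_mem h3) using 1; group
  · obtain ⟨⟨hu, hv⟩, hl⟩ := hk
    rw [hu, hv] at h2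
    rw [show im s.x = (im (el (fe s.f)))⁻¹ by rw [← hl, hL.1]]
    convert H.mul_mem (H.mul_mem h1 (H.inv_mem h2)) (H.inv_mem h3) using 1; group

end

end Cfsg.Lib.ONPres
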