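import Cfsg.Agent.ONPres.Rank
import Cfsg.Agent.ONPres.RowData
import Cfsg.Agent.ONPres.AuxData

/-!
The check that the coset table of the presented O'Nan group respects every relator, through composite tables.
-/

set_option autoImplicit false

namespace Cfsg.Lib.ONPres

/-- Field of a composite row. -/
def axf (row k : ℕ) : ℕ := Nat.mod (Nat.shiftRight row (Nat.mul 17 k)) 131072
/-- A composite at a coset. -/
noncomputable def cm (i k : ℕ) : ℕ := axf (auxF i) k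
/-- Target in a row. -/
def rt (row x : ℕ) : ℕ := tg (ent row x)

/-- The relator check at one coset. -/
noncomputable def rel1 (i : ℕ) : Bool :=
  force (rowF i) fun r =>
  force (rowF (rt r 0)) fun r0 => force (rowF (rt r 1)) fun r1 => force (rowF (rt r 2)) fun r2 =>
  force (rowF (rt r 3)) fun r3 => force (rowF (rt r 4)) fun r4 => force (rowF (rt r 5)) fun r5 =>
  force (rowF (rt r 6)) fun r6 => force (rowF (rt r 7)) fun r7 =>
  force (auxF i) fun A =>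
    Nat.beq (rt r0 7) i && Nat.beq (rt r1 1) i && Nat.beq (rt r2 2) i && Nat.beq (rt r3 3) i &&
    Nat.beq (rt r4 4) i && Nat.beq (rt r5 5) i && Nat.beq (rt r6 6) i && Nat.beq (rt r7 0) i &&
    Nat.beq (rt r1 3) (rt r3 1) && Nat.beq (rt r1 4) (rt r4 1) && Nat.beq (rt r1 5) (rt r5 1) &&
    Nat.beq (rt r1 6) (rt r6 1) && Nat.beq (rt r2 4) (rt r4 2) && Nat.beq (rt r2 5) (rt r5 2) &&
    Nat.beq (rt r2 6) (rt r6 2) && Nat.beq (rt r3 5) (rt r5 3) && Nat.beq (rt r3 6) (rt r6 3) &&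
    Nat.beq (rt r4 6) (rt r6 4) &&
    Nat.beq (rt (rowF (rt r1 2)) 1) (rt (rowF (rt r2 1)) 2) &&
    Nat.beq (rt (rowF (rt r2 3)) 2) (rt (rowF (rt r3 2)) 3) &&
    Nat.beq (rt (rowF (rt r4 5)) 4) (rt (rowF (rt r5 4)) 5) &&
    Nat.beq (rt (rowF (rt r5 6)) 5) (rt (rowF (rt r6 5)) 6) &&
    Nat.beq (rt r0 0) (rt r1 6) &&
    force (axf A 0) (fun p => Nat.beq p (rt r3 4) && Nat.beq (axf A 1) (cm p 0)) &&
    Nat.beq (cm (axf A 1) 1) (rt r1 6) &&
    force (axf A 2) (fun d => Nat.beq d (rt r4 0) && Nat.beq (axf A 3) (cm d 2)) &&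
    force (axf A 4) (fun c => Nat.beq c (rt r3 0) && Nat.beq (axf A 5) (cm c 4)) &&
    Nat.beq (cm (rt r 3) 3) (rt (rowF (axf A 3)) 3) &&
    Nat.beq (cm (rt r 4) 5) (rt (rowF (axf A 5)) 4) &&
    force (axf A 6) (fun b => Nat.beq b (rt (rowF (rt (rowF (rt r2 3)) 4)) 0) && force (auxF b) fun A' =>
      Nat.beq (axf A 7) (axf A' 6) && Nat.beq (cm (axf A' 7) 7) i) &&
    Nat.beq (axf A 8) (rt (rowF (rt r3 0)) 3) && Nat.beq (axf A 9) (rt (rowF (rt r2 0)) 2) &&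
    Nat.beq (axf A 10) (rt (rowF (rt r4 0)) 4) && Nat.beq (axf A 11) (rt (rowF (rt r5 0)) 5) &&
    Nat.beq (cm (cm (cm (rt r0 2) 8) 9) 8) i && Nat.beq (cm (cm (cm (rt r0 5) 10) 11) 10) i

end Cfsg.Lib.ONPres
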