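import Cfsg.Agent.ONPres.RelCheck

/-!
Kernel checks of the relators on the coset table, block 0.
-/

set_option autoImplicit false

namespace Cfsg.Lib.ONPres

set_option maxRecDepth 100000 in
theorem rel_0_0 : rangeOK rel1 1023 0 = true := by decide +kernel

set_option maxRecDepth 100000 in
theorem rel_0_1 : rangeOK rel1 1023 1023 = true := by decide +kernel

set_option maxRecDepth 100000 in
theorem rel_0_2 : rangeOK rel1 1023 2046 = true := by decide +kernel

set_option maxRecDepth 100000 in
theorem rel_0_3 : rangeOK rel1 1023 3069 = true := by decide +kernel

set_option maxRecDepth 100000 in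
theorem rel_0_4 : rangeOK rel1 1023 4092 = true := by decide +kernel

set_option maxRecDepth 100000 in
theorem rel_0_5 : rangeOK rel1 1023 5115 = true := by decide +kernel

set_option maxRecDepth 100000 in
theorem rel_0_6 : rangeOK rel1 1023 6138 = true := by decide +kernel

set_option maxRecDepth 100000 in
theorem rel_0_7 : rangeOK rel1 1023 7161 = true := by decide +kernel

set_option maxRecDepth 100000 in
theorem rel_0_8 : rangeOK rel1 1023 8184 = true := by decide +kernel

set_option maxRecDepth 100000 in
theorem rel_0_9 : rangeOK rel1 1023 9207 = true := by decide +kernel

set_option maxRecDepth 100000 in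
theorem rel_0_10 : rangeOK rel1 1023 10230 = true := by decide +kernel

set_option maxRecDepth 100000 in
theorem rel_0_11 : rangeOK rel1 1023 11253 = true := by decide +kernel

set_option maxRecDepth 100000 in
theorem rel_0_12 : rangeOK rel1 1023 12276 = true := by decide +kernel

set_option maxRecDepth 100000 in
theorem rel_0_13 : rangeOK rel1 1023 13299 = true := by decide +kernel

set_option maxRecDepth 100000 in
theorem rel_0_14 : rangeOK rel1 1023 14322 = true := by decide +kernel

end Cfsg.Lib.ONPres
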