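import Cfsg.Agent.ONPres.Check

/-!
Kernel checks of rows of the coset table, block 3.
-/

set_option autoImplicit false

namespace Cfsg.Lib.ONPres

set_option maxRecDepth 100000 in
theorem rows_3_0 : rangeOK chk 1023 46035 = true := by decide +kernel

set_option maxRecDepth 100000 in
theorem rows_3_1 : rangeOK chk 1023 47058 = true := by decide +kernel

set_option maxRecDepth 100000 in
theorem rows_3_2 : rangeOK chk 1023 48081 = true := by decide +kernel

set_option maxRecDepth 100000 in
theorem rows_3_3 : rangeOK chk 1023 49104 = true := by decide +kernel

set_option maxRecDepth 100000 in
theorem rows_3_4 : rangeOK chk 1023 50127 = true := by decide +kernel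

set_option maxRecDepth 100000 in
theorem rows_3_5 : rangeOK chk 1023 51150 = true := by decide +kernel

set_option maxRecDepth 100000 in
theorem rows_3_6 : rangeOK chk 1023 52173 = true := by decide +kernel

set_option maxRecDepth 100000 in
theorem rows_3_7 : rangeOK chk 1023 53196 = true := by decide +kernel

set_option maxRecDepth 100000 in
theorem rows_3_8 : rangeOK chk 1023 54219 = true := by decide +kernel

set_option maxRecDepth 100000 in
theorem rows_3_9 : rangeOK chk 1023 55242 = true := by decide +kernel

set_option maxRecDepth 100000 in
theorem rows_3_10 : rangeOK chk 1023 56265 = true := by decide +kernel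

set_option maxRecDepth 100000 in
theorem rows_3_11 : rangeOK chk 1023 57288 = true := by decide +kernel

set_option maxRecDepth 100000 in
theorem rows_3_12 : rangeOK chk 1023 58311 = true := by decide +kernel

set_option maxRecDepth 100000 in
theorem rows_3_13 : rangeOK chk 1023 59334 = true := by decide +kernel

set_option maxRecDepth 100000 in
theorem rows_3_14 : rangeOK chk 1023 60357 = true := by decide +kernel

end Cfsg.Lib.ONPres
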